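import Groth.Agent.ArS10.Comp
import Groth.Agent.Curves2.BirationalPush
import Groth.Agent.FlatMor66.NormalStein
import Groth.Agent.LimTop61.NormalPoint
import Groth.Agent.CAlg9.BirationalPoint

/-!
Birational proper morphisms between surfaces: fibres over points of codimension one, and connected fibres.
-/

set_option autoImplicit false
set_option linter.style.haveILetI false
set_option backward.isDefEq.respectTransparency.types false

universe u

open CategoryTheory CategoryTheory.Limits AlgebraicGeometry TopologicalSpace

noncomputable section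

namespace Groth.Agent.ArS10

variable {X Y : Scheme.{u}} [IsIntegral X] [IsIntegral Y] (f : X ⟶ Y)
  (U : Y.Opens) (hU : (U : Set Y).Nonempty)

include hU in
theorem genericPoint_mem : genericPoint Y ∈ U := by
  obtain ⟨u, hu⟩ := hU
  exact ((genericPoint_spec Y).mem_open_set_iff U.2).2 ⟨u, trivial, hu⟩

include hU in
theorem map_genericPoint [IsIso (f ∣_ U)] : f (genericPoint X) = genericPoint Y := by
  obtain ⟨⟨x, hx⟩, h⟩ := (f ∣_ U).surjective ⟨genericPoint Y, genericPoint_mem U hU⟩
  have hfx : f x = genericPoint Y :=
    (morphismRestrict_base_coe f U ⟨x, hx⟩).symm.trans (congrArg Subtype.val h)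
  exact (Specializes.antisymm ((hfx ▸ (genericPoint_specializes x).map f.continuous :))
    (genericPoint_specializes _)).eq

include hU in
theorem surjective_of_birational [UniversallyClosed f] [IsIso (f ∣_ U)] : Function.Surjective f.base :=
  fun y => by
    obtain ⟨x, -, hx⟩ := (genericPoint_specializes y).mem_closed (f.isClosedMap _ isClosed_univ)
      ⟨genericPoint X, trivial, map_genericPoint f U hU⟩
    exact ⟨x, hx⟩

include hU in
theorem surjective_stalkMap_of_dvr [IsIso (f ∣_ U)] (x : X)
    (hdvr : ∃ _ : IsDomain (Y.presheaf.stalk (f x)), IsDiscreteValuationRing (Y.presheaf.stalk (f x))) :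
    Function.Surjective (f.stalkMap x) := by
  obtain ⟨_, hdvr⟩ := hdvr
  have hgen : f (genericPoint X) = genericPoint Y := map_genericPoint f U hU
  haveI : IsIso (f.stalkMap (genericPoint X)) :=
    CAlg9.BirationalPoint.isIso_stalkMap_of_restrict f U _ (hgen ▸ genericPoint_mem U hU)
  have hsm := ConcreteCategory.bijective_of_isIso (f.stalkMap (genericPoint X))
  have hηx : genericPoint X ⤳ x := genericPoint_specializes x
  have hηy : f (genericPoint X) ⤳ f x := f.base.hom.map_specializes hηx
  have hcomm : ∀ o, f.stalkMap (genericPoint X) (Y.presheaf.stalkSpecializes hηy o) =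
      X.presheaf.stalkSpecializes hηx (f.stalkMap x o) :=
    fun o => Scheme.Hom.stalkSpecializes_stalkMap_apply f _ _ hηx o
  have hiX := LimTop61.stalkSpecializes_injective rfl hηx
  have hiY := LimTop61.stalkSpecializes_injective hgen hηy
  have hinj : Function.Injective (f.stalkMap x) := fun o o' h => hiY (hsm.1 (by rw [hcomm, hcomm, h]))
  haveI : IsLocalHom (f.stalkMap x).hom := f.toLRSHom.prop x
  intro b
  obtain ⟨k, hk⟩ := hsm.2 (X.presheaf.stalkSpecializes hηx b)
  obtain ⟨a, t, ht, hat⟩ := (CAlg9.BirationalPoint.specializes_frac hηy).1 k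
  have e : b * f.stalkMap x t = f.stalkMap x a := hiX (by
    rw [map_mul, ← hcomm, ← hcomm, ← hk, ← map_mul, hat])
  have ht0 : t ≠ 0 := fun h => by
    rw [h, map_zero] at ht
    exact not_isUnit_zero ht
  have hft : f.stalkMap x t ≠ 0 := fun h => ht0 (hinj (h.trans (map_zero _).symm))
  haveI : IsDomain (X.presheaf.stalk x) := inferInstance
  by_cases hta : t ∣ a
  · obtain ⟨q, rfl⟩ := hta
    refine ⟨q, mul_left_cancel₀ hft ?_⟩
    rw [← map_mul, ← e, mul_comm]
  · obtain ⟨q, rfl⟩ := (ValuationRing.dvd_total t a).resolve_left hta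
    have ha0 : f.stalkMap x a ≠ 0 := fun h => by
      rw [map_mul, h, zero_mul] at hft
      exact hft rfl
    have h1 : b * f.stalkMap x q = 1 := mul_left_cancel₀ ha0 (by
      rw [mul_one, mul_left_comm, ← map_mul, e])
    have hq : IsUnit q := isUnit_of_map_unit (f.stalkMap x).hom q (IsUnit.of_mul_eq_one_right _ h1)
    obtain ⟨w, hw⟩ := hq.exists_left_inv
    refine ⟨w, ?_⟩
    calc f.stalkMap x w = b * f.stalkMap x q * f.stalkMap x w := by rw [h1, one_mul]
      _ = b := by rw [mul_assoc, ← map_mul, mul_comm q w, hw, map_one, mul_one]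

include hU in
/-- A point of codimension one of a normal scheme has a single preimage under a birational morphism. -/
theorem eq_of_specializes_of_dvr [IsIso (f ∣_ U)] {g c : X} (h : g ⤳ c) (hgc : f g = f c)
    (hdvr : ∃ _ : IsDomain (Y.presheaf.stalk (f c)), IsDiscreteValuationRing (Y.presheaf.stalk (f c))) :
    g = c := by
  have key : ∀ (p q : Y) (e : p = q) (hpq : p ⤳ q), Function.Surjective (Y.presheaf.stalkSpecializes hpq) := by
    rintro p q rfl hpq z
    exact ⟨z, by rw [TopCat.Presheaf.stalkSpecializes_refl]; rfl⟩
  have hsur : Function.Surjective (X.presheaf.stalkSpecializes h) := by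
    intro z
    have hdvr' : ∃ _ : IsDomain (Y.presheaf.stalk (f g)), IsDiscreteValuationRing (Y.presheaf.stalk (f g)) := by
      rw [hgc]; exact hdvr
    obtain ⟨a', rfl⟩ := surjective_stalkMap_of_dvr f U hU g hdvr' z
    obtain ⟨a, rfl⟩ := key _ _ hgc (f.base.hom.map_specializes h) a'
    exact ⟨f.stalkMap c a, (Scheme.Hom.stalkSpecializes_stalkMap_apply f _ _ h a).symm⟩
  have hinj : Function.Injective (X.presheaf.stalkSpecializes h) := fun o o' e => by
    have hc : genericPoint X ⤳ c := genericPoint_specializes c
    refine LimTop61.stalkSpecializes_injective rfl hc ?_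
    have := congrArg (X.presheaf.stalkSpecializes (genericPoint_specializes g)) e
    rwa [← CommRingCat.comp_apply, ← CommRingCat.comp_apply, TopCat.Presheaf.stalkSpecializes_comp] at this
  haveI : IsLocalHom (X.presheaf.stalkSpecializes h).hom := ⟨fun a ha => by
    obtain ⟨v, hv⟩ := ha.exists_right_inv
    obtain ⟨v', rfl⟩ := hsur v
    exact IsUnit.of_mul_eq_one v' (hinj (by rw [map_mul, map_one]; exact hv))⟩
  have h1 : X.fromSpecStalk c ((Spec.map (X.presheaf.stalkSpecializes h)) (IsLocalRing.closedPoint _)) = g := by
    refine (Scheme.Hom.comp_apply (Spec.map (X.presheaf.stalkSpecializes h)) (X.fromSpecStalk c) _).symm.trans ?_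
    rw [Scheme.SpecMap_stalkSpecializes_fromSpecStalk]
    exact Scheme.fromSpecStalk_closedPoint
  rw [show (Spec.map (X.presheaf.stalkSpecializes h)) (IsLocalRing.closedPoint _) =
      IsLocalRing.closedPoint (X.presheaf.stalk c) from IsLocalRing.comap_closedPoint _,
    Scheme.fromSpecStalk_closedPoint] at h1
  exact h1.symm

include hU in
/-- Fibres of a birational proper morphism onto a normal scheme are connected. -/
theorem isPreconnected_preimage [IsProper f] [IsIso (f ∣_ U)]
    (hN : ∀ y : Y, IsIntegrallyClosed (Y.presheaf.stalk y)) (y : Y) :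
    _root_.IsPreconnected (f.base ⁻¹' {y}) := by
  haveI := FlatMor66.NormalStein.geometricallyConnected_of_isIso_app f
    fun V => Curves2.isIso_app_of_birational f hN U hU V
  haveI : ConnectedSpace ↥(pullback f (Y.fromSpecResidueField y)) :=
    GeometricallyConnected.geometrically_connectedSpace (f := f) (Y.fromSpecResidueField y) _ _
      (IsPullback.of_hasPullback _ _)
  have h := isConnected_range (pullback.fst f (Y.fromSpecResidueField y)).continuous
  rw [Scheme.Pullback.range_fst, Scheme.range_fromSpecResidueField] at h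
  exact h.isPreconnected

end Groth.Agent.ArS10
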