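import Groth.Agent.ArS10.FactorBlowUp
import Groth.Agent.Res23.BlowPoint
import Groth.Agent.Res23.BlowProper
import Groth.Agent.Div89.BlowUp
import Groth.Agent.Div89.BlowRees
import Groth.Agent.FlatMor67.GenericFibre
import Groth.Agent.H98Strict.Transform

/-!
The blow-up of a surface at a regular closed point.
-/

set_option autoImplicit false
set_option linter.style.haveILetI false
set_option backward.isDefEq.respectTransparency.types false

universe u

open CategoryTheory CategoryTheory.Limits AlgebraicGeometry TopologicalSpace IsLocalRing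

noncomputable section

namespace Groth.Agent.ArS10

theorem support_idealSheaf_maximal (A : Type u) [CommRing A] [IsLocalRing A] :
    ((Curv2.idealSheaf A (maximalIdeal A)).support : Set (Spec (CommRingCat.of A))) = {closedPoint A} := by
  rw [Curv2.idealSheaf, Scheme.IdealSheafData.coe_support_ofIdealTop, Spec_zeroLocus, ← Ideal.coe_comap,
    Ideal.comap_map_of_bijective _ (ConcreteCategory.bijective_of_isIso (Scheme.ΓSpecIso (CommRingCat.of A)).inv)]
  show PrimeSpectrum.zeroLocus (maximalIdeal A : Set A) = _
  exact (PrimeSpectrum.closure_singleton (closedPoint A)).symm.trans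
    (isClosed_singleton_closedPoint A).closure_eq

theorem stalkIdeal_idealSheaf_maximal (A : Type u) [CommRing A] [IsLocalRing A] :
    Div89.stalkIdeal (Curv2.idealSheaf A (maximalIdeal A)) (closedPoint A : Spec (CommRingCat.of A)) =
      maximalIdeal ((Spec (CommRingCat.of A)).presheaf.stalk (closedPoint A)) := by
  rw [Div89.stalkIdeal_eq _ ⟨⊤, isAffineOpen_top _⟩ _ trivial, Curv2.idealSheaf,
    Scheme.IdealSheafData.ofIdealTop_ideal,
    show (homOfLE (le_top : (⊤ : (Spec (CommRingCat.of A)).Opens) ≤ ⊤)).op = 𝟙 _ from rfl,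
    CategoryTheory.Functor.map_id, CommRingCat.hom_id, Ideal.map_id, Ideal.map_map, ← CommRingCat.hom_comp]
  have e : (Scheme.ΓSpecIso (CommRingCat.of A)).inv ≫
      (Spec (CommRingCat.of A)).presheaf.germ ⊤ (closedPoint A) trivial =
      (stalkClosedPointIso (CommRingCat.of A)).inv := by
    rw [← ΓSpecIso_hom_stalkClosedPointIso_inv, Iso.inv_hom_id_assoc]
  refine Eq.trans (congrArg (fun t : CommRingCat.of A ⟶ (Spec (CommRingCat.of A)).presheaf.stalk (closedPoint A) =>
    Ideal.map t.hom (maximalIdeal A)) e) ?_
  exact map_maximalIdeal_of_surjective _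
    (ConcreteCategory.bijective_of_isIso (stalkClosedPointIso (CommRingCat.of A)).inv).2

theorem comap_vanishing_fromSpecStalk {Y : Scheme.{u}} {y : Y} (hy : IsClosed ({y} : Set Y)) :
    (Scheme.IdealSheafData.vanishingIdeal ⟨{y}, hy⟩).comap (Y.fromSpecStalk y) =
      Curv2.idealSheaf (Y.presheaf.stalk y) (maximalIdeal (Y.presheaf.stalk y)) := by
  set A := Y.presheaf.stalk y
  have hsupp := support_idealSheaf_maximal A
  refine Div89.ext_stalkIdeal fun q => ?_
  by_cases hq : q = closedPoint A
  · subst hq
    rw [Div89.stalkIdeal_comap]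
    have hst : Div89.stalkIdeal (Scheme.IdealSheafData.vanishingIdeal ⟨{y}, hy⟩)
        (Y.fromSpecStalk y (closedPoint A)) = maximalIdeal _ := by
      have key : ∀ p : Y, p = y → Div89.stalkIdeal (Scheme.IdealSheafData.vanishingIdeal ⟨{y}, hy⟩) p =
          maximalIdeal _ := by
        rintro p rfl
        exact stalkIdeal_vanishing_point hy
      exact key _ Scheme.fromSpecStalk_closedPoint
    rw [hst]
    refine Eq.trans ?_ (stalkIdeal_idealSheaf_maximal A).symm
    haveI : IsLocalHom ((Y.fromSpecStalk y).stalkMap (closedPoint A)).hom :=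
      (Y.fromSpecStalk y).toLRSHom.prop _
    exact map_maximalIdeal_of_surjective _ ((Y.fromSpecStalk y).stalkMap_surjective _)
  · rw [(Div89.notMem_support_iff_stalkIdeal _ _).1 (fun h => hq ?_),
      (Div89.notMem_support_iff_stalkIdeal _ _).1 (fun h => hq (hsupp.le h))]
    rw [Scheme.IdealSheafData.support_comap] at h
    have h' : Y.fromSpecStalk y q ∈ ((Scheme.IdealSheafData.vanishingIdeal ⟨{y}, hy⟩).support : Set Y) := h
    rw [Scheme.IdealSheafData.coe_support_vanishingIdeal] at h'
    exact (Y.fromSpecStalk y).isEmbedding.injective (h'.trans Scheme.fromSpecStalk_closedPoint.symm)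

/-- Over the centre the blow-up of a regular point of dimension two is regular. -/
theorem isRegular_stalk_over_point {Y Y' : Scheme.{u}} (π : Y' ⟶ Y) {y : Y} (hy : IsClosed ({y} : Set Y))
    (hπ : BlowUp.IsBlowUp π (Scheme.IdealSheafData.vanishingIdeal ⟨{y}, hy⟩))
    [IsRegularLocalRing (Y.presheaf.stalk y)] (hdim : ringKrullDim (Y.presheaf.stalk y) = 2)
    (z : Y') (hz : π z = y) : IsRegularLocalRing (Y'.presheaf.stalk z) := by
  let A := Y.presheaf.stalk y
  haveI := FlatMor67.flat_fromSpecStalk y
  have h := Div89.isBlowUp_flat_baseChange (Y.fromSpecStalk y) hπ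
  rw [comap_vanishing_fromSpecStalk hy, show Curv2.idealSheaf A (maximalIdeal A) =
    FSch.idealSpec A (maximalIdeal A) from (Div89.idealSpec_eq_ofIdealTop A _).symm] at h
  obtain ⟨w, -, hw⟩ := Scheme.Pullback.exists_preimage_pullback (f := Y.fromSpecStalk y) (g := π)
    (closedPoint A) z (Scheme.fromSpecStalk_closedPoint.trans hz.symm)
  haveI := Res23.BlowPoint.regular_stalk hdim (pullback.fst (Y.fromSpecStalk y) π) h w
  let s := pullback.snd (Y.fromSpecStalk y) π
  haveI : IsPreimmersion s := MorphismProperty.of_isPullback (IsPullback.of_hasPullback _ _) inferInstance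
  haveI : Flat s := MorphismProperty.of_isPullback (IsPullback.of_hasPullback _ _) inferInstance
  have hinj : Function.Injective (s.stalkMap w) := by
    letI := (s.stalkMap w).hom.toAlgebra
    haveI : Module.Flat (Y'.presheaf.stalk (s w)) ((pullback (Y.fromSpecStalk y) π).presheaf.stalk w) :=
      Flat.stalkMap s w
    haveI : IsLocalHom (algebraMap (Y'.presheaf.stalk (s w)) ((pullback (Y.fromSpecStalk y) π).presheaf.stalk w)) :=
      s.toLRSHom.prop w
    haveI : Module.FaithfullyFlat (Y'.presheaf.stalk (s w))
        ((pullback (Y.fromSpecStalk y) π).presheaf.stalk w) := Module.FaithfullyFlat.of_flat_of_isLocalHom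
    exact FaithfulSMul.algebraMap_injective (Y'.presheaf.stalk (s w))
      ((pullback (Y.fromSpecStalk y) π).presheaf.stalk w)
  rw [← hw]
  exact IsRegularLocalRing.of_ringEquiv
    (RingEquiv.ofBijective (s.stalkMap w).hom ⟨hinj, s.stalkMap_surjective w⟩).symm

/-- The blow-up of a regular closed point of dimension two is regular. -/
theorem isRegular_blowUp_point {Y Y' : Scheme.{u}} (π : Y' ⟶ Y) {y : Y} (hy : IsClosed ({y} : Set Y))
    (hπ : BlowUp.IsBlowUp π (Scheme.IdealSheafData.vanishingIdeal ⟨{y}, hy⟩))
    (hY : ∀ q : Y, IsRegularLocalRing (Y.presheaf.stalk q)) (hdim : ringKrullDim (Y.presheaf.stalk y) = 2)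
    (z : Y') : IsRegularLocalRing (Y'.presheaf.stalk z) := by
  by_cases hz : π z = y
  · haveI := hY y
    exact isRegular_stalk_over_point π hy hπ hdim z hz
  · haveI := hY (π z)
    haveI := Div89.isIso_off_center hπ
    haveI : IsIso (π.stalkMap z) := by
      refine CAlg9.BirationalPoint.isIso_stalkMap_of_restrict π
        (Scheme.IdealSheafData.vanishingIdeal ⟨{y}, hy⟩).support.compl z fun h => hz ?_
      have h' : π z ∈ ((Scheme.IdealSheafData.vanishingIdeal ⟨{y}, hy⟩).support : Set Y) := h
      rw [Scheme.IdealSheafData.coe_support_vanishingIdeal] at h'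
      exact h'
    exact IsRegularLocalRing.of_ringEquiv (asIso (π.stalkMap z)).commRingCatIsoToRingEquiv

end Groth.Agent.ArS10
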