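import Groth.Agent.ArS10.BlowPointReg

/-!
Local rings of the blow-up of a surface at a regular closed point as localizations of a chart.
-/

set_option autoImplicit false
set_option linter.style.haveILetI false
set_option backward.isDefEq.respectTransparency.types false

universe u

open CategoryTheory CategoryTheory.Limits AlgebraicGeometry TopologicalSpace IsLocalRing

noncomputable section

namespace Groth.Agent.ArS10

/-- The charts of the blow-up of a two-dimensional regular local ring. -/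
theorem exists_affine_chart_point (A : Type u) [CommRing A] [IsRegularLocalRing A] (hdim : ringKrullDim A = 2)
    {T : Scheme.{u}} (π' : T ⟶ Spec (CommRingCat.of A))
    (h : BlowUp.IsBlowUp π' (FSch.idealSpec A (maximalIdeal A))) (w : T) :
    ∃ (a b : A) (C : CommRingCat.{u}) (φ : CommRingCat.of A ⟶ C) (t : C) (j : Spec C ⟶ T) (p : Spec C),
      IsOpenImmersion j ∧ j p = w ∧ j ≫ π' = Spec.map φ ∧
      Ideal.span ({a, b} : Set A) = maximalIdeal A ∧
      (letI := φ.hom.toAlgebra; Algebra.adjoin A {t} = ⊤) ∧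
      φ a * t = φ b ∧ φ a ∈ nonZeroDivisors C ∧ IsDomain C ∧ Function.Injective φ ∧
      (∃ θ : C →+* MvPolynomial (Fin 1) (ResidueField A), Function.Surjective θ ∧ RingHom.ker θ = Ideal.span {φ a}) := by
  obtain ⟨a₀, c₀, hac⟩ := Res23.BlowPoint.exists_pair hdim
  obtain ⟨a, ha, hwa⟩ := FBlow13.exists_mem_chartOpen_of_span π' h.1 hac w
  obtain ⟨b, hab⟩ : ∃ b, Ideal.span ({a, b} : Set A) = maximalIdeal A := by
    rcases ha with rfl | rfl
    · exact ⟨c₀, hac⟩
    · exact ⟨a₀, by rw [Set.pair_comm]; exact hac⟩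
  have ham : a ∈ maximalIdeal A := hab ▸ Ideal.subset_span (by simp)
  have hbm : b ∈ maximalIdeal A := hab ▸ Ideal.subset_span (by simp)
  obtain ⟨e, he⟩ := FBlow13.exists_iso_chartOpen π' h ham
  obtain ⟨p, hp⟩ := e.hom.homeomorph.surjective ⟨w, hwa⟩
  obtain ⟨θ, hθ, hker, -⟩ := Res23.BlowPoint.exists_chart_quot hdim hab
  obtain ⟨t, ht⟩ := FBlow13.affineAlgebra_div (a := a) hbm
  haveI : IsDomain A := Ega11.RegLocal.isDomain A
  haveI : Nontrivial (BlowUp.affineAlgebra A (maximalIdeal A) a) := θ.domain_nontrivial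
  have hne : a ≠ 0 := fun e => nonZeroDivisors.ne_zero
    (FBlow13.affineAlgebra_nzd (𝔞 := maximalIdeal A) a) (by rw [e, map_zero])
  have hpow : Submonoid.powers a ≤ nonZeroDivisors A :=
    powers_le_nonZeroDivisors_of_noZeroDivisors hne
  haveI : IsDomain (Localization.Away a) := IsLocalization.isDomain_localization hpow
  have hdom : IsDomain (BlowUp.affineAlgebra A (maximalIdeal A) a) := inferInstance
  have hinjA : Function.Injective (algebraMap A (BlowUp.affineAlgebra A (maximalIdeal A) a)) :=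
    fun x y h => IsLocalization.injective (Localization.Away a) hpow (congrArg Subtype.val h)
  refine ⟨a, b, CommRingCat.of (BlowUp.affineAlgebra A (maximalIdeal A) a),
    CommRingCat.ofHom (algebraMap A _), t, e.hom ≫ (FBlow13.chartOpen π' (maximalIdeal A) a).ι, p,
    inferInstance, congrArg Subtype.val hp, by rw [Category.assoc]; exact he, hab, ?_, ?_,
    FBlow13.affineAlgebra_nzd a, hdom, hinjA, θ, hθ, hker⟩
  · rw [show (CommRingCat.ofHom (algebraMap A (BlowUp.affineAlgebra A (maximalIdeal A) a))).hom.toAlgebra =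
      (inferInstance : Algebra A (BlowUp.affineAlgebra A (maximalIdeal A) a)) from
        Algebra.algebra_ext _ _ fun _ => rfl]
    refine eq_top_iff.2 fun x _ => ?_
    let v : Fin 2 → A := ![a, b]
    have hv : Ideal.span (Set.range v) = maximalIdeal A := by
      rw [← hab]
      congr 1
      ext x
      simp [v, or_comm, eq_comm]
    have key : ∀ (I : Ideal A) (hI : I = Ideal.span (Set.range v)) (t' x' : BlowUp.affineAlgebra A I a),
        algebraMap A _ b = t' * algebraMap A _ a → x' ∈ Algebra.adjoin A {t'} := by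
      rintro _ rfl t' x' ht'
      have hμ : ∀ j : Fin 1, algebraMap A (BlowUp.affineAlgebra A (Ideal.span (Set.range v)) a) a *
          (MvPolynomial.aeval (R := A) (fun _ : Fin 1 => t')) (MvPolynomial.X j) =
            algebraMap A (BlowUp.affineAlgebra A (Ideal.span (Set.range v)) a) (v j.succ) := by
        intro j
        rw [MvPolynomial.aeval_X]
        fin_cases j
        exact (mul_comm _ _).trans ht'.symm
      obtain ⟨g', rfl⟩ := RegImm10.KoszulBlow.surjective v rfl
        (MvPolynomial.aeval (fun _ : Fin 1 => t')) hμ x'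
      have : (MvPolynomial.aeval fun _ : Fin 1 => t') g' ∈ (MvPolynomial.aeval (fun _ : Fin 1 => t')).range := ⟨g', rfl⟩
      rwa [← Algebra.adjoin_range_eq_range_aeval, Set.range_const] at this
    exact key _ hv.symm t x ht
  · show algebraMap A _ a * t = algebraMap A _ b
    rw [ht, mul_comm]

theorem toStalk_comp_eq {Y : Scheme.{u}} {y : Y} {C : CommRingCat.{u}} (φ : Y.presheaf.stalk y ⟶ C) (p : Spec C)
    {S : CommRingCat.{u}} (σ : Y.presheaf.stalk y ⟶ S) (τ : S ⟶ (Spec C).presheaf.stalk p)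
    (h : Spec.map τ ≫ Spec.map σ ≫ Y.fromSpecStalk y = (Spec C).fromSpecStalk p ≫ Spec.map φ ≫ Y.fromSpecStalk y) :
    φ ≫ StructureSheaf.toStalk C p = σ ≫ τ := by
  apply Spec.map_injective
  rw [← cancel_mono (Y.fromSpecStalk y)]
  have e2 : Spec.map (σ ≫ τ) ≫ Y.fromSpecStalk y = Spec.map τ ≫ Spec.map σ ≫ Y.fromSpecStalk y :=
    (congrArg (· ≫ Y.fromSpecStalk y) (Spec.map_comp σ τ)).trans (Category.assoc _ _ _)
  exact ((congrArg (· ≫ Y.fromSpecStalk y) (Spec.map_comp φ (StructureSheaf.toStalk C p))).trans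
    (Category.assoc _ _ _)).trans ((congrArg (· ≫ Spec.map φ ≫ Y.fromSpecStalk y)
      (Scheme.Spec_fromSpecStalk' C p).symm).trans (h.symm.trans e2.symm))

theorem exists_chart_point {Y Y' : Scheme.{u}} (π : Y' ⟶ Y) (z : Y') (hy : IsClosed ({π z} : Set Y))
    (hπ : BlowUp.IsBlowUp π (Scheme.IdealSheafData.vanishingIdeal ⟨{π z}, hy⟩))
    [IsRegularLocalRing (Y.presheaf.stalk (π z))] (hdim : ringKrullDim (Y.presheaf.stalk (π z)) = 2) :
    ∃ (a b : Y.presheaf.stalk (π z)) (C : CommRingCat.{u}) (φ : Y.presheaf.stalk (π z) ⟶ C) (t : C)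
      (P : Ideal C) (_ : P.IsPrime) (ψ : C ⟶ Y'.presheaf.stalk z),
      Ideal.span ({a, b} : Set _) = maximalIdeal _ ∧
      (letI := φ.hom.toAlgebra; Algebra.adjoin (Y.presheaf.stalk (π z)) {t} = ⊤) ∧
      φ a * t = φ b ∧ φ a ∈ nonZeroDivisors C ∧ IsDomain C ∧ Function.Injective φ ∧ φ a ∈ P ∧
      (∃ θ : C →+* MvPolynomial (Fin 1) (ResidueField (Y.presheaf.stalk (π z))),
        Function.Surjective θ ∧ RingHom.ker θ = Ideal.span {φ a}) ∧
      φ ≫ ψ = π.stalkMap z ∧ (letI := ψ.hom.toAlgebra; IsLocalization.AtPrime (Y'.presheaf.stalk z) P) := by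
  haveI := FlatMor67.flat_fromSpecStalk (π z)
  have h := Div89.isBlowUp_flat_baseChange (Y.fromSpecStalk (π z)) hπ
  rw [comap_vanishing_fromSpecStalk hy, show Curv2.idealSheaf (Y.presheaf.stalk (π z)) (maximalIdeal _) =
    FSch.idealSpec (Y.presheaf.stalk (π z)) (maximalIdeal _) from
      (Div89.idealSpec_eq_ofIdealTop (Y.presheaf.stalk (π z)) _).symm] at h
  obtain ⟨w, -, hw⟩ := Scheme.Pullback.exists_preimage_pullback (f := Y.fromSpecStalk (π z)) (g := π)
    (closedPoint (Y.presheaf.stalk (π z))) z Scheme.fromSpecStalk_closedPoint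
  set π' := pullback.fst (Y.fromSpecStalk (π z)) π
  let s := pullback.snd (Y.fromSpecStalk (π z)) π
  haveI : IsPreimmersion s := MorphismProperty.of_isPullback (IsPullback.of_hasPullback _ _) inferInstance
  haveI : Flat s := MorphismProperty.of_isPullback (IsPullback.of_hasPullback _ _) inferInstance
  haveI hsiso : IsIso (s.stalkMap w) := by
    have hinj : Function.Injective (s.stalkMap w) := by
      letI := (s.stalkMap w).hom.toAlgebra
      haveI : Module.Flat (Y'.presheaf.stalk (s w)) ((pullback (Y.fromSpecStalk (π z)) π).presheaf.stalk w) :=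
        Flat.stalkMap s w
      haveI : IsLocalHom (algebraMap (Y'.presheaf.stalk (s w))
          ((pullback (Y.fromSpecStalk (π z)) π).presheaf.stalk w)) := s.toLRSHom.prop w
      haveI : Module.FaithfullyFlat (Y'.presheaf.stalk (s w))
          ((pullback (Y.fromSpecStalk (π z)) π).presheaf.stalk w) := Module.FaithfullyFlat.of_flat_of_isLocalHom
      exact FaithfulSMul.algebraMap_injective (Y'.presheaf.stalk (s w))
        ((pullback (Y.fromSpecStalk (π z)) π).presheaf.stalk w)
    exact (ConcreteCategory.isIso_iff_bijective _).2 ⟨hinj, s.stalkMap_surjective w⟩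
  obtain ⟨a, b, C, φ, t, j, p, hj, hjp, hjφ, hab, hadj, ht, hnzd, hdom, hinjA, θ, hθ, hker⟩ :=
    exists_affine_chart_point (Y.presheaf.stalk (π z)) hdim π' h w
  obtain ⟨k, hk, hkp, hkiso⟩ : ∃ k : Spec C ⟶ Y', k ≫ π = Spec.map φ ≫ Y.fromSpecStalk (π z) ∧ k p = z ∧
      IsIso (k.stalkMap p) := by
    refine ⟨j ≫ s, ?_, ?_, ?_⟩
    · rw [Category.assoc, show s ≫ π = π' ≫ Y.fromSpecStalk (π z) from pullback.condition.symm,
        ← Category.assoc, hjφ]
    · show s (j p) = z
      rw [hjp]; exact hw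
    · have hs1 : IsIso (s.stalkMap (j p)) := by rw [hjp]; exact hsiso
      haveI := hj
      have hj1 : IsIso (j.stalkMap p) := inferInstance
      rw [Scheme.Hom.stalkMap_comp]
      exact @IsIso.comp_isIso _ _ _ _ _ _ _ hs1 hj1
  subst hkp
  let q : PrimeSpectrum C := p
  let g : C ⟶ (Spec C).presheaf.stalk p := StructureSheaf.toStalk C p
  have hgφ : φ ≫ g = π.stalkMap (k p) ≫ k.stalkMap p := by
    refine toStalk_comp_eq φ p _ _ ?_
    rw [Scheme.SpecMap_stalkMap_fromSpecStalk, ← Category.assoc, Scheme.SpecMap_stalkMap_fromSpecStalk,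
      Category.assoc, ← hk]
  have haP : φ a ∈ q.asIdeal := by
    have h1 : Spec.map φ p = closedPoint (Y.presheaf.stalk (π (k p))) := by
      apply (Y.fromSpecStalk (π (k p))).isEmbedding.injective
      rw [Scheme.fromSpecStalk_closedPoint, ← Scheme.Hom.comp_apply, ← hk]
      rfl
    have h2 : q.asIdeal.comap φ.hom = maximalIdeal _ := congrArg PrimeSpectrum.asIdeal h1
    exact Ideal.mem_comap.1 (h2.symm ▸ (hab ▸ Ideal.subset_span (by simp) : a ∈ maximalIdeal _))
  refine ⟨a, b, C, φ, t, q.asIdeal, q.isPrime,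
    g ≫ inv (k.stalkMap p), hab, hadj, ht, hnzd, hdom, hinjA, haP, ⟨θ, hθ, hker⟩, ?_, ?_⟩
  · rw [← Category.assoc, hgφ, Category.assoc, IsIso.hom_inv_id, Category.comp_id]
  · letI := (g ≫ inv (k.stalkMap p)).hom.toAlgebra
    refine IsLocalization.isLocalization_of_algEquiv (R := C) q.asIdeal.primeCompl
      (S := (Spec.structureSheaf C).presheaf.stalk q) ?_
    exact AlgEquiv.ofRingEquiv (f := (asIso (inv (k.stalkMap p))).commRingCatIsoToRingEquiv) fun x => rfl

end Groth.Agent.ArS10
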