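import Groth.Agent.ArS10.BlowPointReg
import Groth.Agent.FBlow13.Exist
import Groth.Agent.LimTop61.FiniteBirational
import Mathlib.AlgebraicGeometry.ZariskisMainTheorem

/-!
A birational morphism of regular surfaces with irreducible exceptional curve is the blow-up of a point.
-/

set_option autoImplicit false
set_option linter.style.haveILetI false
set_option backward.isDefEq.respectTransparency.types false

universe u

open CategoryTheory CategoryTheory.Limits AlgebraicGeometry TopologicalSpace IsLocalRing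

noncomputable section

namespace Groth.Agent.ArS10

theorem eq_two_of_le_two {d : WithBot ℕ∞} (h : d ≤ 2) (h' : ¬ d ≤ 1) : d = 2 := by
  induction d using WithBot.recBotCoe with
  | bot => exact absurd bot_le h'
  | coe a =>
    induction a using ENat.recTopCoe with
    | top => exact absurd h (by decide)
    | coe n =>
      have h1 : n ≤ 2 := by exact_mod_cast (WithBot.coe_le_coe.1 h)
      have h2 : ¬ n ≤ 1 := fun hn => h' (WithBot.coe_le_coe.2 (by exact_mod_cast hn))
      have : n = 2 := by omega
      subst this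
      rfl

theorem isDVR_of_dim_le_one {A : Type u} [CommRing A] [IsDomain A] [IsRegularLocalRing A]
    (h : ringKrullDim A ≤ 1) (hf : maximalIdeal A ≠ ⊥) : IsDiscreteValuationRing A := by
  haveI := FlatMor68.DedekindFlat.isPrincipalIdealRing_of_regular A h
  exact { not_a_field' := hf }

/-- The centre of a positive-dimensional fibre has dimension two. -/
theorem dim_stalk_eq_two_of_big {X Y : Scheme.{u}} [IsIntegral X] [IsIntegral Y] (f : X ⟶ Y)
    [NoetherianSpace X] [IsProper f] (hY : ∀ q : Y, IsRegularLocalRing (Y.presheaf.stalk q))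
    (hdY : topologicalKrullDim Y ≤ 2) (U : Y.Opens) (hU : (U : Set Y).Nonempty) [IsIso (f ∣_ U)]
    (y : Y) (hy : IsClosed ({y} : Set Y)) (hyU : y ∉ U)
    (hbig : ∃ x x' : X, x ≠ x' ∧ f.base x = y ∧ f.base x' = y) :
    ringKrullDim (Y.presheaf.stalk y) = 2 := by
  refine eq_two_of_le_two ((FlatMor68.DedekindFlat.stalk_dim_le y).trans hdY) fun hle => ?_
  haveI := hY y
  haveI := Ega11.RegLocal.isDomain (Y.presheaf.stalk y)
  have hN : ∀ q : Y, IsIntegrallyClosed (Y.presheaf.stalk q) := fun q => by
    haveI := hY q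
    haveI := Ega11.RegLocal.isDomain (Y.presheaf.stalk q)
    haveI := RegUFD52.ufm_of_regular (Y.presheaf.stalk q)
    infer_instance
  have hne : maximalIdeal (Y.presheaf.stalk y) ≠ ⊥ := fun h => hyU (by
    have h2 : (maximalIdeal (Y.presheaf.stalk (genericPoint Y))).comap
        (Y.presheaf.stalkSpecializes (genericPoint_specializes y)).hom = maximalIdeal (Y.presheaf.stalk y) :=
      le_antisymm (IsLocalRing.le_maximalIdeal (Ideal.IsPrime.comap (hK := inferInstance) _).ne_top)
        (h.le.trans bot_le)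
    rw [← eq_of_comap_eq_maximal _ h2]
    exact genericPoint_mem U hU)
  obtain ⟨a, b, hab, ha, hb⟩ := hbig
  obtain ⟨c, hc, hccl⟩ := (hy.preimage f.continuous).exists_closed_singleton ⟨a, ha⟩
  obtain ⟨z, hzc, hzne, hzy⟩ := exists_generization_in_fibre f hy (isPreconnected_preimage f U hU hN y) hc hccl (by
    rcases eq_or_ne a c with rfl | hac
    · exact ⟨b, hab.symm, hb⟩
    · exact ⟨a, hac, ha⟩)
  refine hzne (eq_of_specializes_of_dvr f U hU hzc (hzy.trans hc.symm) ?_)
  rw [show f c = y from hc]
  exact ⟨inferInstance, isDVR_of_dim_le_one hle hne⟩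

/-- A birational morphism of regular surfaces, an isomorphism off a point with irreducible infinite
fibre, is the blow-up of that point. -/
theorem isBlowUp_of_irreducible_fibre {X Y : Scheme.{u}} [IsIntegral X] [IsIntegral Y] (f : X ⟶ Y)
    [IsNoetherian X] [IsLocallyNoetherian Y] [IsProper f]
    (hX : ∀ x : X, IsRegularLocalRing (X.presheaf.stalk x)) (hY : ∀ q : Y, IsRegularLocalRing (Y.presheaf.stalk q))
    (hdX : topologicalKrullDim X ≤ 2) (hdY : topologicalKrullDim Y ≤ 2)
    (y : Y) (hy : IsClosed ({y} : Set Y)) (hne : ∃ q : Y, q ≠ y)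
    (hiso : IsIso (f ∣_ (⟨{y}ᶜ, hy.isOpen_compl⟩ : Y.Opens)))
    (hirr : IsPreirreducible (f.base ⁻¹' {y}))
    (hbig : ∃ x x' : X, x ≠ x' ∧ f.base x = y ∧ f.base x' = y) :
    BlowUp.IsBlowUp f (Scheme.IdealSheafData.vanishingIdeal ⟨{y}, hy⟩) := by
  classical
  set I := Scheme.IdealSheafData.vanishingIdeal ⟨{y}, hy⟩
  let U : Y.Opens := ⟨{y}ᶜ, hy.isOpen_compl⟩
  have hU : (U : Set Y).Nonempty := hne
  haveI : IsIso (f ∣_ U) := hiso
  have hcar := isEffCartier_comap_point f hX hY hdX hdY U hU y hy hbig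
  have hdim := dim_stalk_eq_two_of_big f hY hdY U hU y hy (fun h => h rfl) hbig
  obtain ⟨Y', π, hπ⟩ := FBlow13.exists_isBlowUp_scheme Y I
  haveI : IsProper π := Res23.isProper_of_isBlowUp hπ
  obtain ⟨g, hg, -⟩ := hπ.2 X f hcar
  haveI : IsProper g := by
    haveI : IsProper (g ≫ π) := by rw [hg]; infer_instance
    exact IsProper.of_comp g π
  have hsupp : ((I.comap π).support : Set Y') = π.base ⁻¹' {y} := by
    rw [Scheme.IdealSheafData.support_comap, Closeds.coe_preimage, Scheme.IdealSheafData.coe_support_vanishingIdeal]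
    rfl
  -- `g` is an isomorphism off the exceptional divisor
  haveI hπU : IsIso (π ∣_ U) := by
    have h1 := Div89.isIso_off_center hπ
    have e : I.support.compl = U := by
      apply Opens.ext
      show (I.support : Set Y)ᶜ = _
      rw [Scheme.IdealSheafData.coe_support_vanishingIdeal]
      rfl
    exact e ▸ h1
  haveI hgU : IsIso (g ∣_ π ⁻¹ᵁ U) := by
    subst hg
    have h1 : IsIso ((g ∣_ π ⁻¹ᵁ U) ≫ π ∣_ U) := by
      rw [← morphismRestrict_comp]
      exact hiso
    exact @IsIso.of_isIso_comp_right _ _ _ _ _ (g ∣_ π ⁻¹ᵁ U) (π ∣_ U) hπU h1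
  have hsurjU : ∀ w : Y', π w ≠ y → w ∈ Set.range g := fun w hw => by
    obtain ⟨x, hx⟩ := (g ∣_ π ⁻¹ᵁ U).surjective ⟨w, hw⟩
    exact ⟨x.1, (morphismRestrict_base_coe g (π ⁻¹ᵁ U) x).symm.trans (congrArg Subtype.val hx)⟩
  have hdense : Dense (π.base ⁻¹' {y})ᶜ := by
    haveI := (H98Strict.dominant_compl hπ.1).1
    haveI := (H98Strict.dominant_compl hπ.1).2
    have h1 : DenseRange (Scheme.Opens.ι (X := Y') (I.comap π).support.compl) :=
      (Scheme.Opens.ι (X := Y') (I.comap π).support.compl).denseRange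
    unfold DenseRange at h1
    rw [Scheme.Opens.range_ι] at h1
    have h2 : Dense ((I.comap π).support : Set Y')ᶜ := h1
    rwa [hsupp] at h2
  have hgsurj : Function.Surjective g.base := by
    rw [← Set.range_eq_univ, ← g.isClosedMap.isClosed_range.closure_eq, ← dense_iff_closure_eq]
    exact hdense.mono fun w hw => hsurjU w hw
  have hY'reg : ∀ z : Y', IsRegularLocalRing (Y'.presheaf.stalk z) :=
    isRegular_blowUp_point π hy hπ hY hdim
  haveI : ∀ z : Y', _root_.IsReduced (Y'.presheaf.stalk z) := fun z =>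
    haveI := hY'reg z
    haveI := Ega11.RegLocal.isDomain (Y'.presheaf.stalk z)
    inferInstance
  haveI : IsReduced Y' := isReduced_of_isReduced_stalk Y'
  haveI : IrreducibleSpace Y' := by
    refine (irreducibleSpace_def Y').2 ?_
    show IsIrreducible (Set.univ : Set Y')
    rw [← Set.range_eq_univ.2 hgsurj, ← Set.image_univ]
    exact IsIrreducible.image ((irreducibleSpace_def X).1 inferInstance) _ g.continuous.continuousOn
  haveI : IsIntegral Y' := (isIntegral_iff_irreducibleSpace_and_isReduced Y').2 ⟨inferInstance, inferInstance⟩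
  have hN' : ∀ z : Y', IsIntegrallyClosed (Y'.presheaf.stalk z) := fun z => by
    haveI := hY'reg z
    haveI := Ega11.RegLocal.isDomain (Y'.presheaf.stalk z)
    haveI := RegUFD52.ufm_of_regular (Y'.presheaf.stalk z)
    infer_instance
  haveI : IsLocallyNoetherian Y' := LocallyOfFiniteType.isLocallyNoetherian π
  have hgenX : f (genericPoint X) = genericPoint Y := map_genericPoint f U hU
  have hU' : ((π ⁻¹ᵁ U : Y'.Opens) : Set Y').Nonempty := by
    refine ⟨g (genericPoint X), ?_⟩
    show π (g (genericPoint X)) ≠ y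
    rw [← Scheme.Hom.comp_apply, hg, hgenX]
    exact genericPoint_mem U hU
  -- the fibre over the point
  obtain ⟨a, b, hab, ha, hb⟩ := hbig
  obtain ⟨ζ, hζ⟩ := QuasiSober.sober (α := X) (⟨⟨a, ha⟩, hirr⟩ : IsIrreducible (f.base ⁻¹' {y}))
    (hy.preimage f.continuous)
  have hηζ : genericPoint X ≠ ζ := fun e => by
    have h1 : f ζ = y := hζ.mem
    rw [← e, hgenX] at h1
    exact (genericPoint_mem U hU) h1
  have hclosed : ∀ c ∈ f.base ⁻¹' {y}, c ≠ ζ → IsClosed ({c} : Set X) := fun c hc hcζ => by
    rw [← closure_subset_iff_isClosed]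
    intro d hd
    rcases eq_of_dim_le_two hdX (genericPoint_specializes ζ) (hζ.specializes hc)
      (specializes_iff_mem_closure.2 hd) with e | e | e
    · exact absurd e hηζ
    · exact absurd e.symm hcζ
    · exact e.symm
  have hfib : ∀ x, π (g x) = f x := fun x => by rw [← Scheme.Hom.comp_apply, hg]
  -- no closed point swallows the whole fibre
  have hcontract : ∀ c, f c = y → c ≠ ζ → g c ≠ g ζ := by
    intro c hc hcζ he
    have hwcl : IsClosed ({g ζ} : Set Y') := by
      rw [← he, ← Set.image_singleton]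
      exact g.isClosedMap _ (hclosed c hc hcζ)
    have hall : ∀ w : Y', π w = y → w = g ζ := fun w hw => by
      obtain ⟨x, rfl⟩ := hgsurj w
      have : ζ ⤳ x := hζ.specializes ((hfib x).symm.trans hw)
      have h1 : g x ∈ closure ({g ζ} : Set Y') := (this.map g.continuous).mem_closure
      rw [hwcl.closure_eq] at h1
      exact h1
    have hd1 : ringKrullDim (Y'.presheaf.stalk (g ζ)) = 1 :=
      Div89.dim_stalk_eq_one_of_effCartier hπ.1 (hsupp.ge ((hfib ζ).trans hζ.mem))
        fun w hw _ => hall w (hsupp.le hw)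
    refine hcζ (eq_of_specializes_of_dvr g (π ⁻¹ᵁ U) hU' (hζ.specializes hc) he.symm ?_).symm
    haveI := hY'reg (g c)
    haveI := Ega11.RegLocal.isDomain (Y'.presheaf.stalk (g c))
    refine ⟨inferInstance, isDVR_of_dim_le_one (by rw [he]; exact hd1.le) fun h => ?_⟩
    rw [← he, ringKrullDim_eq_zero_of_isField (IsLocalRing.isField_iff_maximalIdeal_eq.2 h)] at hd1
    exact absurd hd1 (by norm_num)
  -- `g` has finite fibres
  haveI : LocallyQuasiFinite g := by
    refine LocallyQuasiFinite.of_finite_preimage_singleton g fun w => ?_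
    by_cases hw : π w = y
    · by_cases hwζ : w = g ζ
      · refine (Set.finite_singleton ζ).subset fun c hc => ?_
        have hc' : g c = w := hc
        by_contra hcζ
        exact hcontract c (by rw [← hfib, hc', hw]) hcζ (hc'.trans hwζ)
      · rcases (g.base ⁻¹' {w}).eq_empty_or_nonempty with he | ⟨c, hc⟩
        · exact (show (g.base ⁻¹' {w}) = ∅ from he) ▸ Set.finite_empty
        have hmem : ∀ c, g c = w → f c = y ∧ c ≠ ζ := fun c hc =>
          ⟨by rw [← hfib, hc, hw], fun e => hwζ (by rw [← hc, e])⟩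
        have hwcl : IsClosed ({w} : Set Y') := by
          rw [← show g c = w from hc, ← Set.image_singleton]
          exact g.isClosedMap _ (hclosed c (hmem c hc).1 (hmem c hc).2)
        obtain ⟨S, hS, hcl, hirr', hun⟩ := NoetherianSpace.exists_finite_set_isClosed_irreducible
          (hwcl.preimage g.continuous)
        refine (hS.biUnion (t := fun s => {z : X | IsGenericPoint z s}) fun s _ =>
          Set.Subsingleton.finite fun a ha b hb => ha.eq hb).subset fun z hz => ?_
        have hz1 : z ∈ g.base ⁻¹' {w} := hz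
        rw [hun] at hz1
        obtain ⟨s, hs, hzs⟩ := Set.mem_sUnion.1 hz1
        obtain ⟨v, hv⟩ := QuasiSober.sober (hirr' s hs) (hcl s hs)
        have hvw : v ∈ g.base ⁻¹' {w} := hun ▸ Set.mem_sUnion.2 ⟨s, hs, hv.mem⟩
        have hvz : v = z := by
          have h1 : z ∈ closure ({v} : Set X) := (hv.specializes hzs).mem_closure
          rw [(hclosed v (hmem v hvw).1 (hmem v hvw).2).closure_eq] at h1
          exact h1.symm
        exact Set.mem_biUnion hs (hvz ▸ hv : IsGenericPoint z s)
    · refine Set.Subsingleton.finite fun c hc c' hc' => ?_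
      exact CAlg9.BirationalPoint.injOn_of_restrict g (π ⁻¹ᵁ U)
        (show g c ∈ π ⁻¹ᵁ U by rw [show g c = w from hc]; exact hw) ((show g c = w from hc).trans (show g c' = w from hc').symm)
  haveI : IsFinite g := IsFinite.of_isProper_of_locallyQuasiFinite g
  have hgen' := map_genericPoint g (π ⁻¹ᵁ U) hU'
  haveI : IsIso g := LimTop61.isIso_of_isFinite_birational hN' g hgen'
    (CAlg9.BirationalPoint.isIso_stalkMap_of_restrict g (π ⁻¹ᵁ U) _ (hgen' ▸ genericPoint_mem _ hU'))
  refine ⟨hcar, fun T h hh => ?_⟩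
  obtain ⟨k, hk, hku⟩ := hπ.2 T h hh
  refine ⟨k ≫ inv g, ?_, fun k' hk' => ?_⟩
  · show (k ≫ inv g) ≫ f = h
    rw [← hg, Category.assoc, IsIso.inv_hom_id_assoc, hk]
  · have h3 : (k' ≫ g) ≫ π = h := (Category.assoc _ _ _).trans ((congrArg (k' ≫ ·) hg).trans hk')
    rw [← hku (k' ≫ g) h3]
    show k' = (k' ≫ g) ≫ inv g
    rw [Category.assoc, IsIso.hom_inv_id, Category.comp_id]

end Groth.Agent.ArS10
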