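import Groth.Agent.ArS10.PrincipalAlg
import Groth.Agent.ArS10.BlowChartPoint
import Groth.Agent.ArS10.IsBlowUpPoint
import Groth.Agent.FBlow13.Exist
import Groth.Agent.Div89.PullInj
import Groth.Prelude.Def_ModelsG

/-!
Principalization of ideal sheaves on a surface by blowing up points.
-/

set_option autoImplicit false
set_option linter.style.haveILetI false
set_option backward.isDefEq.respectTransparency.types false

universe u

open CategoryTheory CategoryTheory.Limits AlgebraicGeometry TopologicalSpace IsLocalRing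

noncomputable section

namespace Groth.Agent.ArS10

variable {X : Scheme.{u}}

/-- A Noetherian integral regular scheme of dimension at most two at each point. -/
def IsRegSurf (X : Scheme.{u}) : Prop :=
  IsIntegral X ∧ IsNoetherian X ∧ (∀ x : X, IsRegularLocalRing (X.presheaf.stalk x)) ∧
    ∀ x : X, ringKrullDim (X.presheaf.stalk x) ≤ 2

/-- Blow-ups of regular points of dimension two have exceptional curves of the first kind. -/
def ExcOfBlowUp : Prop :=
  ∀ {Y Y' : Scheme.{u}} (π : Y' ⟶ Y) (y : Y) (hy : IsClosed ({y} : Set Y)), IsNoetherian Y →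
    IsRegularLocalRing (Y.presheaf.stalk y) → ringKrullDim (Y.presheaf.stalk y) = 2 →
    BlowUp.IsBlowUp π (Scheme.IdealSheafData.vanishingIdeal ⟨{y}, hy⟩) →
    Models.IsExcCurve (BlowUp.exceptional π (Scheme.IdealSheafData.vanishingIdeal ⟨{y}, hy⟩)).subschemeι

theorem exists_nhd_isPrin [IsIntegral X] [IsLocallyNoetherian X] (J : X.IdealSheafData) (x : X)
    (h : IsPrin (Div89.stalkIdeal J x)) :
    ∀ᶠ y in nhds x, IsPrin (Div89.stalkIdeal J y) := by
  obtain ⟨g, hg0, hgI⟩ := h
  obtain ⟨U, hx⟩ := Div89.exists_affine_mem x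
  haveI : IsNoetherianRing Γ(X, U.1) := IsLocallyNoetherian.component_noetherian U
  let R := Γ(X, U.1)
  let S := X.presheaf.stalk x
  letI := Div89.stalkAlg U.1 x hx
  haveI := Div89.isLocalization_stalk U x hx
  have hg : g ∈ (J.ideal U).map (algebraMap R S) :=
    (hgI.trans rfl).ge.trans (Div89.stalkIdeal_eq J U x hx).le (Ideal.mem_span_singleton_self g)
  obtain ⟨⟨⟨a, ha⟩, s⟩, has⟩ :=
    (IsLocalization.mem_map_algebraMap_iff (Div89.primeAt U x hx).primeCompl S).1 hg
  have hspan : (J.ideal U).map (algebraMap R S) = Ideal.span {algebraMap R S a} := by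
    refine le_antisymm ?_ (by rw [Ideal.span_singleton_le_iff_mem]; exact Ideal.mem_map_of_mem _ ha)
    refine (Div89.stalkIdeal_eq J U x hx).symm.le.trans ?_
    rw [hgI, Ideal.span_singleton_le_iff_mem, ← has,
      ← Ideal.mul_unit_mem_iff_mem _ (IsLocalization.map_units S s)]
    exact Ideal.mem_span_singleton_self _
  have ha0 : a ≠ 0 := fun e => nonZeroDivisors.ne_zero hg0 (by
    have := (hgI.symm.trans ((Div89.stalkIdeal_eq J U x hx).trans hspan))
    rw [e, map_zero, Ideal.span_singleton_eq_bot.2 rfl, Ideal.span_singleton_eq_bot] at this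
    exact this)
  obtain ⟨gens, hgens⟩ := (IsNoetherian.noetherian (J.ideal U) : (J.ideal U).FG)
  have : ∀ c ∈ gens, ∃ t : R, t ∉ Div89.primeAt U x hx ∧ c * t ∈ Ideal.span ({a} : Set R) := by
    intro c hc
    have hc' : algebraMap R S c ∈ (Ideal.span {a}).map (algebraMap R S) := by
      rw [Ideal.map_span, Set.image_singleton, ← hspan]
      exact Ideal.mem_map_of_mem _ (hgens ▸ Ideal.subset_span hc)
    obtain ⟨⟨⟨b, hb⟩, t⟩, hbt⟩ :=
      (IsLocalization.mem_map_algebraMap_iff (Div89.primeAt U x hx).primeCompl S).1 hc'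
    rw [← map_mul] at hbt
    obtain ⟨w, hw⟩ := (IsLocalization.eq_iff_exists (Div89.primeAt U x hx).primeCompl S).1 hbt
    refine ⟨(w : R) * t, mul_mem (show (w : R) ∈ (Div89.primeAt U x hx).primeCompl from w.2) t.2, ?_⟩
    rw [show c * ((w : R) * t) = (w : R) * (c * t) by ring, hw]
    exact Ideal.mul_mem_left _ _ hb
  choose! t ht htmem using this
  let r := ∏ c ∈ gens, t c
  have hr : r ∉ Div89.primeAt U x hx :=
    prod_mem (S := (Div89.primeAt U x hx).primeCompl) fun c hc => ht c hc
  have hWU : X.basicOpen r ≤ U.1 := X.basicOpen_le r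
  rw [eventually_nhds_iff]
  refine ⟨(X.basicOpen r : Set X), fun y hy => ⟨(X.presheaf.germ U.1 y (hWU hy)).hom a,
    mem_nonZeroDivisors_of_ne_zero ?_, ?_⟩, (X.basicOpen r).2, (Div89.mem_basicOpen_iff_notMem U x hx r).2 hr⟩
  · exact fun e => ha0 ((germ_injective_of_isIntegral X y (hWU hy)) (e.trans (map_zero _).symm))
  rw [Div89.stalkIdeal_eq J U y (hWU hy)]
  refine le_antisymm ?_ (by rw [Ideal.span_singleton_le_iff_mem]; exact Ideal.mem_map_of_mem _ ha)
  rw [Ideal.map_le_iff_le_comap, ← hgens, Ideal.span_le]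
  intro c hc
  have hy' : IsUnit ((X.presheaf.germ U.1 y (hWU hy)).hom (t c)) :=
    isUnit_of_dvd_unit (map_dvd _ (Finset.dvd_prod_of_mem t hc)) ((X.mem_basicOpen r y (hWU hy)).1 hy)
  rw [SetLike.mem_coe, Ideal.mem_comap, ← Ideal.mul_unit_mem_iff_mem _ hy', ← map_mul,
    ← Set.image_singleton (f := (X.presheaf.germ U.1 y (hWU hy)).hom), ← Ideal.map_span]
  exact Ideal.mem_map_of_mem _ (htmem c hc)

theorem stalkSpecializes_injective_of_isIntegral [IsIntegral X] {d x : X} (h : x ⤳ d) :
    Function.Injective (X.presheaf.stalkSpecializes h) := fun o o' e => by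
  refine LimTop61.stalkSpecializes_injective rfl (genericPoint_specializes d) ?_
  have := congrArg (X.presheaf.stalkSpecializes (genericPoint_specializes x)) e
  rwa [← CommRingCat.comp_apply, ← CommRingCat.comp_apply, TopCat.Presheaf.stalkSpecializes_comp] at this

theorem isClosed_of_not_isPrin [IsIntegral X] (J : X.IdealSheafData)
    (hJ : ∀ x, ∃ n, Dec n (Div89.stalkIdeal J x)) {x : X} (hx : ¬ IsPrin (Div89.stalkIdeal J x)) :
    IsClosed ({x} : Set X) := by
  rw [← closure_subset_iff_isClosed]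
  intro d hd
  by_contra hne
  have h : x ⤳ d := specializes_iff_mem_closure.2 hd
  refine hx ?_
  rw [Div89.PullInj.stalkIdeal_specializes J h]
  obtain ⟨_, hd'⟩ := hJ d
  refine hd'.isPrin_of_generization _ (stalkSpecializes_injective_of_isIntegral h) ?_
  by_contra hc
  push Not at hc
  refine hne (Set.mem_singleton_iff.2 (eq_of_comap_eq_maximal h (le_antisymm
    (IsLocalRing.le_maximalIdeal (Ideal.IsPrime.comap (hK := inferInstance) _).ne_top) fun a ha => ?_)).symm)
  exact (mem_maximalIdeal _).2 (hc a ha)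

theorem finite_not_isPrin [IsIntegral X] [IsNoetherian X] (J : X.IdealSheafData)
    (hJ : ∀ x, ∃ n, Dec n (Div89.stalkIdeal J x)) : {x | ¬ IsPrin (Div89.stalkIdeal J x)}.Finite := by
  have hcl : IsClosed {x | ¬ IsPrin (Div89.stalkIdeal J x)} := by
    rw [← isOpen_compl_iff, isOpen_iff_eventually]
    intro x hx
    exact (exists_nhd_isPrin J x (not_not.1 hx)).mono fun y hy => not_not.2 hy
  obtain ⟨S, hS, hScl, hirr, hun⟩ := NoetherianSpace.exists_finite_set_isClosed_irreducible hcl
  rw [hun]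
  refine hS.sUnion fun s hs => ?_
  obtain ⟨v, hv⟩ := QuasiSober.sober (hirr s hs) (hScl s hs)
  have hvB : v ∈ {x | ¬ IsPrin (Div89.stalkIdeal J x)} := hun ▸ Set.mem_sUnion.2 ⟨s, hs, hv.mem⟩
  rw [← hv.def, (isClosed_of_not_isPrin J hJ hvB).closure_eq]
  exact Set.finite_singleton v

theorem dim_eq_two_of_not_isPrin (hX : IsRegSurf X) (J : X.IdealSheafData) {x : X}
    (hne : Div89.stalkIdeal J x ≠ ⊥) (hx : ¬ IsPrin (Div89.stalkIdeal J x)) :
    ringKrullDim (X.presheaf.stalk x) = 2 := by
  obtain ⟨-, -, hreg, hdim⟩ := hX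
  haveI := hreg x
  haveI := Ega11.RegLocal.isDomain (X.presheaf.stalk x)
  refine eq_two_of_le_two (hdim x) fun hle => hx ?_
  haveI := FlatMor68.DedekindFlat.isPrincipalIdealRing_of_regular (X.presheaf.stalk x) hle
  exact isPrin_of_isPrincipal hne

/-- The effect of blowing up one point. -/
theorem exists_step (hexc : ExcOfBlowUp.{u}) (hX : IsRegSurf X) {n : ℕ} (J : X.IdealSheafData)
    (hne : ∀ x, Div89.stalkIdeal J x ≠ ⊥) (hJ : ∀ x, Dec (n + 1) (Div89.stalkIdeal J x)) {x : X}
    (hx : ¬ Dec n (Div89.stalkIdeal J x)) :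
    ∃ (X' : Scheme.{u}) (π : X' ⟶ X),
      (∀ {X₀ : Scheme.{u}} (g : X ⟶ X₀), Models.IsContractionSeq g → Models.IsContractionSeq (π ≫ g)) ∧ IsProper π ∧ IsRegSurf X' ∧
      (∀ [IsIntegral X] [IsIntegral X'], π (genericPoint X') = genericPoint X) ∧
      (∀ z, Div89.stalkIdeal (J.comap π) z ≠ ⊥) ∧ (∀ z, Dec (n + 1) (Div89.stalkIdeal (J.comap π) z)) ∧
      Set.InjOn π {z | ¬ Dec n (Div89.stalkIdeal (J.comap π) z)} ∧
      ∀ z, ¬ Dec n (Div89.stalkIdeal (J.comap π) z) → π z ≠ x ∧ ¬ Dec n (Div89.stalkIdeal J (π z)) := by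
  classical
  obtain ⟨hint, hnoe, hreg, hdimX⟩ := id hX
  haveI := hint
  haveI := hnoe
  have hnp : ¬ IsPrin (Div89.stalkIdeal J x) := fun h => hx (h.dec n)
  have hy := isClosed_of_not_isPrin J (fun x => ⟨_, hJ x⟩) hnp
  have hdim := dim_eq_two_of_not_isPrin hX J (hne x) hnp
  set I := Scheme.IdealSheafData.vanishingIdeal ⟨{x}, hy⟩
  obtain ⟨X', π, hπ⟩ := FBlow13.exists_isBlowUp_scheme X I
  haveI : IsProper π := Res23.isProper_of_isBlowUp hπ
  haveI : IsLocallyNoetherian X' := LocallyOfFiniteType.isLocallyNoetherian π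
  haveI : CompactSpace X' := QuasiCompact.compactSpace_of_compactSpace π
  haveI : IsNoetherian X' := ⟨⟩
  have hreg' : ∀ z : X', IsRegularLocalRing (X'.presheaf.stalk z) :=
    isRegular_blowUp_point π hy hπ hreg hdim
  haveI : IsReduced X' := Div89.isReduced_blowUp hπ
  let U : X.Opens := ⟨{x}ᶜ, hy.isOpen_compl⟩
  haveI hπU : IsIso (π ∣_ U) := by
    have e : I.support.compl = U := by
      apply Opens.ext
      show (I.support : Set X)ᶜ = _
      rw [Scheme.IdealSheafData.coe_support_vanishingIdeal]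
      rfl
    exact e ▸ Div89.isIso_off_center hπ
  have hsupp : ((I.comap π).support : Set X') = π.base ⁻¹' {x} := by
    rw [Scheme.IdealSheafData.support_comap, Closeds.coe_preimage, Scheme.IdealSheafData.coe_support_vanishingIdeal]
    rfl
  have hgx : genericPoint X ≠ x := fun e => by
    haveI : Subsingleton X := ⟨fun a b => by
      have h1 : ∀ c : X, c = x := fun c =>
        Set.mem_singleton_iff.1 (hy.closure_eq.le (e ▸ genericPoint_specializes c : x ⤳ c).mem_closure)
      exact (h1 a).trans (h1 b).symm⟩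
    have h2 : ringKrullDim (X.presheaf.stalk x) ≤ 0 := by
      rw [ringKrullDim_stalk_eq_coheight]
      exact WithBot.coe_le_coe.2 (le_of_eq (Order.coheight_eq_zero.2 fun b hb => (Subsingleton.elim b x).le))
    rw [hdim] at h2
    exact absurd h2 (by decide)
  have hU : (U : Set X).Nonempty := ⟨genericPoint X, hgx⟩
  haveI : IrreducibleSpace X' := by
    haveI := (H98Strict.dominant_compl hπ.1).1
    have h1 : DenseRange (Scheme.Opens.ι (X := X') (I.comap π).support.compl) :=
      (Scheme.Opens.ι (X := X') (I.comap π).support.compl).denseRange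
    unfold DenseRange at h1
    rw [Scheme.Opens.range_ι] at h1
    have hd : Dense (π.base ⁻¹' {x})ᶜ := by
      have h2 : Dense ((I.comap π).support : Set X')ᶜ := h1
      rwa [hsupp] at h2
    haveI : IrreducibleSpace U := Subtype.irreducibleSpace
      ⟨hU, (irreducibleSpace_def X).1 inferInstance |>.2.open_subset U.2 (Set.subset_univ _)⟩
    haveI : IrreducibleSpace (π ⁻¹ᵁ U) := by
      refine (irreducibleSpace_def _).2 ?_
      show IsIrreducible (Set.univ : Set (π ⁻¹ᵁ U))
      rw [← Set.range_eq_univ.2 (inv (π ∣_ U)).surjective, ← Set.image_univ]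
      exact IsIrreducible.image ((irreducibleSpace_def U).1 inferInstance) _ (inv (π ∣_ U)).continuous.continuousOn
    refine (irreducibleSpace_def X').2 ?_
    show IsIrreducible (Set.univ : Set X')
    rw [← hd.closure_eq]
    have himg := IsIrreducible.image ((irreducibleSpace_def (π ⁻¹ᵁ U)).1 inferInstance)
      (Subtype.val : (π ⁻¹ᵁ U) → X') continuous_subtype_val.continuousOn
    rw [Set.top_eq_univ, Set.image_univ] at himg
    have e : Set.range (Subtype.val : (π ⁻¹ᵁ U) → X') = (π.base ⁻¹' {x})ᶜ := Subtype.range_coe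
    exact (e ▸ himg : IsIrreducible (π.base ⁻¹' {x})ᶜ).closure
  haveI : IsIntegral X' := (isIntegral_iff_irreducibleSpace_and_isReduced X').2 ⟨inferInstance, inferInstance⟩
  have hloc : ∀ z, π z ≠ x → IsIso (π.stalkMap z) := fun z hz =>
    CAlg9.BirationalPoint.isIso_stalkMap_of_restrict π U z hz
  -- the local structure over the centre
  have hover : ∀ z, π z = x → ringKrullDim (X'.presheaf.stalk z) ≤ 2 ∧
      Function.Injective (π.stalkMap z) ∧ Dec n ((Div89.stalkIdeal J (π z)).map (π.stalkMap z).hom) := by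
    intro z hz
    subst hz
    haveI := hreg (π z)
    haveI := hreg' z
    haveI := Ega11.RegLocal.isDomain (X.presheaf.stalk (π z))
    haveI := Ega11.RegLocal.isDomain (X'.presheaf.stalk z)
    obtain ⟨a, b, C, φ, t, P, hP, ψ, hab, hadj, ht, -, hdom, hinjA, haP, ⟨θ, hθ, hker⟩, hcomp, hloc'⟩ :=
      exists_chart_point π z hy hπ hdim
    letI := φ.hom.toAlgebra
    letI := ψ.hom.toAlgebra
    haveI := hP
    haveI := hdom
    haveI := hloc'
    haveI : IsNoetherianRing C := by
      haveI : Algebra.FiniteType (X.presheaf.stalk (π z)) C := ⟨⟨{t}, by rw [Finset.coe_singleton]; exact hadj⟩⟩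
      exact Algebra.FiniteType.isNoetherianRing (X.presheaf.stalk (π z)) C
    have hψinj : Function.Injective ψ.hom :=
      IsLocalization.injective (X'.presheaf.stalk z) P.primeCompl_le_nonZeroDivisors
    have hcomp' : ψ.hom.comp φ.hom = (π.stalkMap z).hom := by rw [← hcomp, CommRingCat.hom_comp]
    have hinj : Function.Injective (ψ.hom.comp φ.hom) := hψinj.comp hinjA
    refine ⟨dim_le_two_of_chart P θ hθ hker haP, fun p q h => hinj (by rw [hcomp']; exact h), ?_⟩
    rw [← hcomp']
    refine dec_step hab hadj ht (fun hart => ?_) ψ.hom (fun w => ?_) hinj (hJ _) hnp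
    · have h0 : ringKrullDim (X.presheaf.stalk (π z)) ≤ ((0 : ℕ) : WithBot ℕ∞) :=
        Ring.krullDimLE_iff.1 inferInstance
      rw [hdim] at h0
      exact absurd h0 (by decide)
    · obtain ⟨⟨c, s⟩, hs⟩ := IsLocalization.surj P.primeCompl w
      exact ⟨c, s, IsLocalization.map_units (X'.presheaf.stalk z) s, hs⟩
  have hoff : ∀ z, π z ≠ x → ringKrullDim (X'.presheaf.stalk z) ≤ 2 ∧
      Function.Injective (π.stalkMap z) ∧ ∀ m, Dec m (Div89.stalkIdeal J (π z)) →
        Dec m ((Div89.stalkIdeal J (π z)).map (π.stalkMap z).hom) := by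
    intro z hz
    haveI := hloc z hz
    haveI := hreg (π z)
    haveI := hreg' z
    haveI := Ega11.RegLocal.isDomain (X.presheaf.stalk (π z))
    haveI := Ega11.RegLocal.isDomain (X'.presheaf.stalk z)
    have hb := ConcreteCategory.bijective_of_isIso (π.stalkMap z)
    refine ⟨?_, hb.1, fun m hm => hm.map_surjective _ hb.2 hb.1⟩
    rw [← ringKrullDim_eq_of_ringEquiv (asIso (π.stalkMap z)).commRingCatIsoToRingEquiv]
    exact hdimX _
  have hinjAll : ∀ z, Function.Injective (π.stalkMap z) := fun z =>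
    (eq_or_ne (π z) x).elim (fun h => (hover z h).2.1) (fun h => (hoff z h).2.1)
  refine ⟨X', π, ?_, inferInstance, ⟨inferInstance, inferInstance, hreg', fun z =>
    (eq_or_ne (π z) x).elim (fun h => (hover z h).1) (fun h => (hoff z h).1)⟩, ?_, fun z => ?_, fun z => ?_,
    fun z₁ h₁ z₂ h₂ e => ?_, fun z hz => ?_⟩
  · have hexc' := hexc π x hy hnoe (hreg x) hdim hπ
    intro X₀ g hg
    refine Models.IsContractionSeq.step (I.comap π).subschemeι π g inferInstance hexc'
      ⟨hnoe, inferInstance, x, hy, ?_, hreg x, hdim, hπ⟩ hg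
    rw [Scheme.Hom.comp_base, TopCat.coe_comp, Set.range_comp, Scheme.IdealSheafData.range_subschemeι]
    show π.base '' ((I.comap π).support : Set X') = {x}
    rw [hsupp, Set.image_preimage_eq_inter_range, Set.inter_eq_left, Set.singleton_subset_iff]
    exact surjective_of_birational π U hU x
  · intro _ _
    exact map_genericPoint π U hU
  · rw [Div89.stalkIdeal_comap, Ne, Ideal.map_eq_bot_iff_of_injective (hinjAll z)]
    exact hne _
  · rw [Div89.stalkIdeal_comap]
    rcases eq_or_ne (π z) x with h | h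
    · obtain ⟨g, hg, J', he, hl⟩ := (hover z h).2.2
      exact ⟨g, hg, J', he, hl.trans (by exact_mod_cast n.le_succ)⟩
    · exact (hoff z h).2.2 _ (hJ _)
  · have h : ∀ z, ¬ Dec n (Div89.stalkIdeal (J.comap π) z) → π z ∈ U := fun z hz e => hz (by
      rw [Div89.stalkIdeal_comap]
      exact (hover z e).2.2)
    exact CAlg9.BirationalPoint.injOn_of_restrict π U (h z₁ h₁) e
  · have h1 : π z ≠ x := fun e => hz (by rw [Div89.stalkIdeal_comap]; exact (hover z e).2.2)
    exact ⟨h1, fun h => hz (by rw [Div89.stalkIdeal_comap]; exact (hoff z h1).2.2 _ h)⟩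

/-- Ideal sheaves of locally bounded colength become invertible after finitely many point blow-ups. -/
theorem exists_principalization (hexc : ExcOfBlowUp.{u}) : ∀ (n : ℕ) {X : Scheme.{u}}, IsRegSurf X →
    ∀ J : X.IdealSheafData, (∀ x, Div89.stalkIdeal J x ≠ ⊥) → (∀ x, Dec n (Div89.stalkIdeal J x)) →
    ∃ (X' : Scheme.{u}) (f : X' ⟶ X),
      (∀ {X₀ : Scheme.{u}} (g : X ⟶ X₀), Models.IsContractionSeq g → Models.IsContractionSeq (f ≫ g)) ∧ IsProper f ∧ IsRegSurf X' ∧
      (∀ [IsIntegral X] [IsIntegral X'], f (genericPoint X') = genericPoint X) ∧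
      ∀ z, IsPrin (Div89.stalkIdeal (J.comap f) z) := by
  intro n
  induction n with
  | zero =>
    intro X hX J _ hJ
    refine ⟨X, 𝟙 X, fun g hg => by rwa [Category.id_comp], inferInstance, hX, fun {_ _} => rfl, fun z => ?_⟩
    rw [Scheme.IdealSheafData.comap_id]
    exact isPrin_of_dec_zero (hJ z)
  | succ n ih =>
    suffices key : ∀ (k : ℕ) {X : Scheme.{u}}, IsRegSurf X → ∀ J : X.IdealSheafData,
        (∀ x, Div89.stalkIdeal J x ≠ ⊥) → (∀ x, Dec (n + 1) (Div89.stalkIdeal J x)) →
        {x | ¬ Dec n (Div89.stalkIdeal J x)}.ncard ≤ k →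
        ∃ (X' : Scheme.{u}) (f : X' ⟶ X),
          (∀ {X₀ : Scheme.{u}} (g : X ⟶ X₀), Models.IsContractionSeq g → Models.IsContractionSeq (f ≫ g)) ∧
            IsProper f ∧ IsRegSurf X' ∧
          (∀ [IsIntegral X] [IsIntegral X'], f (genericPoint X') = genericPoint X) ∧
          ∀ z, IsPrin (Div89.stalkIdeal (J.comap f) z) from
      fun {X} hX J hne hJ => key _ hX J hne hJ le_rfl
    intro k
    induction k with
    | zero =>
      intro X hX J hne hJ hk
      haveI := hX.1
      haveI := hX.2.1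
      have hfin := (finite_not_isPrin J fun x => ⟨_, hJ x⟩).subset fun x (hx : ¬ Dec n (Div89.stalkIdeal J x)) =>
        show ¬ IsPrin (Div89.stalkIdeal J x) from fun h => hx (h.dec n)
      have hemp := (Set.ncard_eq_zero hfin).1 (Nat.le_zero.1 hk)
      exact ih hX J hne fun x => not_not.1 fun h => (Set.eq_empty_iff_forall_notMem.1 hemp x) h
    | succ k ihk =>
      intro X hX J hne hJ hk
      by_cases hall : ∀ x, Dec n (Div89.stalkIdeal J x)
      · exact ih hX J hne hall
      push Not at hall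
      obtain ⟨x, hx⟩ := hall
      obtain ⟨X₁, π, hπs, hπp, hX₁, hgen, hne₁, hJ₁, hinj, hsub⟩ := exists_step hexc hX J hne hJ hx
      haveI := hX.1
      haveI := hX.2.1
      haveI := hX₁.1
      have hfin := (finite_not_isPrin J fun x => ⟨_, hJ x⟩).subset fun x (hx : ¬ Dec n (Div89.stalkIdeal J x)) =>
        show ¬ IsPrin (Div89.stalkIdeal J x) from fun h => hx (h.dec n)
      have hcard : {z | ¬ Dec n (Div89.stalkIdeal (J.comap π) z)}.ncard ≤ k := by
        have h1 : {z | ¬ Dec n (Div89.stalkIdeal (J.comap π) z)}.ncard ≤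
            ({y | ¬ Dec n (Div89.stalkIdeal J y)} \ {x}).ncard :=
          Set.ncard_le_ncard_of_injOn π (fun z hz => ⟨(hsub z hz).2, (hsub z hz).1⟩) hinj (hfin.subset Set.sdiff_subset)
        rw [Set.ncard_sdiff_singleton_of_mem (show x ∈ {y | ¬ Dec n (Div89.stalkIdeal J y)} from hx)] at h1
        omega
      obtain ⟨X', f, hfs, hfp, hX', hfgen, hP⟩ := ihk hX₁ _ hne₁ hJ₁ hcard
      haveI := hπp
      haveI := hfp
      refine ⟨X', f ≫ π, fun g hg => by rw [Category.assoc]; exact hfs _ (hπs g hg), inferInstance, hX', fun {_ _} => ?_, fun z => ?_⟩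
      · rw [Scheme.Hom.comp_apply, hfgen, hgen]
      · rw [Scheme.IdealSheafData.comap_comp]
        exact hP z

end Groth.Agent.ArS10
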