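import Groth.Agent.ArS10.ExcCurveSections
import Groth.Agent.ArS10.Principalize
import Groth.Agent.VarNorm.Delta
import Groth.Agent.Curves2.ProjLine
import Groth.Agent.S10829

/-!
The exceptional divisor of the blow-up of a regular point of a surface is an exceptional curve of the
first kind.
-/

set_option autoImplicit false
set_option linter.style.haveILetI false
set_option backward.isDefEq.respectTransparency false

universe u

open CategoryTheory CategoryTheory.Limits AlgebraicGeometry TopologicalSpace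

noncomputable section

namespace Groth.Agent.ArS10

/-- A closed subscheme of the projective line over a field with a point that is not closed is the
whole line. -/
theorem surjective_of_closedImmersion_P1 {k : Type u} [Field k] {E : Scheme.{u}} (i : E ⟶ CohB1.ProjSpace 1 k)
    [IsClosedImmersion i] {η x : E} (h : η ⤳ x) (hne : η ≠ x) : Surjective i := by
  haveI := Curves2.ProjLine.isIntegral k 1
  haveI := Approx60.Segre.isProper_toSpec k 1
  haveI : IsLocallyNoetherian (CohB1.ProjSpace 1 k) :=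
    LocallyOfFiniteType.isLocallyNoetherian (CohB1.ProjSpace.toSpec 1 k)
  have hd : topologicalKrullDim (CohB1.ProjSpace 1 k) ≤ 1 := (S10829.result k 1).le.trans (by norm_num)
  have hnc : ¬ IsClosed ({i η} : Set (CohB1.ProjSpace 1 k)) := fun hc =>
    hne (i.isClosedEmbedding.injective (((h.map i.continuous).mem_closed hc rfl).symm))
  have hgen := VarNorm.eq_genericPoint_of_not_isClosed _ hd hnc
  refine ⟨fun z => ?_⟩
  have h1 : genericPoint (CohB1.ProjSpace 1 k) ∈ Set.range i := ⟨η, hgen⟩
  exact (genericPoint_specializes z).mem_closed i.isClosedEmbedding.isClosed_range h1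

/-- The exceptional divisor of a blow-up of a regular point is the projective line over the residue field,
with conormal sheaf `O(1)`. -/
theorem exists_iso_exceptional {Y Y' : Scheme.{u}} [IsLocallyNoetherian Y] (b : Y' ⟶ Y) {y : Y}
    (hy : IsClosed ({y} : Set Y)) (hreg : IsRegularLocalRing (Y.presheaf.stalk y))
    (hdim : ringKrullDim (Y.presheaf.stalk y) = 2)
    (hb : BlowUp.IsBlowUp b (Scheme.IdealSheafData.vanishingIdeal ⟨{y}, hy⟩)) :
    ∃ e : CohB1.ProjSpace 1 (Y.residueField y) ≅
        (BlowUp.exceptional b (Scheme.IdealSheafData.vanishingIdeal ⟨{y}, hy⟩)).subscheme,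
      e.hom ≫ (BlowUp.exceptional b (Scheme.IdealSheafData.vanishingIdeal ⟨{y}, hy⟩)).subschemeι ≫ b =
          CohB1.ProjSpace.toSpec 1 (Y.residueField y) ≫ Y.fromSpecResidueField y ∧
        Nonempty ((Scheme.Modules.pullback (e.hom ≫
            (BlowUp.exceptional b (Scheme.IdealSheafData.vanishingIdeal ⟨{y}, hy⟩)).subschemeι)).obj
            (ClSub.idealMod (BlowUp.exceptional b (Scheme.IdealSheafData.vanishingIdeal ⟨{y}, hy⟩))) ≅
          Twist.twistProjSpace 1 (Y.residueField y) 1) := by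
  obtain ⟨U, hU, a, hyU, ha⟩ := exists_affine_pair hy hreg hdim
  let π : Γ(Y, U) →+* Y.residueField y := (Y.presheaf.germ U y hyU ≫ Y.residue y).hom
  have hvI := vanishingIdeal_singleton_ideal hy ⟨U, hU⟩ hyU
  letI := Y.presheaf.algebra_section_stalk ⟨y, hyU⟩
  haveI := hU.isLocalization_stalk ⟨y, hyU⟩
  have hker : RingHom.ker π = (Scheme.IdealSheafData.vanishingIdeal ⟨{y}, hy⟩).ideal ⟨U, hU⟩ := by
    rw [hvI.1]
    ext z
    show IsLocalRing.residue _ (algebraMap Γ(Y, U) (Y.presheaf.stalk y) z) = 0 ↔ _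
    rw [IsLocalRing.residue_eq_zero_iff]
    exact IsLocalization.AtPrime.to_map_mem_maximal_iff _ _ z
  have hπ : Function.Surjective π := by
    haveI hPmax : (hU.primeIdealOf ⟨y, hyU⟩).asIdeal.IsMaximal := hvI.1 ▸ hvI.2
    intro w
    obtain ⟨v, rfl⟩ := IsLocalRing.residue_surjective w
    obtain ⟨z, t, rfl⟩ := IsLocalization.exists_mk'_eq (hU.primeIdealOf ⟨y, hyU⟩).asIdeal.primeCompl v
    obtain ⟨r, i, hi, hri⟩ := hPmax.exists_inv t.2
    refine ⟨z * r, ?_⟩
    show IsLocalRing.residue _ (algebraMap Γ(Y, U) (Y.presheaf.stalk y) (z * r)) = _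
    rw [← sub_eq_zero, ← map_sub, IsLocalRing.residue_eq_zero_iff,
      ← Ideal.mul_unit_mem_iff_mem _ (IsLocalization.map_units (Y.presheaf.stalk y) t), sub_mul,
      IsLocalization.mk'_spec, ← map_mul, ← map_sub, IsLocalization.AtPrime.to_map_mem_maximal_iff (Y.presheaf.stalk y) (hU.primeIdealOf ⟨y, hyU⟩).asIdeal,
      show z * r * (t : Γ(Y, U)) - z = -(z * i) by linear_combination z * hri]
    exact neg_mem (Ideal.mul_mem_left _ _ hi)
  obtain ⟨i, hi, hfac, ⟨τ⟩⟩ := exists_immersion_exceptional b hy hb hU hyU a ha (Y.residueField y) π hπ hker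
  obtain ⟨x₁, x₂, hx₁, hx₂, hne⟩ := fibre_nontrivial hy hreg hdim hb
  obtain ⟨η, hη, hgen, -⟩ := Res23.BlowPointFibre.exists_generic_fibre hy hreg hdim hb
  obtain ⟨x, hx, hxη⟩ : ∃ x, b x = y ∧ η ≠ x := by
    by_cases h : η = x₁
    · exact ⟨x₂, hx₂, fun h2 => hne (h.symm.trans h2)⟩
    · exact ⟨x₁, hx₁, h⟩
  let I := Scheme.IdealSheafData.vanishingIdeal (⟨{y}, hy⟩ : Closeds Y)
  let J := BlowUp.exceptional b I
  have hrange : ∀ w : Y', b w = y → ∃ e : J.subscheme, J.subschemeι e = w := by
    intro w hw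
    have h1 : w ∈ ((I.support.preimage b.continuous : Closeds Y') : Set Y') := hw
    rw [← Scheme.IdealSheafData.support_comap] at h1
    rw [← Set.mem_range, Scheme.IdealSheafData.range_subschemeι]
    exact h1
  obtain ⟨η', hη'⟩ := hrange η hη
  obtain ⟨x', hx'⟩ := hrange x hx
  haveI := hi
  haveI : Surjective i := surjective_of_closedImmersion_P1 i (η := η') (x := x')
    (J.subschemeι.isEmbedding.isInducing.specializes_iff.1 (by rw [hη', hx']; exact hgen x hx))
    (fun h => hxη (by rw [← hη', ← hx', h]))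
  haveI := Curves2.ProjLine.isIntegral (Y.residueField y) 1
  haveI : IsIso i := isIso_of_isClosedImmersion_of_surjective i
  refine ⟨(asIso i).symm, ?_, ⟨((Scheme.Modules.pullbackComp (inv i) J.subschemeι).app _).symm ≪≫
    (Scheme.Modules.pullback (inv i)).mapIso τ.symm ≪≫ (Scheme.Modules.pullbackComp (inv i) i).app _ ≪≫
    (Scheme.Modules.pullbackCongr (IsIso.inv_hom_id i)).app _ ≪≫ (Scheme.Modules.pullbackId _).app _⟩⟩
  show inv i ≫ J.subschemeι ≫ b = _
  rw [IsIso.inv_comp_eq, ← hfac]
  congr 2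
  have h1 : CommRingCat.ofHom π = Y.presheaf.germ U y hyU ≫ Y.residue y := rfl
  rw [h1, Spec.map_comp, Category.assoc, Scheme.fromSpecResidueField]
  exact congrArg (Spec.map (Y.residue y) ≫ ·) (hU.fromSpecStalk_eq_fromSpecStalk hyU)

/-- The exceptional divisor of a blow-up of a regular point of dimension two. -/
theorem isExcCurve_exceptional {Y Y' : Scheme.{u}} [IsLocallyNoetherian Y] (b : Y' ⟶ Y) {y : Y}
    (hy : IsClosed ({y} : Set Y)) (hreg : IsRegularLocalRing (Y.presheaf.stalk y))
    (hdim : ringKrullDim (Y.presheaf.stalk y) = 2)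
    (hb : BlowUp.IsBlowUp b (Scheme.IdealSheafData.vanishingIdeal ⟨{y}, hy⟩)) :
    Models.IsExcCurve (BlowUp.exceptional b (Scheme.IdealSheafData.vanishingIdeal ⟨{y}, hy⟩)).subschemeι := by
  obtain ⟨e, -, τ⟩ := exists_iso_exceptional b hy hreg hdim hb
  unfold Models.IsExcCurve
  rw [Scheme.IdealSheafData.ker_subschemeι]
  exact ⟨hb.1, Y.residueField y, inferInstance, e, τ⟩

theorem excOfBlowUp : ExcOfBlowUp.{u} := fun b _ hy _ hreg hdim hb => isExcCurve_exceptional b hy hreg hdim hb

end Groth.Agent.ArS10
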