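import Mathlib

/-!
A birational extension of a two-dimensional regular local ring by a factorial local ring makes the
maximal ideal principal as soon as its generators have a common factor.
-/

set_option autoImplicit false

universe u

namespace Groth.Agent.ArS10.Quad

open IsLocalRing

variable {B : Type u} [CommRing B]

/-- The ideal generated by the monomials of degree `n` in two elements. -/
def mono (u v : B) (n : ℕ) : Ideal B :=
  Ideal.span (Set.range fun i : Fin (n + 1) => u ^ (n - i.val) * v ^ i.val)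

theorem pow_span_pair_eq (u v : B) (n : ℕ) : Ideal.span {u, v} ^ n = mono u v n := by
  refine le_antisymm ?_ ?_
  · induction n with
    | zero =>
      rw [pow_zero, Ideal.one_eq_top]
      exact top_le_iff.2 ((Ideal.eq_top_iff_one _).2 (Ideal.subset_span ⟨0, by simp⟩))
    | succ n ih =>
      rw [pow_succ]
      refine (Ideal.mul_mono ih le_rfl).trans ?_
      rw [mono, Ideal.span_mul_span', Ideal.span_le]
      rintro _ ⟨_, ⟨i, rfl⟩, b, hb, rfl⟩
      have hi := i.isLt
      rcases hb with hb | hb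
      · subst hb
        refine Ideal.subset_span ⟨⟨i.val, by omega⟩, ?_⟩
        simp only
        rw [show n + 1 - i.val = n - i.val + 1 by omega, pow_succ]
        ring
      · rw [Set.mem_singleton_iff] at hb
        subst hb
        refine Ideal.subset_span ⟨⟨i.val + 1, by omega⟩, ?_⟩
        simp only
        rw [show n + 1 - (i.val + 1) = n - i.val by omega, pow_succ]
        ring
  · rw [mono, Ideal.span_le]
    rintro _ ⟨i, rfl⟩
    have hi := i.isLt
    have h1 := Ideal.mul_mem_mul (Ideal.pow_mem_pow (Ideal.subset_span (Set.mem_insert u {v})) (n - i.val))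
      (Ideal.pow_mem_pow (Ideal.subset_span (Set.mem_insert_of_mem u (Set.mem_singleton v))) i.val)
    rwa [← pow_add, show n - i.val + i.val = n by omega] at h1

variable [IsDomain B] [IsLocalRing B]

/-- A vanishing binary form in coprime non-units has all coefficients non-units. -/
theorem coeff_mem_of_form_eq_zero {u v : B} (hu0 : u ≠ 0) (hu : u ∈ maximalIdeal B) (hv : v ∈ maximalIdeal B)
    (hcop : ∀ c : B, ∀ n : ℕ, u ∣ c * v ^ n → u ∣ c) :
    ∀ (d : ℕ) (c : ℕ → B), ∑ i ∈ Finset.range (d + 1), c i * (u ^ (d - i) * v ^ i) = 0 →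
      ∀ i ≤ d, c i ∈ maximalIdeal B := by
  intro d
  induction d with
  | zero =>
    intro c h i hi
    obtain rfl := Nat.le_zero.1 hi
    simp at h
    rw [h]
    exact zero_mem _
  | succ d ih =>
    intro c h
    have h1 : ∑ i ∈ Finset.range (d + 1), c i * (u ^ (d + 1 - i) * v ^ i) =
        u * ∑ i ∈ Finset.range (d + 1), c i * (u ^ (d - i) * v ^ i) := by
      rw [Finset.mul_sum]
      refine Finset.sum_congr rfl fun i hi => ?_
      have := Finset.mem_range.1 hi
      rw [show d + 1 - i = d - i + 1 by omega, pow_succ]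
      ring
    rw [Finset.sum_range_succ, h1, Nat.sub_self, pow_zero, one_mul] at h
    obtain ⟨e, he⟩ := hcop (c (d + 1)) (d + 1)
      ⟨-∑ i ∈ Finset.range (d + 1), c i * (u ^ (d - i) * v ^ i), by linear_combination h⟩
    have h2 : ∑ i ∈ Finset.range (d + 1), Function.update c d (c d + e * v) i * (u ^ (d - i) * v ^ i) = 0 := by
      rw [Finset.sum_range_succ, Function.update_self, Nat.sub_self, pow_zero, one_mul,
        Finset.sum_congr rfl fun i hi => by rw [Function.update_of_ne (Finset.mem_range.1 hi).ne]]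
      rw [Finset.sum_range_succ, Nat.sub_self, pow_zero, one_mul, he] at h
      apply mul_left_cancel₀ hu0
      rw [mul_zero]
      linear_combination h
    have hlast : c (d + 1) ∈ maximalIdeal B := he ▸ Ideal.mul_mem_right _ _ hu
    intro i hi
    rcases eq_or_lt_of_le hi with rfl | hlt
    · exact hlast
    have h3 := ih _ h2 i (Nat.lt_succ_iff.1 hlt)
    by_cases hid : i = d
    · subst hid
      rw [Function.update_self] at h3
      simpa using sub_mem h3 (Ideal.mul_mem_left _ e hv)
    · rwa [Function.update_of_ne hid] at h3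

/-- Coefficients of a form lying in `m · I ^ n` are in `m`. -/
theorem coeff_mem_of_mem {u v : B} (hu0 : u ≠ 0) (hu : u ∈ maximalIdeal B) (hv : v ∈ maximalIdeal B)
    (hcop : ∀ c : B, ∀ n : ℕ, u ∣ c * v ^ n → u ∣ c) (n : ℕ) (α : Fin (n + 1) → B)
    (h : ∑ i, α i * (u ^ (n - i.val) * v ^ i.val) ∈ maximalIdeal B * Ideal.span {u, v} ^ n)
    (i : Fin (n + 1)) : α i ∈ maximalIdeal B := by
  classical
  rw [pow_span_pair_eq] at h
  have key : ∀ x ∈ maximalIdeal B * mono u v n, ∃ γ : Fin (n + 1) → B,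
      (∀ i, γ i ∈ maximalIdeal B) ∧ x = ∑ i, γ i * (u ^ (n - i.val) * v ^ i.val) := by
    intro x hx
    refine Submodule.mul_induction_on hx (fun a ha b hb => ?_) fun x y hx hy => ?_
    · obtain ⟨δ, hδ⟩ := Ideal.mem_span_range_iff_exists_fun.1 hb
      exact ⟨fun i => a * δ i, fun i => Ideal.mul_mem_right _ _ ha, by
        rw [← hδ, Finset.mul_sum]
        exact Finset.sum_congr rfl fun i _ => by ring⟩
    · obtain ⟨γ, hγ, rfl⟩ := hx
      obtain ⟨γ', hγ', rfl⟩ := hy
      exact ⟨γ + γ', fun i => add_mem (hγ i) (hγ' i), by simp [add_mul, Finset.sum_add_distrib]⟩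
  obtain ⟨γ, hγ, e⟩ := key _ h
  let c : ℕ → B := fun j => if hj : j < n + 1 then α ⟨j, hj⟩ - γ ⟨j, hj⟩ else 0
  have h0 : ∑ j ∈ Finset.range (n + 1), c j * (u ^ (n - j) * v ^ j) = 0 := by
    rw [← Fin.sum_univ_eq_sum_range (fun j => c j * (u ^ (n - j) * v ^ j))]
    rw [show (0 : B) = ∑ i : Fin (n + 1), α i * (u ^ (n - i.val) * v ^ i.val) -
      ∑ i : Fin (n + 1), γ i * (u ^ (n - i.val) * v ^ i.val) by rw [e, sub_self], ← Finset.sum_sub_distrib]
    exact Finset.sum_congr rfl fun i _ => by simp only [c]; rw [dif_pos i.isLt]; exact sub_mul _ _ _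
  have h1 := coeff_mem_of_form_eq_zero hu0 hu hv hcop n c h0 i.val (Nat.lt_succ_iff.1 i.isLt)
  simp only [c, i.isLt, dif_pos] at h1
  simpa using add_mem h1 (hγ i)

variable [UniqueFactorizationMonoid B] {A : Type u} [CommRing A] [IsDomain A] [IsLocalRing A]
  [IsNoetherianRing A]

/-- The first quadratic transform: `m_A B` is principal. -/
theorem isPrincipal_map_maximalIdeal (φ : A →+* B) [IsLocalHom φ] (hinj : Function.Injective φ)
    {u v : A} (hm : maximalIdeal A = Ideal.span {u, v}) (hu : u ≠ 0)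
    (hfrac : ∀ b : B, ∃ a s : A, s ≠ 0 ∧ b * φ s = φ a) {p : B} (hp : Prime p) (hpu : p ∣ φ u)
    (hpv : p ∣ φ v) : ((maximalIdeal A).map φ).IsPrincipal := by
  obtain ⟨u', v', g, hcop, hgu, hgv⟩ := UniqueFactorizationMonoid.exists_reduced_factors (φ u)
    ((map_ne_zero_iff _ hinj).2 hu) (φ v)
  have hg : g ∈ maximalIdeal B := fun hgunit => hp.not_isUnit (hcop
    ((hgunit.dvd_mul_left).1 (hgu ▸ hpu)) ((hgunit.dvd_mul_left).1 (hgv ▸ hpv)))
  have hu'0 : u' ≠ 0 := fun h => (map_ne_zero_iff _ hinj).2 hu (by rw [← hgu, h, mul_zero])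
  have hg0 : g ≠ 0 := fun h => (map_ne_zero_iff _ hinj).2 hu (by rw [← hgu, h, zero_mul])
  have hmap : (maximalIdeal A).map φ = Ideal.span {g} * Ideal.span {u', v'} := by
    rw [hm, Ideal.map_span, Set.image_pair, ← hgu, ← hgv, Ideal.span_mul_span', Set.singleton_mul,
      Set.image_pair]
  by_cases htop : Ideal.span {u', v'} = ⊤
  · rw [hmap, htop, Ideal.mul_top]
    exact ⟨g, rfl⟩
  exfalso
  have hle : Ideal.span {u', v'} ≤ maximalIdeal B := le_maximalIdeal htop
  have hu'm : u' ∈ maximalIdeal B := hle (Ideal.subset_span (Set.mem_insert _ _))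
  have hv'm : v' ∈ maximalIdeal B := hle (Ideal.subset_span (Set.mem_insert_of_mem _ (Set.mem_singleton _)))
  have hc : ∀ c : B, ∀ n : ℕ, u' ∣ c * v' ^ n → u' ∣ c := fun c n h =>
    IsRelPrime.dvd_of_dvd_mul_right (IsRelPrime.pow_right hcop) h
  -- leading forms of nonzero elements of `A`
  have hform : ∀ a : A, a ≠ 0 → ∃ (n : ℕ) (α : Fin (n + 1) → B),
      φ a = g ^ n * ∑ i, α i * (u' ^ (n - i.val) * v' ^ i.val) ∧ ∃ i, α i ∉ maximalIdeal B := by
    intro a ha
    classical
    have hex : ∃ n, a ∉ maximalIdeal A ^ n := by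
      by_contra h
      simp only [not_exists, not_not] at h
      have : a ∈ ⨅ n, maximalIdeal A ^ n := Submodule.mem_iInf _ |>.2 h
      rw [Ideal.iInf_pow_eq_bot_of_isLocalRing _ (maximalIdeal.isMaximal A).ne_top] at this
      exact ha this
    obtain ⟨N, hN, hmin⟩ : ∃ N, a ∉ maximalIdeal A ^ (N + 1) ∧ a ∈ maximalIdeal A ^ N := by
      cases hN : Nat.find hex with
      | zero =>
        have := Nat.find_spec hex
        rw [hN, pow_zero, Ideal.one_eq_top] at this
        exact absurd Submodule.mem_top this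
      | succ N =>
        exact ⟨N, hN ▸ Nat.find_spec hex, not_not.1 (Nat.find_min hex (hN ▸ Nat.lt_succ_self N))⟩
    have hmin' := hmin
    rw [hm, pow_span_pair_eq] at hmin'
    obtain ⟨δ, hδ⟩ := Ideal.mem_span_range_iff_exists_fun.1 hmin'
    refine ⟨N, fun i => φ (δ i), ?_, ?_⟩
    · rw [← hδ, map_sum, Finset.mul_sum]
      refine Finset.sum_congr rfl fun i _ => ?_
      have hi := i.isLt
      rw [map_mul, map_mul, map_pow, map_pow, ← hgu, ← hgv, mul_pow, mul_pow]
      have : g ^ N = g ^ (N - i.val) * g ^ i.val := by rw [← pow_add]; congr 1; omega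
      rw [this]
      ring
    · by_contra h
      simp only [not_exists, not_not] at h
      refine hN ?_
      rw [← hδ, pow_succ']
      refine Submodule.sum_mem _ fun i _ => Ideal.mul_mem_mul ?_ ?_
      · by_contra hu
        exact h i ((notMem_maximalIdeal.1 hu).map φ)
      · rw [hm, pow_span_pair_eq]
        exact Ideal.subset_span ⟨i, rfl⟩
  have hmemI : ∀ (n : ℕ) (α : Fin (n + 1) → B),
      ∑ i, α i * (u' ^ (n - i.val) * v' ^ i.val) ∈ Ideal.span {u', v'} ^ n := fun n α => by
    rw [pow_span_pair_eq]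
    exact Submodule.sum_mem _ fun i _ => Ideal.mul_mem_left _ _ (Ideal.subset_span ⟨i, rfl⟩)
  obtain ⟨a, s, hs, has⟩ := hfrac g
  have ha : a ≠ 0 := fun h => by
    rw [h, map_zero] at has
    exact (mul_ne_zero hg0 ((map_ne_zero_iff _ hinj).2 hs)) has
  obtain ⟨n, α, hα, i, hi⟩ := hform a ha
  obtain ⟨m, β, hβ, j, hj⟩ := hform s hs
  rw [hα, hβ] at has
  rcases Nat.lt_or_ge m n with hnm | hmn
  · obtain ⟨k, rfl⟩ := Nat.exists_eq_add_of_lt hnm
    have e : ∑ i, β i * (u' ^ (m - i.val) * v' ^ i.val) =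
        g ^ k * ∑ i, α i * (u' ^ (m + k + 1 - i.val) * v' ^ i.val) :=
      mul_left_cancel₀ (pow_ne_zero (m + 1) hg0) (by
        rw [← mul_assoc (g ^ (m + 1)), ← pow_add, show m + 1 + k = m + k + 1 by omega, ← has, pow_succ]
        ring)
    refine hj (coeff_mem_of_mem hu'0 hu'm hv'm hc m β ?_ j)
    rw [e]
    refine Ideal.mul_mem_left _ _ ?_
    have h1 : ∑ i, α i * (u' ^ (m + k + 1 - i.val) * v' ^ i.val) ∈
        Ideal.span {u', v'} ^ (k + 1) * Ideal.span {u', v'} ^ m := by
      rw [← pow_add, show k + 1 + m = m + k + 1 by omega]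
      exact hmemI (m + k + 1) α
    exact Ideal.mul_mono ((Ideal.pow_le_self (Nat.succ_ne_zero k)).trans hle) le_rfl h1
  · obtain ⟨k, rfl⟩ := Nat.exists_eq_add_of_le hmn
    have e : ∑ i, α i * (u' ^ (n - i.val) * v' ^ i.val) =
        g ^ (k + 1) * ∑ i, β i * (u' ^ (n + k - i.val) * v' ^ i.val) :=
      mul_left_cancel₀ (pow_ne_zero n hg0) (by
        rw [← has, ← mul_assoc (g ^ n), ← pow_add, ← mul_assoc g, ← pow_succ']
        rfl)
    refine hi (coeff_mem_of_mem hu'0 hu'm hv'm hc n α ?_ i)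
    rw [e]
    refine Ideal.mul_mem_mul (Ideal.pow_mem_of_mem _ hg (k + 1) (Nat.succ_pos k)) ?_
    exact Ideal.pow_le_pow_right (Nat.le_add_right n k) (hmemI (n + k) β)

end Groth.Agent.ArS10.Quad
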