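import Groth.Agent.ArS10.Birat
import Groth.Agent.ArS10.QuadTransform
import Groth.Agent.FlatMor68.DedekindFlat
import Groth.Agent.Div89.Comap
import Groth.Agent.RegUFD52.Basic

/-!
A birational morphism of regular surfaces with a positive-dimensional fibre factors through the blow-up.
-/

set_option autoImplicit false
set_option linter.style.haveILetI false
set_option backward.isDefEq.respectTransparency.types false

universe u

open CategoryTheory CategoryTheory.Limits AlgebraicGeometry TopologicalSpace IsLocalRing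
open scoped nonZeroDivisors

noncomputable section

namespace Groth.Agent.ArS10

/-- A length-three chain of specializations does not exist in dimension at most two. -/
theorem eq_of_dim_le_two {X : Scheme.{u}} (hdim : topologicalKrullDim X ≤ 2) {a b c d : X} (hab : a ⤳ b)
    (hbc : b ⤳ c) (hcd : c ⤳ d) : a = b ∨ b = c ∨ c = d := by
  by_contra h
  simp only [not_or] at h
  obtain ⟨h1, h2, h3⟩ := h
  let q : X → IrreducibleCloseds X := fun x =>
    ⟨closure {x}, isIrreducible_singleton.closure, isClosed_closure⟩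
  let s : LTSeries (IrreducibleCloseds X) :=
    (((RelSeries.singleton _ (q d)).snoc (q c) (closure_lt hcd (Ne.symm h3))).snoc (q b)
      (by rw [RelSeries.last_snoc]; exact closure_lt hbc (Ne.symm h2))).snoc
      (q a) (by rw [RelSeries.last_snoc]; exact closure_lt hab (Ne.symm h1))
  have h4 : ((3 : ℕ) : WithBot ℕ∞) ≤ topologicalKrullDim X := Order.LTSeries.length_le_krullDim s
  exact absurd (h4.trans hdim) (by norm_num)

theorem maximalIdeal_eq_span_pair {A : Type u} [CommRing A] [IsRegularLocalRing A] (h : ringKrullDim A ≤ 2) :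
    ∃ u v : A, maximalIdeal A = Ideal.span {u, v} := by
  have h1 : (maximalIdeal A).spanFinrank ≤ 2 := by
    have h2 := (IsRegularLocalRing.spanFinrank_maximalIdeal (R := A)).le.trans h
    exact_mod_cast h2
  have hfg : Submodule.FG (maximalIdeal A) := IsNoetherian.noetherian _
  have hc := hfg.finite_generators
  rw [← hfg.generators_ncard] at h1
  have hs := Submodule.span_generators (maximalIdeal A)
  rcases Nat.lt_or_ge (maximalIdeal A).generators.ncard 2 with h2 | h2
  · rcases Nat.le_one_iff_eq_zero_or_eq_one.1 (Nat.lt_succ_iff.1 h2) with h3 | h3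
    · refine ⟨0, 0, ?_⟩
      rw [(Set.ncard_eq_zero hc).1 h3] at hs
      simp only [Submodule.span_empty] at hs
      rw [← hs]
      simp
    · obtain ⟨a, ha⟩ := Set.ncard_eq_one.1 h3
      refine ⟨a, a, ?_⟩
      rw [ha] at hs
      rw [← hs]
      simp [Ideal.submodule_span_eq]
  · obtain ⟨a, b, -, hab⟩ := Set.ncard_eq_two.1 (le_antisymm h1 h2)
    exact ⟨a, b, by rw [hab] at hs; rw [← hs]⟩

theorem stalkIdeal_vanishing_point {X : Scheme.{u}} {P : X} (hP : IsClosed ({P} : Set X)) :
    Div89.stalkIdeal (Scheme.IdealSheafData.vanishingIdeal ⟨{P}, hP⟩) P = maximalIdeal (X.presheaf.stalk P) := by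
  obtain ⟨U, hU⟩ := Div89.exists_affine_mem P
  rw [Div89.stalkIdeal_eq _ U P hU]
  have h1 : (Scheme.IdealSheafData.vanishingIdeal (⟨{P}, hP⟩ : TopologicalSpace.Closeds X)).ideal U =
      (U.2.primeIdealOf ⟨P, hU⟩).asIdeal := by
    rw [Scheme.IdealSheafData.vanishingIdeal_ideal]
    have h2 : U.2.fromSpec ⁻¹' ({P} : Set X) = {U.2.primeIdealOf ⟨P, hU⟩} := by
      ext y
      simp only [Set.mem_singleton_iff, Set.mem_preimage]
      refine ⟨fun h => U.2.fromSpec.isOpenEmbedding.injective (h.trans (U.2.fromSpec_primeIdealOf ⟨P, hU⟩).symm),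
        fun h => h ▸ U.2.fromSpec_primeIdealOf ⟨P, hU⟩⟩
    exact (congrArg PrimeSpectrum.vanishingIdeal h2).trans (PrimeSpectrum.vanishingIdeal_singleton _)
  rw [h1]
  letI := TopCat.Presheaf.algebra_section_stalk X.presheaf (⟨P, hU⟩ : U.1)
  haveI := U.2.isLocalization_stalk ⟨P, hU⟩
  exact IsLocalization.AtPrime.map_eq_maximalIdeal _ _

/-- The point with stalk prime `P`. -/
theorem exists_point_of_prime {X : Scheme.{u}} (x : X) (P : PrimeSpectrum (X.presheaf.stalk x)) :
    ∃ (z : X) (h : z ⤳ x),
      P.asIdeal = (maximalIdeal (X.presheaf.stalk z)).comap (X.presheaf.stalkSpecializes h).hom := by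
  let z := X.fromSpecStalk x P
  have h : z ⤳ x := by
    have : z ∈ Set.range (X.fromSpecStalk x) := ⟨_, rfl⟩
    rwa [Scheme.range_fromSpecStalk] at this
  refine ⟨z, h, ?_⟩
  have h1 : (Spec.map (X.presheaf.stalkSpecializes h)) (closedPoint _) = P := by
    apply (X.fromSpecStalk x).isEmbedding.injective
    refine (Scheme.Hom.comp_apply (Spec.map (X.presheaf.stalkSpecializes h)) (X.fromSpecStalk x) _).symm.trans ?_
    rw [Scheme.SpecMap_stalkSpecializes_fromSpecStalk]
    exact Scheme.fromSpecStalk_closedPoint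
  exact (congrArg PrimeSpectrum.asIdeal h1).symm

theorem eq_of_comap_eq_maximal {X : Scheme.{u}} {z x : X} (h : z ⤳ x)
    (e : (maximalIdeal (X.presheaf.stalk z)).comap (X.presheaf.stalkSpecializes h).hom =
      maximalIdeal (X.presheaf.stalk x)) : z = x := by
  have h1 : X.fromSpecStalk x ((Spec.map (X.presheaf.stalkSpecializes h)) (closedPoint _)) = z := by
    refine (Scheme.Hom.comp_apply (Spec.map (X.presheaf.stalkSpecializes h)) (X.fromSpecStalk x) _).symm.trans ?_
    rw [Scheme.SpecMap_stalkSpecializes_fromSpecStalk]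
    exact Scheme.fromSpecStalk_closedPoint
  rw [show (Spec.map (X.presheaf.stalkSpecializes h)) (closedPoint _) = closedPoint (X.presheaf.stalk x) from
    PrimeSpectrum.ext e, Scheme.fromSpecStalk_closedPoint] at h1
  exact h1.symm

variable {X Y : Scheme.{u}} [IsIntegral X] [IsIntegral Y] (f : X ⟶ Y)

/-- At a point of a connected fibre with two points and closed in a surface there is a generization in
the fibre. -/
theorem exists_generization_in_fibre [NoetherianSpace X] {y : Y} (hy : IsClosed ({y} : Set Y))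
    (hconn : _root_.IsPreconnected (f.base ⁻¹' {y})) {x : X} (hx : f.base x = y)
    (hxcl : IsClosed ({x} : Set X)) (hbig : ∃ x' : X, x' ≠ x ∧ f.base x' = y) :
    ∃ z, z ⤳ x ∧ z ≠ x ∧ f.base z = y := by
  classical
  obtain ⟨S, hS, hcl, hirr, hun⟩ := NoetherianSpace.exists_finite_set_isClosed_irreducible
    (hy.preimage f.continuous)
  by_contra hcon
  simp only [not_exists, not_and] at hcon
  let rest := ⋃ s ∈ {s | s ∈ S ∧ x ∉ s}, s
  have hrest : IsClosed rest := (hS.subset fun s hs => hs.1).isClosed_biUnion fun s hs => hcl s hs.1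
  obtain ⟨x', hne, hx'⟩ := hbig
  obtain ⟨w, hw, hw1, hw2⟩ := isPreconnected_closed_iff.1 hconn {x} rest hxcl hrest (fun a ha => by
      rw [hun] at ha
      obtain ⟨s, hs, has⟩ := Set.mem_sUnion.1 ha
      by_cases hxs : x ∈ s
      · obtain ⟨w, hw⟩ := QuasiSober.sober (hirr s hs) (hcl s hs)
        have hwF : f.base w = y := by
          have : w ∈ f.base ⁻¹' {y} := hun ▸ Set.mem_sUnion.2 ⟨s, hs, hw.mem⟩
          exact this
        have hwx : w = x := by_contra fun h => hcon w (hw.specializes hxs) h hwF
        refine Or.inl ?_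
        have := hw.def
        rw [hwx, hxcl.closure_eq] at this
        exact this.ge has
      · exact Or.inr (Set.mem_biUnion (show s ∈ {s | s ∈ S ∧ x ∉ s} from ⟨hs, hxs⟩) has))
    ⟨x, hx, rfl⟩ (by
      have h1 : x' ∈ f.base ⁻¹' {y} := hx'
      rw [hun] at h1
      obtain ⟨s, hs, has⟩ := Set.mem_sUnion.1 h1
      refine ⟨x', hx', Set.mem_biUnion (show s ∈ {s | s ∈ S ∧ x ∉ s} from ⟨hs, fun hxs => ?_⟩) has⟩
      obtain ⟨w, hw⟩ := QuasiSober.sober (hirr s hs) (hcl s hs)
      have hwF : f.base w = y := by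
        have : w ∈ f.base ⁻¹' {y} := hun ▸ Set.mem_sUnion.2 ⟨s, hs, hw.mem⟩
        exact this
      have hwx : w = x := by_contra fun h => hcon w (hw.specializes hxs) h hwF
      have := hw.def
      rw [hwx, hxcl.closure_eq] at this
      exact hne (this.ge has))
  obtain ⟨s, ⟨-, hs⟩, hws⟩ := Set.mem_iUnion₂.1 hw2
  exact hs (Set.mem_singleton_iff.1 hw1 ▸ hws)

/-- The inverse image of a closed point with positive-dimensional fibre is a divisor. -/
theorem isEffCartier_comap_point [NoetherianSpace X] [IsLocallyNoetherian X] [IsProper f]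
    (hX : ∀ x : X, IsRegularLocalRing (X.presheaf.stalk x)) (hY : ∀ q : Y, IsRegularLocalRing (Y.presheaf.stalk q))
    (hdX : topologicalKrullDim X ≤ 2) (hdY : topologicalKrullDim Y ≤ 2)
    (U : Y.Opens) (hU : (U : Set Y).Nonempty) [IsIso (f ∣_ U)] (y : Y) (hy : IsClosed ({y} : Set Y))
    (hbig : ∃ x x' : X, x ≠ x' ∧ f.base x = y ∧ f.base x' = y) :
    BlowUp.IsEffCartierIdeal ((Scheme.IdealSheafData.vanishingIdeal ⟨{y}, hy⟩).comap f) := by
  classical
  set I := Scheme.IdealSheafData.vanishingIdeal ⟨{y}, hy⟩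
  have hN : ∀ q : Y, IsIntegrallyClosed (Y.presheaf.stalk q) := fun q => by
    haveI := hY q
    haveI := Ega11.RegLocal.isDomain (Y.presheaf.stalk q)
    haveI := RegUFD52.ufm_of_regular (Y.presheaf.stalk q)
    infer_instance
  have hgen : f (genericPoint X) = genericPoint Y := map_genericPoint f U hU
  refine Div89.isEffCartier_of_stalk fun x hxs => ?_
  haveI := hX x
  haveI := Ega11.RegLocal.isDomain (X.presheaf.stalk x)
  haveI := RegUFD52.ufm_of_regular (X.presheaf.stalk x)
  have hxy : f.base x = y := by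
    rw [Scheme.IdealSheafData.support_comap] at hxs
    have h1 : f.base x ∈ (I.support : Set Y) := hxs
    rw [Scheme.IdealSheafData.coe_support_vanishingIdeal] at h1
    exact h1
  subst hxy
  haveI := hY (f x)
  haveI := Ega11.RegLocal.isDomain (Y.presheaf.stalk (f x))
  let A := Y.presheaf.stalk (f x)
  let B := X.presheaf.stalk x
  let φ : A →+* B := (f.stalkMap x).hom
  haveI : IsLocalHom φ := f.toLRSHom.prop x
  have hηx : genericPoint X ⤳ x := genericPoint_specializes x
  have hηy : f (genericPoint X) ⤳ f x := f.base.hom.map_specializes hηx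
  have hcomm : ∀ o, f.stalkMap (genericPoint X) (Y.presheaf.stalkSpecializes hηy o) =
      X.presheaf.stalkSpecializes hηx (f.stalkMap x o) :=
    fun o => Scheme.Hom.stalkSpecializes_stalkMap_apply f _ _ hηx o
  haveI : IsIso (f.stalkMap (genericPoint X)) :=
    CAlg9.BirationalPoint.isIso_stalkMap_of_restrict f U _ (hgen ▸ genericPoint_mem U hU)
  have hsm := ConcreteCategory.bijective_of_isIso (f.stalkMap (genericPoint X))
  have hiX := LimTop61.stalkSpecializes_injective rfl hηx
  have hiY := LimTop61.stalkSpecializes_injective hgen hηy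
  have hinj : Function.Injective φ := fun o o' h => hiY (hsm.1 (by
    rw [hcomm, hcomm]; exact congrArg _ h))
  have hfrac : ∀ b : B, ∃ a s : A, s ≠ 0 ∧ b * φ s = φ a := fun b => by
    obtain ⟨k, hk⟩ := hsm.2 (X.presheaf.stalkSpecializes hηx b)
    obtain ⟨a, t, ht, hat⟩ := (CAlg9.BirationalPoint.specializes_frac hηy).1 k
    refine ⟨a, t, fun h => ?_, hiX ?_⟩
    · rw [h, map_zero] at ht
      exact not_isUnit_zero ht
    · show X.presheaf.stalkSpecializes hηx (b * f.stalkMap x t) = X.presheaf.stalkSpecializes hηx (f.stalkMap x a)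
      rw [map_mul, ← hcomm, ← hcomm, ← hk, ← map_mul, hat]
  have hst : Div89.stalkIdeal (I.comap f) x = (maximalIdeal A).map φ := by
    rw [Div89.stalkIdeal_comap, stalkIdeal_vanishing_point hy]
  obtain ⟨u, v, hm⟩ := maximalIdeal_eq_span_pair ((FlatMor68.DedekindFlat.stalk_dim_le (f x)).trans hdY)
  -- the maximal ideal is nonzero
  have hne0 : (maximalIdeal A).map φ ≠ ⊥ := by
    intro h
    rw [Ideal.map_eq_bot_iff_of_injective hinj] at h
    obtain ⟨a, b, hab, ha, hb⟩ := hbig
    have hy' : f x = genericPoint Y := by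
      obtain ⟨z, hz, hzm⟩ := exists_point_of_prime (f x) ⟨⊥, Ideal.isPrime_bot⟩
      have hz' : z = f x := eq_of_comap_eq_maximal hz (hzm.symm.trans h.symm)
      obtain ⟨w, hw, hwm⟩ : ∃ (w : Y) (h : w ⤳ f x), w = genericPoint Y :=
        ⟨genericPoint Y, genericPoint_specializes _, rfl⟩
      have h2 : (maximalIdeal (Y.presheaf.stalk w)).comap (Y.presheaf.stalkSpecializes hw).hom = maximalIdeal A :=
        le_antisymm (IsLocalRing.le_maximalIdeal (Ideal.IsPrime.comap (hK := inferInstance) _).ne_top)
          (h.le.trans bot_le)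
      exact (eq_of_comap_eq_maximal hw h2).symm.trans hwm
    exact hab (CAlg9.BirationalPoint.injOn_of_restrict f U (show f a ∈ U by
      rw [show f a = f x from ha, hy']; exact genericPoint_mem U hU) (ha.trans hb.symm))
  have hu : ∃ u v : A, maximalIdeal A = Ideal.span {u, v} ∧ u ≠ 0 := by
    by_cases hu : u = 0
    · refine ⟨v, u, by rw [hm, Set.pair_comm], fun hv => hne0 ?_⟩
      rw [hm, hu, hv]
      simp
    · exact ⟨u, v, hm, hu⟩
  obtain ⟨u, v, hm, hu⟩ := hu
  have hprin : ((maximalIdeal A).map φ).IsPrincipal := by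
    by_cases hB : ringKrullDim B ≤ 1
    · haveI := FlatMor68.DedekindFlat.isPrincipalIdealRing_of_regular B hB
      exact IsPrincipalIdealRing.principal _
    -- `x` is closed
    have hchain : ∀ P : PrimeSpectrum B, P.asIdeal ≠ ⊥ → P.asIdeal ≠ maximalIdeal B → ∀ Q : PrimeSpectrum B,
        Q.asIdeal ≠ ⊥ → Q.asIdeal ≤ P.asIdeal → Q = P := by
      intro P hP0 hPm Q hQ0 hQP
      by_contra hne
      obtain ⟨p₁, h₁, e₁⟩ := exists_point_of_prime x P
      obtain ⟨q₁, k₁, f₁⟩ := exists_point_of_prime x Q
      have hq : q₁ ⤳ p₁ := by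
        have : X.fromSpecStalk x Q ⤳ X.fromSpecStalk x P :=
          ((PrimeSpectrum.le_iff_specializes Q P).1 hQP).map (X.fromSpecStalk x).continuous
        have eP : X.fromSpecStalk x P = p₁ := by
          rw [show P = (Spec.map (X.presheaf.stalkSpecializes h₁)) (closedPoint _) from PrimeSpectrum.ext e₁,
            ← Scheme.Hom.comp_apply, Scheme.SpecMap_stalkSpecializes_fromSpecStalk]
          exact Scheme.fromSpecStalk_closedPoint
        have eQ : X.fromSpecStalk x Q = q₁ := by
          rw [show Q = (Spec.map (X.presheaf.stalkSpecializes k₁)) (closedPoint _) from PrimeSpectrum.ext f₁,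
            ← Scheme.Hom.comp_apply, Scheme.SpecMap_stalkSpecializes_fromSpecStalk]
          exact Scheme.fromSpecStalk_closedPoint
        rwa [eP, eQ] at this
      have hqη : genericPoint X ≠ q₁ := fun e => hQ0 (by
        subst e
        rw [f₁, show maximalIdeal (X.presheaf.stalk (genericPoint X)) = (⊥ : Ideal X.functionField) from
          IsLocalRing.isField_iff_maximalIdeal_eq.1 (Field.toIsField X.functionField)]
        exact (RingHom.injective_iff_ker_eq_bot _).1 (LimTop61.stalkSpecializes_injective rfl k₁))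
      rcases eq_of_dim_le_two hdX (genericPoint_specializes q₁) hq h₁ with e | e | e
      · exact hqη e
      · exact hne (PrimeSpectrum.ext (by rw [e₁, f₁]; subst e; rfl))
      · subst e
        refine hPm (e₁.trans ?_)
        rw [TopCat.Presheaf.stalkSpecializes_refl]
        exact Ideal.comap_id _
    have hxcl : IsClosed ({x} : Set X) := by
      rw [← closure_subset_iff_isClosed]
      intro c hc
      by_contra hcx
      obtain ⟨p, hp⟩ : ∃ p : B, Prime p := by
        obtain ⟨b, hb, hb0⟩ := Submodule.exists_mem_ne_zero_of_ne_bot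
          (show maximalIdeal B ≠ ⊥ from fun h => hB (by
            rw [ringKrullDim_eq_zero_of_isField (IsLocalRing.isField_iff_maximalIdeal_eq.2 h)]; exact zero_le_one))
        obtain ⟨p, hp, -⟩ := WfDvdMonoid.exists_irreducible_factor (show ¬ IsUnit b from hb) hb0
        exact ⟨p, hp.prime⟩
      haveI : (Ideal.span {p}).IsPrime := (Ideal.span_singleton_prime hp.ne_zero).2 hp
      obtain ⟨z, hz, ez⟩ := exists_point_of_prime x ⟨Ideal.span {p}, inferInstance⟩
      have hzη : genericPoint X ≠ z := fun e => by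
        subst e
        rw [show maximalIdeal (X.presheaf.stalk (genericPoint X)) = (⊥ : Ideal X.functionField) from
          IsLocalRing.isField_iff_maximalIdeal_eq.1 (Field.toIsField X.functionField)] at ez
        exact hp.ne_zero (Ideal.span_singleton_eq_bot.1 (ez.trans
          ((RingHom.injective_iff_ker_eq_bot _).1 (LimTop61.stalkSpecializes_injective rfl hz))))
      have hzx : z ≠ x := fun e => by
        subst e
        rw [TopCat.Presheaf.stalkSpecializes_refl] at ez
        refine hB ?_
        haveI : IsPrincipalIdealRing B := by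
          have hpr : (maximalIdeal B).IsPrincipal := ⟨p, ((Ideal.comap_id _).symm.trans ez.symm)⟩
          exact ((tfae_of_isNoetherianRing_of_isLocalRing_of_isDomain B).out 4 0).1 hpr
        exact Ring.krullDimLE_iff.1 inferInstance
      rcases eq_of_dim_le_two hdX (genericPoint_specializes z) hz (specializes_iff_mem_closure.2 hc) with e | e | e
      · exact hzη e
      · exact hzx e
      · exact hcx e.symm
    obtain ⟨z, hzx, hzne, hzy⟩ := exists_generization_in_fibre f hy
      (isPreconnected_preimage f U hU hN (f x)) rfl hxcl (by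
        obtain ⟨a, b, hab, ha, hb⟩ := hbig
        rcases eq_or_ne a x with rfl | hax
        · exact ⟨b, hab.symm, hb⟩
        · exact ⟨a, hax, ha⟩)
    let P : PrimeSpectrum B :=
      ⟨(maximalIdeal (X.presheaf.stalk z)).comap (X.presheaf.stalkSpecializes hzx).hom, inferInstance⟩
    have hmP : (maximalIdeal A).map φ ≤ P.asIdeal := by
      rw [Ideal.map_le_iff_le_comap]
      intro a ha
      show X.presheaf.stalkSpecializes hzx (f.stalkMap x a) ∈ maximalIdeal _
      rw [← Scheme.Hom.stalkSpecializes_stalkMap_apply f _ _ hzx a]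
      haveI : IsLocalHom (f.stalkMap z).hom := f.toLRSHom.prop z
      refine fun hun => ?_
      have h1 := isUnit_of_map_unit (f.stalkMap z).hom _ hun
      have key : ∀ (p : Y) (e : p = f x) (h : p ⤳ f x), IsUnit (Y.presheaf.stalkSpecializes h a) → IsUnit a := by
        rintro p rfl h hu
        rwa [TopCat.Presheaf.stalkSpecializes_refl] at hu
      exact ha (key _ hzy _ h1)
    have hP0 : P.asIdeal ≠ ⊥ := fun h => hne0 (le_bot_iff.1 (h ▸ hmP))
    have hPm : P.asIdeal ≠ maximalIdeal B := fun h => hzne (eq_of_comap_eq_maximal hzx h)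
    obtain ⟨p, hpu, hp⟩ : ∃ p, p ∈ P.asIdeal ∧ Prime p := by
      obtain ⟨p, hp1, hp2⟩ := Ideal.IsPrime.exists_mem_prime_of_ne_bot P.isPrime hP0
      exact ⟨p, hp1, hp2⟩
    haveI : (Ideal.span {p}).IsPrime := (Ideal.span_singleton_prime hp.ne_zero).2 hp
    have hQP : (⟨Ideal.span {p}, inferInstance⟩ : PrimeSpectrum B) = P :=
      hchain P hP0 hPm _ (fun h => hp.ne_zero (Ideal.span_singleton_eq_bot.1 h))
        ((Ideal.span_singleton_le_iff_mem _).2 hpu)
    have hPe : P.asIdeal = Ideal.span {p} := congrArg PrimeSpectrum.asIdeal hQP.symm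
    exact Quad.isPrincipal_map_maximalIdeal φ hinj hm hu hfrac hp
      (Ideal.mem_span_singleton.1 (hPe ▸ hmP (Ideal.mem_map_of_mem φ (hm ▸ Ideal.subset_span (Set.mem_insert _ _)))))
      (Ideal.mem_span_singleton.1 (hPe ▸ hmP (Ideal.mem_map_of_mem φ
        (hm ▸ Ideal.subset_span (Set.mem_insert_of_mem _ (Set.mem_singleton v))))))
  obtain ⟨a, ha⟩ := hprin.principal
  refine ⟨a, mem_nonZeroDivisors_of_ne_zero fun h => hne0 ?_, hst.trans ha⟩
  rw [ha, h]
  simp

end Groth.Agent.ArS10
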