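import Groth.Agent.ArS10.PicBlowPoint
import Groth.Agent.ArS10.FactorBlowUp
import Groth.Agent.ArS10.Principalize
import Groth.Agent.ArS10.ExcCurve
import Groth.Agent.ArS10.BlowPointReg
import Groth.Agent.Res23.BlowPointFibre
import Groth.Agent.RegImm10.BlowLocal

/-!
Birational proper morphisms of regular surfaces are composites of blow-ups of points.
-/

set_option autoImplicit false
set_option linter.style.haveILetI false
set_option backward.isDefEq.respectTransparency.types false

universe u

open CategoryTheory CategoryTheory.Limits AlgebraicGeometry TopologicalSpace IsLocalRing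

noncomputable section

namespace Groth.Agent.ArS10

theorem topologicalKrullDim_le_of_stalks {X : Scheme.{u}} {n : ℕ}
    (h : ∀ x : X, ringKrullDim (X.presheaf.stalk x) ≤ n) : topologicalKrullDim X ≤ n := by
  rw [show topologicalKrullDim X = Order.krullDim X from
    (Order.krullDim_eq_of_orderIso (irreducibleSetEquivPoints (α := X))), Order.krullDim_eq_iSup_coheight]
  refine iSup_le fun x => ?_
  have := h x
  rwa [ringKrullDim_stalk_eq_coheight] at this

theorem isIso_restrict_mono {X Y : Scheme.{u}} (f : X ⟶ Y) {U V : Y.Opens} (h : V ≤ U) [IsIso (f ∣_ U)] :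
    IsIso (f ∣_ V) := by
  have h2 := (MorphismProperty.arrow_mk_iso_iff (MorphismProperty.isomorphisms Scheme.{u})
    (morphismRestrictRestrict f U (U.ι ⁻¹ᵁ V))).mp (inferInstanceAs (IsIso ((f ∣_ U) ∣_ (U.ι ⁻¹ᵁ V))))
  have e : U.ι ''ᵁ (U.ι ⁻¹ᵁ V) = V := by
    rw [Scheme.Hom.image_preimage_eq_opensRange_inf, Scheme.Opens.opensRange_ι]
    exact inf_eq_right.mpr h
  rw [e] at h2
  exact h2

/-- The properties of a regular surface, with the dimension of the space. -/
theorem IsRegSurf.dim_le {X : Scheme.{u}} (h : IsRegSurf X) : topologicalKrullDim X ≤ 2 := by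
  exact_mod_cast topologicalKrullDim_le_of_stalks (n := 2) h.2.2.2

theorem isRegSurf_of {X : Scheme.{u}} [IsIntegral X] [IsNoetherian X]
    (hX : ∀ x : X, IsRegularLocalRing (X.presheaf.stalk x)) (hd : topologicalKrullDim X ≤ 2) : IsRegSurf X :=
  ⟨inferInstance, inferInstance, hX, fun x => (FlatMor68.DedekindFlat.stalk_dim_le x).trans hd⟩

theorem IsRegSurf.normal {X : Scheme.{u}} (h : IsRegSurf X) (x : X) :
    IsIntegrallyClosed (X.presheaf.stalk x) := by
  haveI := h.2.2.1 x
  haveI := Ega11.RegLocal.isDomain (X.presheaf.stalk x)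
  haveI := RegUFD52.ufm_of_regular (X.presheaf.stalk x)
  infer_instance

/-- The blow-up of a closed point of dimension two of a regular surface is a regular surface. -/
theorem isRegSurf_blowUp_point {X X' : Scheme.{u}} (hX : IsRegSurf X) (π : X' ⟶ X) {x : X}
    (hx : IsClosed ({x} : Set X)) (hdim : ringKrullDim (X.presheaf.stalk x) = 2)
    (hπ : BlowUp.IsBlowUp π (Scheme.IdealSheafData.vanishingIdeal ⟨{x}, hx⟩)) : IsRegSurf X' := by
  obtain ⟨hint, hnoe, hreg, hdimX⟩ := id hX
  haveI := hint
  haveI := hnoe
  haveI : IsProper π := Res23.isProper_of_isBlowUp hπ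
  haveI : IsLocallyNoetherian X' := LocallyOfFiniteType.isLocallyNoetherian π
  haveI : CompactSpace X' := QuasiCompact.compactSpace_of_compactSpace π
  haveI : IsNoetherian X' := ⟨⟩
  haveI := isIntegral_blowUp_point π hx hdim hπ
  have hreg' : ∀ z : X', IsRegularLocalRing (X'.presheaf.stalk z) :=
    isRegular_blowUp_point π hx hπ hreg hdim
  refine ⟨inferInstance, inferInstance, hreg', fun z => ?_⟩
  by_cases hz : π z = x
  · subst hz
    haveI := hreg (π z)
    haveI := hreg' z
    obtain ⟨a, b, C, φ, t, P, hP, ψ, hab, hadj, ht, -, hdom, hinjA, haP, ⟨θ, hθ, hker⟩, hcomp, hloc'⟩ :=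
      exists_chart_point π z hx hπ hdim
    letI := φ.hom.toAlgebra
    letI := ψ.hom.toAlgebra
    haveI := hP
    haveI := hdom
    haveI := hloc'
    haveI : IsNoetherianRing C := by
      haveI : Algebra.FiniteType (X.presheaf.stalk (π z)) C := ⟨⟨{t}, by rw [Finset.coe_singleton]; exact hadj⟩⟩
      exact Algebra.FiniteType.isNoetherianRing (X.presheaf.stalk (π z)) C
    exact dim_le_two_of_chart P θ hθ hker haP
  · haveI := Div89.isIso_off_center hπ
    haveI : IsIso (π.stalkMap z) := by
      refine CAlg9.BirationalPoint.isIso_stalkMap_of_restrict π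
        (Scheme.IdealSheafData.vanishingIdeal ⟨{x}, hx⟩).support.compl z fun h => hz ?_
      have h' : π z ∈ ((Scheme.IdealSheafData.vanishingIdeal ⟨{x}, hx⟩).support : Set X) := h
      rw [Scheme.IdealSheafData.coe_support_vanishingIdeal] at h'
      exact h'
    rw [← ringKrullDim_eq_of_ringEquiv (asIso (π.stalkMap z)).commRingCatIsoToRingEquiv]
    exact hdimX _

/-- A composite of contractions precomposed with the blow-up of a point. -/
theorem isContractionSeq_blowUp_comp {X Y Z : Scheme.{u}} [IsNoetherian Y] (π : X ⟶ Y) {y : Y}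
    (hy : IsClosed ({y} : Set Y)) (hreg : IsRegularLocalRing (Y.presheaf.stalk y))
    (hdim : ringKrullDim (Y.presheaf.stalk y) = 2)
    (hπ : BlowUp.IsBlowUp π (Scheme.IdealSheafData.vanishingIdeal ⟨{y}, hy⟩))
    {r : Y ⟶ Z} (hr : Models.IsContractionSeq r) : Models.IsContractionSeq (π ≫ r) := by
  haveI : IsProper π := Res23.isProper_of_isBlowUp hπ
  refine Models.IsContractionSeq.step
    ((Scheme.IdealSheafData.vanishingIdeal (⟨{y}, hy⟩ : Closeds Y)).comap π).subschemeι π r inferInstance
    (isExcCurve_exceptional π hy hreg hdim hπ) ⟨inferInstance, inferInstance, y, hy, ?_, hreg, hdim, hπ⟩ hr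
  rw [Scheme.Hom.comp_base, TopCat.coe_comp, Set.range_comp, Scheme.IdealSheafData.range_subschemeι,
    Scheme.IdealSheafData.support_comap, Closeds.coe_preimage, Scheme.IdealSheafData.coe_support_vanishingIdeal]
  show π.base '' (π.base ⁻¹' {y}) = {y}
  rw [Set.image_preimage_eq_inter_range, Set.inter_eq_left, Set.singleton_subset_iff]
  exact Res23.BlowPointFibre.surjective hy hreg hdim hπ y

theorem isContractionSeq_iso_comp {X Y Z : Scheme.{u}} (e : X ≅ Y) {r : Y ⟶ Z}
    (hr : Models.IsContractionSeq r) : Models.IsContractionSeq (e.hom ≫ r) := by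
  cases hr with
  | iso e' => exact Models.IsContractionSeq.iso (e ≪≫ e')
  | step ι b r hι hE hb hr =>
    obtain ⟨hN, -, y, hy, -, hreg, hdim, hbl⟩ := hb
    haveI := hN
    rw [← Category.assoc]
    exact isContractionSeq_blowUp_comp (e.hom ≫ b) hy hreg hdim (RegImm10.BlowLocal.isBlowUp_iso_comp e hbl) hr

/-- Composites of composites of contractions. -/
theorem isContractionSeq_comp {X Y Z : Scheme.{u}} {f : X ⟶ Y} (hf : Models.IsContractionSeq f) {g : Y ⟶ Z}
    (hg : Models.IsContractionSeq g) : Models.IsContractionSeq (f ≫ g) := by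
  induction hf with
  | iso e => exact isContractionSeq_iso_comp e hg
  | step ι b r hι hE hb hr ih =>
    rw [Category.assoc]
    exact Models.IsContractionSeq.step ι b (r ≫ g) hι hE hb (ih hg)

/-- The source of a composite of contractions onto a regular surface is a regular surface. -/
theorem isRegSurf_of_isContractionSeq {X Y : Scheme.{u}} {f : X ⟶ Y} (hf : Models.IsContractionSeq f)
    (hY : IsRegSurf Y) : IsRegSurf X := by
  induction hf with
  | @iso X Y e =>
    haveI := hY.1
    haveI := hY.2.1
    haveI : IsLocallyNoetherian X := LocallyOfFiniteType.isLocallyNoetherian e.hom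
    haveI : CompactSpace X := QuasiCompact.compactSpace_of_compactSpace e.hom
    haveI : IsNoetherian X := ⟨⟩
    haveI : Nonempty X := ⟨e.inv.base (genericPoint Y)⟩
    haveI : IsIntegral X := isIntegral_of_isOpenImmersion e.hom
    refine ⟨inferInstance, inferInstance, fun x => ?_, fun x => ?_⟩
    · haveI := hY.2.2.1 (e.hom x)
      exact IsRegularLocalRing.of_ringEquiv (asIso (e.hom.stalkMap x)).commRingCatIsoToRingEquiv
    · rw [← ringKrullDim_eq_of_ringEquiv (asIso (e.hom.stalkMap x)).commRingCatIsoToRingEquiv]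
      exact hY.2.2.2 _
  | step ι b r hι hE hb hr ih =>
    obtain ⟨-, -, y, hy, -, -, hdim, hbl⟩ := hb
    exact isRegSurf_blowUp_point (ih hY) b hy hdim hbl

/-- The non-closed points of a closed subset which misses the generic point of a surface are finite. -/
theorem finite_nonclosed {X : Scheme.{u}} [IsIntegral X] [NoetherianSpace X] (hdim : topologicalKrullDim X ≤ 2)
    {Z : Set X} (hZ : IsClosed Z) (hgen : genericPoint X ∉ Z) :
    {ξ | ξ ∈ Z ∧ ¬ IsClosed ({ξ} : Set X)}.Finite := by
  obtain ⟨S, hS, hcl, hirr, hun⟩ := NoetherianSpace.exists_finite_set_isClosed_irreducible hZ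
  refine (hS.biUnion (t := fun s => {z : X | IsGenericPoint z s}) fun s _ =>
    Set.Subsingleton.finite fun a ha b hb => ha.eq hb).subset ?_
  rintro ξ ⟨hξZ, hξ⟩
  rw [hun] at hξZ
  obtain ⟨s, hs, hξs⟩ := Set.mem_sUnion.1 hξZ
  obtain ⟨v, hv⟩ := QuasiSober.sober (hirr s hs) (hcl s hs)
  have hvZ : v ∈ Z := hun ▸ Set.mem_sUnion.2 ⟨s, hs, hv.mem⟩
  refine Set.mem_biUnion hs (show IsGenericPoint ξ s from ?_)
  obtain ⟨c, hc, hcne⟩ : ∃ c, ξ ⤳ c ∧ c ≠ ξ := by
    by_contra hcon
    push Not at hcon
    refine hξ ?_
    rw [← closure_subset_iff_isClosed]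
    exact fun c hc => hcon c (specializes_iff_mem_closure.2 hc)
  rcases eq_of_dim_le_two hdim (genericPoint_specializes v) (hv.specializes hξs) hc with e | e | e
  · exact absurd (e ▸ hvZ) hgen
  · exact e ▸ hv
  · exact absurd e.symm hcne

section Birat

variable {X Y : Scheme.{u}} [IsIntegral X] [IsIntegral Y] (f : X ⟶ Y) (U : Y.Opens) (hU : (U : Set Y).Nonempty)
  [IsIso (f ∣_ U)]

/-- The points of curves contracted to a point. -/
def contracted : Set X := {ξ | ¬ IsClosed ({ξ} : Set X) ∧ IsClosed ({f.base ξ} : Set Y)}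

omit [IsIntegral X] [IsIntegral Y] in
theorem contracted_subset [IsProper f] : contracted f ⊆ {ξ | ξ ∈ f.base ⁻¹' (U : Set Y)ᶜ ∧ ¬ IsClosed ({ξ} : Set X)} := by
  rintro ξ ⟨h1, h2⟩
  refine ⟨fun hξU => h1 ?_, h1⟩
  have : f.base ⁻¹' {f.base ξ} = {ξ} := Set.eq_singleton_iff_unique_mem.2 ⟨rfl, fun a ha =>
    CAlg9.BirationalPoint.injOn_of_restrict f U (show f a ∈ U by rw [show f a = f ξ from ha]; exact hξU) ha⟩
  exact this ▸ h2.preimage f.continuous

include hU in
theorem finite_contracted [NoetherianSpace X] [IsProper f] (hdim : topologicalKrullDim X ≤ 2) :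
    (contracted f).Finite := by
  refine (finite_nonclosed hdim (U.2.isClosed_compl.preimage f.continuous) ?_).subset (contracted_subset f U)
  intro h
  refine h ?_
  show f.base (genericPoint X) ∈ (U : Set Y)
  rw [show f.base (genericPoint X) = genericPoint Y from map_genericPoint f U hU]
  exact genericPoint_mem U hU

include hU in
/-- A birational proper morphism onto a normal scheme contracting no curve is an isomorphism. -/
theorem isIso_of_contracted_empty [NoetherianSpace X] [IsProper f] (hdX : topologicalKrullDim X ≤ 2)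
    (hN : ∀ y : Y, IsIntegrallyClosed (Y.presheaf.stalk y)) (h : contracted f = ∅) : IsIso f := by
  have hgen := map_genericPoint f U hU
  haveI : LocallyQuasiFinite f := by
    refine LocallyQuasiFinite.of_finite_preimage_singleton f fun y => ?_
    by_cases hη : y = genericPoint Y
    · refine Set.Subsingleton.finite fun a ha b hb => CAlg9.BirationalPoint.injOn_of_restrict f U
        (show f a ∈ U by rw [show f a = y from ha, hη]; exact genericPoint_mem U hU)
        ((show f a = y from ha).trans (show f b = y from hb).symm)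
    have hgy : genericPoint X ∉ f.base ⁻¹' closure {y} := fun hh => hη <| by
      have h1 : f (genericPoint X) ∈ closure ({y} : Set Y) := hh
      rw [hgen] at h1
      exact ((genericPoint_specializes y).antisymm (specializes_iff_mem_closure.2 h1)).eq.symm
    by_cases hy : IsClosed ({y} : Set Y)
    · obtain ⟨S, hS, hcl, hirr, hun⟩ := NoetherianSpace.exists_finite_set_isClosed_irreducible
        (hy.preimage f.continuous)
      rw [show f ⁻¹' {y} = f.base ⁻¹' {y} from rfl, hun]
      refine hS.sUnion fun s hs => ?_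
      obtain ⟨v, hv⟩ := QuasiSober.sober (hirr s hs) (hcl s hs)
      have hvy : f.base v = y := by
        have : v ∈ f.base ⁻¹' {y} := hun ▸ Set.mem_sUnion.2 ⟨s, hs, hv.mem⟩
        exact this
      have hvc : IsClosed ({v} : Set X) := by
        by_contra hc
        exact Set.eq_empty_iff_forall_notMem.1 h v ⟨hc, hvy ▸ hy⟩
      rw [← hv.def, hvc.closure_eq]
      exact Set.finite_singleton v
    · refine (finite_nonclosed hdX (isClosed_closure.preimage f.continuous) hgy).subset fun c hc => ?_
      have hc' : f c = y := hc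
      refine ⟨show f c ∈ closure {y} from hc' ▸ subset_closure rfl, fun hcl => hy ?_⟩
      rw [← hc', ← Set.image_singleton]
      exact f.isClosedMap _ hcl
  haveI : IsFinite f := IsFinite.of_isProper_of_locallyQuasiFinite f
  exact LimTop61.isIso_of_isFinite_birational hN f hgen
    (CAlg9.BirationalPoint.isIso_stalkMap_of_restrict f U _ (hgen ▸ genericPoint_mem U hU))

end Birat

/-- Birational proper morphisms of regular surfaces are composites of contractions. -/
theorem isContractionSeq_of_birational {X Y : Scheme.{u}} (f : X ⟶ Y) [IsProper f] (hX : IsRegSurf X)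
    (hY : IsRegSurf Y) (U : Y.Opens) (hU : (U : Set Y).Nonempty) (hf : IsIso (f ∣_ U)) :
    Models.IsContractionSeq f := by
  suffices key : ∀ (n : ℕ) {Y : Scheme.{u}} (f : X ⟶ Y) [IsProper f], IsRegSurf Y → ∀ (U : Y.Opens),
      (U : Set Y).Nonempty → IsIso (f ∣_ U) → (contracted f).ncard ≤ n → Models.IsContractionSeq f from
    key _ f hY U hU hf le_rfl
  obtain ⟨hintX, hnoeX, hregX, -⟩ := id hX
  haveI := hintX
  haveI := hnoeX
  intro n
  induction n with
  | zero =>
    intro Y f _ hY U hU hf hn
    haveI := hY.1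
    haveI := hf
    haveI := isIso_of_contracted_empty f U hU hX.dim_le hY.normal
      ((Set.ncard_eq_zero (finite_contracted f U hU hX.dim_le)).1 (Nat.le_zero.1 hn))
    exact Models.IsContractionSeq.iso (asIso f)
  | succ n ih =>
    intro Y f _ hY U hU hf hn
    haveI := hY.1
    haveI := hY.2.1
    haveI := hf
    rcases (contracted f).eq_empty_or_nonempty with he | ⟨ξ, hξ, hy⟩
    · haveI := isIso_of_contracted_empty f U hU hX.dim_le hY.normal he
      exact Models.IsContractionSeq.iso (asIso f)
    set y := f.base ξ with hyd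
    have hbig : ∃ x x' : X, x ≠ x' ∧ f.base x = y ∧ f.base x' = y := by
      by_contra hcon
      push Not at hcon
      refine hξ ?_
      have : f.base ⁻¹' {y} = {ξ} := Set.eq_singleton_iff_unique_mem.2 ⟨rfl, fun a ha =>
        by_contra fun hne => hcon a ξ hne ha rfl⟩
      exact this ▸ hy.preimage f.continuous
    have hyU : y ∉ U := fun hh => by
      obtain ⟨a, b, hab, ha, hb⟩ := hbig
      exact hab (CAlg9.BirationalPoint.injOn_of_restrict f U
        (show f a ∈ U by rw [show f a = y from ha]; exact hh) (ha.trans hb.symm))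
    have hdim := dim_stalk_eq_two_of_big f hY.2.2.1 hY.dim_le U hU y hy hyU hbig
    have hcar := isEffCartier_comap_point f hregX hY.2.2.1 hX.dim_le hY.dim_le U hU y hy hbig
    obtain ⟨Y', π, hπ⟩ := FBlow13.exists_isBlowUp_scheme Y (Scheme.IdealSheafData.vanishingIdeal ⟨{y}, hy⟩)
    haveI : IsProper π := Res23.isProper_of_isBlowUp hπ
    have hY' := isRegSurf_blowUp_point hY π hy hdim hπ
    haveI := hY'.1
    obtain ⟨g, hg, -⟩ := hπ.2 X f hcar
    have hg : g ≫ π = f := hg
    haveI : IsProper g := by
      haveI : IsProper (g ≫ π) := by rw [hg]; infer_instance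
      exact IsProper.of_comp g π
    haveI hπU : IsIso (π ∣_ U) := by
      haveI := Div89.isIso_off_center hπ
      refine isIso_restrict_mono π (U := (Scheme.IdealSheafData.vanishingIdeal
        (⟨{y}, hy⟩ : Closeds Y)).support.compl) ?_
      intro a ha
      show a ∉ ((Scheme.IdealSheafData.vanishingIdeal (⟨{y}, hy⟩ : Closeds Y)).support : Set Y)
      rw [Scheme.IdealSheafData.coe_support_vanishingIdeal]
      exact fun e => hyU (Set.mem_singleton_iff.1 e ▸ ha)
    haveI hgU : IsIso (g ∣_ (π ⁻¹ᵁ U)) := by
      subst hg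
      haveI : IsIso ((g ∣_ (π ⁻¹ᵁ U)) ≫ (π ∣_ U)) := morphismRestrict_comp g π U ▸ hf
      exact IsIso.of_isIso_comp_right (g ∣_ (π ⁻¹ᵁ U)) (π ∣_ U)
    have hU' : ((π ⁻¹ᵁ U : Y'.Opens) : Set Y').Nonempty := by
      refine ⟨g (genericPoint X), ?_⟩
      show π (g (genericPoint X)) ∈ U
      rw [← Scheme.Hom.comp_apply, hg, map_genericPoint f U hU]
      exact genericPoint_mem U hU
    rw [← hg]
    refine isContractionSeq_comp (ih g hY' _ hU' hgU ?_) ?_
    · have hsub : contracted g ⊆ contracted f := fun a ⟨ha, ha'⟩ => ⟨ha, by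
        rw [← hg]
        show IsClosed ({π (g a)} : Set Y)
        rw [← Set.image_singleton]
        exact π.isClosedMap _ ha'⟩
      obtain ⟨η, hηy, hηgen, -⟩ := Res23.BlowPointFibre.exists_generic_fibre hy (hY.2.2.1 y) hdim hπ
      obtain ⟨ξ', hξ'⟩ := surjective_of_birational g (π ⁻¹ᵁ U) hU' η
      have hηcl : ¬ IsClosed ({η} : Set Y') := fun hc => by
        obtain ⟨a, b, ha, hb, hab⟩ := fibre_nontrivial hy (hY.2.2.1 y) hdim hπ
        refine hab ?_
        have h1 : ∀ c, π c = y → c = η := fun c hc' =>
          Set.mem_singleton_iff.1 ((hηgen c hc').mem_closed hc rfl)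
        exact (h1 a ha).trans (h1 b hb).symm
      have hξ'f : ξ' ∈ contracted f := by
        refine ⟨fun hc => hηcl ?_, ?_⟩
        · rw [← hξ', ← Set.image_singleton]
          exact g.isClosedMap _ hc
        · rw [← hg]
          show IsClosed ({π (g.base ξ')} : Set Y)
          rw [show g.base ξ' = η from hξ', hηy]
          exact hy
      have hlt : (contracted g).ncard < (contracted f).ncard :=
        Set.ncard_lt_ncard (ssubset_iff_subset_ne.2 ⟨hsub, fun e => hηcl (by
          have := (e ▸ hξ'f : ξ' ∈ contracted g).2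
          rwa [show g.base ξ' = η from hξ'] at this)⟩) (finite_contracted f U hU hX.dim_le)
      omega
    · rw [← Category.comp_id π]
      exact isContractionSeq_blowUp_comp π hy (hY.2.2.1 y) hdim hπ (Models.IsContractionSeq.iso (Iso.refl Y))

end Groth.Agent.ArS10
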