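import Groth.Agent.ArS10.Deg
import Groth.Agent.ModPic.Fibre

/-!
Vertical prime divisors of an arithmetic surface over a discrete valuation ring.
-/

set_option autoImplicit false
set_option linter.style.haveILetI false
set_option backward.isDefEq.respectTransparency.types false

universe u

open CategoryTheory CategoryTheory.Limits AlgebraicGeometry TopologicalSpace Opposite
open scoped nonZeroDivisors

noncomputable section

namespace Groth.Agent.ArS10

/-- A regular integral surface, flat and proper over `R`. -/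
def IsSurf (R : Type u) [CommRing R] (X : Over (Spec (CommRingCat.of R))) : Prop :=
  (∀ x : X.left, IsRegularLocalRing (X.left.presheaf.stalk x)) ∧ IsIntegral X.left ∧
    topologicalKrullDim X.left = 2 ∧ Flat X.hom ∧ IsProper X.hom

theorem isSurf {R : Type u} [CommRing R] [IsDomain R] {X : Over (Spec (CommRingCat.of R))}
    (hX : ArSurf.IsArithSurface R X) : IsSurf R X :=
  ⟨hX.1, hX.2.1, hX.2.2.1, hX.2.2.2.1, isProper_hom hX⟩

variable {R : Type u} [CommRing R] [IsDomain R] [IsDiscreteValuationRing R]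
  {X : Over (Spec (CommRingCat.of R))}

/-- A strict specialization gives a strict inclusion of closures. -/
theorem closure_lt {T : Type*} [TopologicalSpace T] [T0Space T] {a b : T} (h : b ⤳ a) (hne : a ≠ b) :
    (⟨closure {a}, isIrreducible_singleton.closure, isClosed_closure⟩ : IrreducibleCloseds T) <
      ⟨closure {b}, isIrreducible_singleton.closure, isClosed_closure⟩ := by
  refine lt_of_le_of_ne h.closure_subset fun e => hne ?_
  have e' : closure ({a} : Set T) = closure {b} := congrArg IrreducibleCloseds.carrier e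
  exact Inseparable.eq ((inseparable_iff_closure_eq).2 e')

theorem range_subset_fibre (Γ : ArSurf.VertComp R X) :
    Set.range Γ.ι.base ⊆ Models.specialFibreSet R X := by
  rintro _ ⟨c, rfl⟩
  show X.hom.base (Γ.ι.base c) = IsLocalRing.closedPoint R
  rw [← Scheme.Hom.comp_apply, Γ.w, Scheme.Hom.comp_apply,
    Subsingleton.elim (Γ.curve.hom.base c) (IsLocalRing.closedPoint (IsLocalRing.ResidueField R))]
  exact IsLocalRing.comap_closedPoint (IsLocalRing.residue R)

theorem genericPoint_notMem_fibre [IsIntegral X.left] [Flat X.hom] :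
    genericPoint X.left ∉ Models.specialFibreSet R X := by
  intro h
  have h' : genericPoint X.left ∈ ((ModPic.fIdeal X.hom).support : Set X.left) := by
    rw [ModPic.support_specialFibreIdeal]
    exact h
  obtain ⟨U, hxU, a, ha, hspan⟩ := ModPic.isEffCartier_specialFibre X.hom (genericPoint X.left)
  have h2 : genericPoint X.left ∈ X.left.zeroLocus (U := U.1) ((ModPic.fIdeal X.hom).ideal U) ∩ U.1 := by
    rw [← (ModPic.fIdeal X.hom).coe_support_inter U]
    exact ⟨h', hxU⟩
  rw [hspan, Scheme.zeroLocus_span] at h2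
  have hnot : genericPoint X.left ∉ X.left.basicOpen a := by
    simpa [Scheme.mem_zeroLocus_iff] using h2.1
  have hbot : X.left.basicOpen a = ⊥ := by
    by_contra hne
    obtain ⟨z, hz⟩ := (Opens.ne_bot_iff_nonempty _).1 hne
    exact hnot (((genericPoint_spec X.left).mem_open_set_iff (X.left.basicOpen a).2).2 ⟨z, trivial, hz⟩)
  haveI : Nonempty U.1 := ⟨⟨_, hxU⟩⟩
  exact nonZeroDivisors.ne_zero ha ((basicOpen_eq_bot_iff a).1 hbot)

theorem exists_specialization (Γ : ArSurf.VertComp R X) :
    ∃ c : Γ.curve.left, c ≠ genericPoint Γ.curve.left := by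
  by_contra h
  simp only [not_exists, not_not] at h
  haveI : Subsingleton Γ.curve.left := ⟨fun a b => (h a).trans (h b).symm⟩
  have := topologicalKrullDim_zero_of_discreteTopology Γ.curve.left
  rw [Γ.dim_eq] at this
  exact absurd this (by norm_num)

/-- The generic point of a vertical prime divisor is a maximal point of the special fibre. -/
theorem isFibreMax (hX : IsSurf R X) (Γ : ArSurf.VertComp R X) :
    ModPic.IsFibreMax X.hom (Γ.ι.base (genericPoint Γ.curve.left)) := by
  obtain ⟨-, hint, hdim, hflat, -⟩ := hX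
  haveI := hint
  haveI := hflat
  refine ⟨range_subset_fibre Γ (Set.mem_range_self _), fun y hy hyx => ?_⟩
  by_contra hne
  obtain ⟨c, hc⟩ := exists_specialization Γ
  have h1 : Γ.ι.base (genericPoint Γ.curve.left) ⤳ Γ.ι.base c :=
    (genericPoint_specializes c).map Γ.ι.continuous
  have h1' : Γ.ι.base c ≠ Γ.ι.base (genericPoint Γ.curve.left) :=
    fun e => hc (Γ.ι.isClosedEmbedding.injective e)
  have h2 : y ≠ genericPoint X.left := fun e => genericPoint_notMem_fibre (X := X) (e ▸ hy)
  let q : X.left → IrreducibleCloseds X.left := fun x =>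
    ⟨closure {x}, isIrreducible_singleton.closure, isClosed_closure⟩
  let s : LTSeries (IrreducibleCloseds X.left) :=
    (((RelSeries.singleton _ (q (Γ.ι.base c))).snoc (q (Γ.ι.base (genericPoint Γ.curve.left)))
      (closure_lt h1 h1')).snoc (q y) (by rw [RelSeries.last_snoc]; exact closure_lt hyx (Ne.symm hne))).snoc
      (q (genericPoint X.left)) (by rw [RelSeries.last_snoc]; exact closure_lt (genericPoint_specializes y) h2)
  have h3 : ((3 : ℕ) : WithBot ℕ∞) ≤ topologicalKrullDim X.left := Order.LTSeries.length_le_krullDim s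
  rw [hdim] at h3
  exact absurd h3 (by norm_num)

theorem isGenericPoint (Γ : ArSurf.VertComp R X) :
    IsGenericPoint (Γ.ι.base (genericPoint Γ.curve.left)) (Set.range Γ.ι.base) :=
  ModPic.isGenericPoint_cPt (p := X.hom) Γ

/-- A vertical prime divisor is an effective Cartier divisor. -/
theorem isEffCartier (hX : IsSurf R X) (Γ : ArSurf.VertComp R X) :
    BlowUp.IsEffCartierIdeal Γ.ι.ker := by
  haveI := hX.2.2.2.2
  haveI := hX.2.2.2.1
  haveI := LocallyOfFiniteType.isLocallyNoetherian X.hom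
  refine Div89.isEffCartier_of_radical_codim_one_ufd _ (ModPic.isRadical_cI (p := X.hom) Γ)
    (fun z hz hmax => ?_) fun x _ => ModPic.ufm_stalk hX.1 x
  have hz' := (ModPic.isGenericPoint_support (p := X.hom) Γ).specializes hz
  rw [← hmax _ (ModPic.isGenericPoint_support (p := X.hom) Γ).mem hz']
  exact ModPic.dim_stalk_fibreMax X.hom (isFibreMax hX Γ)

theorem range_eq_of_mem (hX : IsSurf R X) {Γ₁ Γ₂ : ArSurf.VertComp R X}
    (h : Γ₁.ι.base (genericPoint Γ₁.curve.left) ∈ Set.range Γ₂.ι.base) :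
    Set.range Γ₁.ι.base = Set.range Γ₂.ι.base := by
  have he := (isFibreMax hX Γ₁).2 _ (isFibreMax hX Γ₂).1 ((isGenericPoint Γ₂).specializes h)
  rw [← (isGenericPoint Γ₁).def, ← (isGenericPoint Γ₂).def, he]

theorem notMem_support (hX : IsSurf R X) {Γ₁ Γ₂ : ArSurf.VertComp R X}
    (hne : Set.range Γ₁.ι.base ≠ Set.range Γ₂.ι.base) :
    Γ₁.ι.base (genericPoint Γ₁.curve.left) ∉ (Γ₂.ι.ker.support : Set X.left) := fun h =>
  hne (range_eq_of_mem hX ((ModPic.support_cI (p := X.hom) Γ₂).le h))

theorem inter_eq_length (hX : IsSurf R X) (Γ : ArSurf.VertComp R X)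
    {D : X.left.IdealSheafData} (hD : FGA.IsEffCartier D)
    (hΓ : Γ.ι.base (genericPoint Γ.curve.left) ∉ (D.support : Set X.left))
    {L : X.left.Modules} (hL : ClSub.IsInverseOf L (ClSub.idealMod D)) :
    ArSurf.inter R X L Γ = (Models.lengthH R X (ClSub.quotMod (D ⊔ Γ.ι.ker)) 0 : ℤ) := by
  haveI := hX.2.2.2.2
  haveI := isNoetherian_curve Γ
  rw [inter_eq_h0 Γ hD hΓ hL, lengthH_inf Γ ((curveCoh Γ).finite _ (Crv77.isCoh_quotMod (cut Γ D)) 0)]

theorem inter_symm (hX : IsSurf R X) (Γ₁ Γ₂ : ArSurf.VertComp R X)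
    (hne : Set.range Γ₁.ι.base ≠ Set.range Γ₂.ι.base) {L₁ L₂ : X.left.Modules}
    (h₁ : ClSub.IsInverseOf L₁ (ClSub.idealMod Γ₁.ι.ker))
    (h₂ : ClSub.IsInverseOf L₂ (ClSub.idealMod Γ₂.ι.ker)) :
    ArSurf.inter R X L₂ Γ₁ = ArSurf.inter R X L₁ Γ₂ := by
  rw [inter_eq_length hX Γ₁ (isEffCartier hX Γ₂) (notMem_support hX hne) h₂,
    inter_eq_length hX Γ₂ (isEffCartier hX Γ₁) (notMem_support hX hne.symm) h₁, sup_comm]

theorem self_inter (hX : IsSurf R X) (Γ : ArSurf.VertComp R X) {L : X.left.Modules}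
    (hL : ClSub.IsInverseOf L (ClSub.idealMod Γ.ι.ker)) :
    ArSurf.inter R X L Γ = - deg Γ (Omega.conormal Γ.ι) := by
  haveI := hX.2.2.2.2
  obtain ⟨e⟩ := hL
  have hI := (Curves2.isInvertible_idealMod_iff _).2 (isEffCartier hX Γ)
  have hLinv := Inv57.isInvertible_of_tensorMod_iso e
  haveI := Amp73.isIso_pullTensHom Γ.ι hLinv hI
  exact deg_inverse Γ (Amp73.isInvertible_pullback Γ.ι hLinv) (Amp73.isInvertible_pullback Γ.ι hI)
    ((asIso (Amp73.pullTensHom Γ.ι L (ClSub.idealMod Γ.ι.ker))).symm ≪≫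
      (Scheme.Modules.pullback Γ.ι).mapIso e ≪≫ PicLoc.pullbackStructureIso Γ.ι)

end Groth.Agent.ArS10
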