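import Groth.Agent.ArS10.Comp
import Groth.Agent.Curves2.CurveComponents
import Groth.Agent.EGA4Alg4.IntegralDim
import Groth.Agent.Units47.Flat

/-!
Existence of the list of components of a connected closed fibre.
-/

set_option autoImplicit false
set_option linter.style.haveILetI false
set_option backward.isDefEq.respectTransparency.types false

universe u

open CategoryTheory CategoryTheory.Limits AlgebraicGeometry TopologicalSpace Opposite

noncomputable section

namespace Groth.Agent.ArS10

variable {R : Type u} [CommRing R] [IsDomain R] [IsDiscreteValuationRing R]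
  {X : Over (Spec (CommRingCat.of R))}

theorem finite_fibreMax (hX : IsSurf R X) : {z | ModPic.IsFibreMax X.hom z}.Finite := by
  haveI := hX.2.2.2.2
  haveI := ModPic.isNoetherian X.hom
  obtain ⟨S, hS, hcl, hirr, hun⟩ := NoetherianSpace.exists_finite_set_isClosed_irreducible
    (Models.isClosed_specialFibreSet R X)
  refine (hS.biUnion (t := fun s => {z : X.left | IsGenericPoint z s}) fun s _ =>
    Set.Subsingleton.finite fun a ha b hb => ha.eq hb).subset fun z hz => ?_
  have hz1 : z ∈ Models.specialFibreSet R X := hz.1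
  rw [hun] at hz1
  obtain ⟨s, hs, hzs⟩ := Set.mem_sUnion.1 hz1
  obtain ⟨w, hw⟩ := QuasiSober.sober (hirr s hs) (hcl s hs)
  have hwF : w ∈ Models.specialFibreSet R X := by
    rw [hun]
    exact Set.mem_sUnion.2 ⟨s, hs, hw.mem⟩
  obtain rfl := hz.2 w hwF (hw.specializes hzs)
  exact Set.mem_biUnion hs hw

/-- No component of a connected closed fibre of a surface is a point. -/
theorem exists_ne_mem_closure (hX : IsSurf R X) (hconn : _root_.IsPreconnected (Models.specialFibreSet R X))
    {z : X.left} (hz : ModPic.IsFibreMax X.hom z) : ∃ c, z ⤳ c ∧ c ≠ z := by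
  obtain ⟨hreg, hint, hdim, hflat, hprop⟩ := hX
  haveI := hint
  haveI := hflat
  haveI := hprop
  by_contra h
  simp only [not_exists, not_and, not_not] at h
  have hclz : IsClosed ({z} : Set X.left) := by
    rw [show ({z} : Set X.left) = closure {z} from
      subset_antisymm subset_closure fun c hc => h c (specializes_iff_mem_closure.2 hc)]
    exact isClosed_closure
  let M := {w | ModPic.IsFibreMax X.hom w} \ {z}
  have hM : M.Finite := (finite_fibreMax (X := X) ⟨hreg, hint, hdim, hflat, hprop⟩).sdiff
  have hrest : IsClosed (⋃ w ∈ M, closure ({w} : Set X.left)) :=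
    hM.isClosed_biUnion fun _ _ => isClosed_closure
  have hF : Models.specialFibreSet R X = {z} := by
    refine subset_antisymm (fun x hx => ?_) (Set.singleton_subset_iff.2 hz.1)
    by_contra hxz
    obtain ⟨w, ⟨-, hw⟩⟩ := isPreconnected_closed_iff.1 hconn {z} _ hclz hrest (fun y hy => by
        obtain ⟨w, hw, hwy⟩ := ModPic.exists_fibreMax X.hom hy
        by_cases hwz : w = z
        · subst hwz
          exact Or.inl (h y hwy)
        · exact Or.inr (Set.mem_biUnion (show w ∈ M from ⟨hw, hwz⟩) (specializes_iff_mem_closure.1 hwy)))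
      ⟨z, hz.1, rfl⟩ ⟨x, hx, by
        obtain ⟨w, hw, hwy⟩ := ModPic.exists_fibreMax X.hom hx
        have hwz : w ≠ z := fun e => hxz (h x (e ▸ hwy))
        exact Set.mem_biUnion (show w ∈ M from ⟨hw, hwz⟩) (specializes_iff_mem_closure.1 hwy)⟩
    obtain ⟨rfl, hw⟩ := hw
    obtain ⟨v, hv, hvw⟩ := Set.mem_iUnion₂.1 hw
    exact hv.2 (hv.1.2 _ hv.1.1 (specializes_refl _) ▸ (hz.2 v hv.1.1 (specializes_iff_mem_closure.2 hvw)))
  have hsp : ∀ x : X.left, x ⤳ z := fun x => by
    have hcl : IsClosed (X.hom.base '' closure {x}) := X.hom.isClosedMap _ isClosed_closure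
    have h0 : IsLocalRing.closedPoint R ∈ X.hom.base '' closure {x} :=
      (IsLocalRing.specializes_closedPoint (X.hom.base x)).mem_closed hcl ⟨x, subset_closure rfl, rfl⟩
    obtain ⟨y, hy, hyc⟩ := h0
    have hyz : y ∈ ({z} : Set X.left) := hF ▸ (show y ∈ Models.specialFibreSet R X from hyc)
    exact specializes_iff_mem_closure.2 ((Set.mem_singleton_iff.1 hyz) ▸ hy)
  obtain ⟨_, ⟨U, hU, rfl⟩, hzU, -⟩ :=
    X.left.isBasis_affineOpens.exists_subset_of_mem_open (Set.mem_univ z) isOpen_univ
  have hUtop : U = ⊤ := top_le_iff.1 fun x _ => (hsp x).mem_open U.2 hzU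
  haveI : IsAffine X.left := by
    subst hUtop
    haveI : IsAffine (⊤ : X.left.Opens).toScheme := hU
    exact IsAffine.of_isIso X.left.topIso.inv
  haveI : IsFinite X.hom := IsFinite.iff_isProper_and_isAffineHom.2 ⟨inferInstance, inferInstance⟩
  let φ : R →+* Γ(X.left, ⊤) := ((Scheme.ΓSpecIso (CommRingCat.of R)).inv ≫ X.hom.appTop).hom
  have hφ : φ.Finite := by
    have h1 := IsFinite.finite_app (f := X.hom) ⊤ (isAffineOpen_top _)
    exact RingHom.Finite.comp h1 (RingHom.Finite.of_surjective _
      (ConcreteCategory.bijective_of_isIso (Scheme.ΓSpecIso (CommRingCat.of R)).inv).2)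
  letI := φ.toAlgebra
  haveI : Module.Finite R Γ(X.left, ⊤) := hφ
  have h1 : ringKrullDim Γ(X.left, ⊤) ≤ 1 :=
    (EGA4Alg4.ringKrullDim_le_of_integral R Γ(X.left, ⊤)).trans (Ring.krullDimLE_iff.1 inferInstance)
  have h2 : topologicalKrullDim X.left = topologicalKrullDim (Spec Γ(X.left, ⊤)) :=
    IsHomeomorph.topologicalKrullDim_eq _ X.left.isoSpec.hom.homeomorph.isHomeomorph
  rw [hdim] at h2
  have h3 : topologicalKrullDim (Spec Γ(X.left, ⊤)) ≤ 1 :=
    (PrimeSpectrum.topologicalKrullDim_eq_ringKrullDim (R := Γ(X.left, ⊤))).le.trans h1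
  rw [← h2] at h3
  exact absurd h3 (by norm_num)

theorem dim_closedImmersion_eq_one (hX : IsSurf R X) {C : Scheme.{u}} [IsIntegral C] (ι : C ⟶ X.left)
    [IsClosedImmersion ι] (hι : Set.range ι ⊆ Models.specialFibreSet R X)
    {c : C} (hc : c ≠ genericPoint C) : topologicalKrullDim C = 1 := by
  obtain ⟨-, hint, hdim, hflat, -⟩ := hX
  haveI := hint
  haveI := hflat
  apply le_antisymm
  · refine iSup_le fun s => ?_
    let m := s.map _ (IrreducibleCloseds.map_strictMono_of_isInducing ι.isClosedEmbedding.isInducing)
    let T : IrreducibleCloseds X.left :=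
      ⟨closure {genericPoint X.left}, isIrreducible_singleton.closure, isClosed_closure⟩
    have hlt : m.last < T := by
      refine lt_of_le_of_ne (fun x _ => (genericPoint_specializes x).mem_closure) fun e => ?_
      have h1 : genericPoint X.left ∈ closure (ι '' (s.last : Set C)) :=
        (e.symm ▸ subset_closure rfl : genericPoint X.left ∈ (m.last : Set X.left))
      exact genericPoint_notMem_fibre (X := X) (closure_minimal ((Set.image_subset_range _ _).trans hι)
        (Models.isClosed_specialFibreSet R X) h1)
    have h3 : ((s.length + 1 : ℕ) : WithBot ℕ∞) ≤ topologicalKrullDim X.left :=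
      Order.LTSeries.length_le_krullDim (m.snoc T hlt)
    rw [hdim] at h3
    have : s.length + 1 ≤ 2 := by exact_mod_cast h3
    exact_mod_cast (show s.length ≤ 1 by omega)
  · exact Order.LTSeries.length_le_krullDim ((RelSeries.singleton _
      (⟨closure {c}, isIrreducible_singleton.closure, isClosed_closure⟩ : IrreducibleCloseds C)).snoc
      ⟨closure {genericPoint C}, isIrreducible_singleton.closure, isClosed_closure⟩
      (closure_lt (genericPoint_specializes c) hc))

/-- The components of a connected closed fibre. -/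
theorem exists_compList (hX : IsSurf R X) (hconn : _root_.IsPreconnected (Models.specialFibreSet R X)) :
    ∃ (r : ℕ) (Γ : Fin r → ArSurf.VertComp R X), Models.IsComponentList R X Γ ∧
      ∀ z, ModPic.IsFibreMax X.hom z → ∃ i, Models.genPtOf R X (Γ i) = z := by
  classical
  haveI := hX.2.2.2.2
  haveI := hX.2.2.2.1
  have key : ∀ z, ModPic.IsFibreMax X.hom z →
      ∃ Γ : ArSurf.VertComp R X, Set.range Γ.ι.base = closure {z} := by
    intro z hz
    haveI : IsClosedImmersion (Spec.map (CommRingCat.ofHom (IsLocalRing.residue R))) :=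
      IsClosedImmersion.spec_of_surjective _ IsLocalRing.residue_surjective
    let Z : Closeds X.left := ⟨closure {z}, isClosed_closure⟩
    let I := Scheme.IdealSheafData.vanishingIdeal Z
    haveI : IsIntegral I.subscheme := Curves2.isIntegral_vanishingIdeal Z isIrreducible_singleton.closure
    have hrange : Set.range I.subschemeι = closure {z} := by
      rw [Scheme.IdealSheafData.range_subschemeι, Scheme.IdealSheafData.coe_support_vanishingIdeal]
      rfl
    have hsub : Set.range I.subschemeι ⊆ Models.specialFibreSet R X :=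
      hrange.le.trans (closure_minimal (Set.singleton_subset_iff.2 hz.1) (Models.isClosed_specialFibreSet R X))
    have hle : (Spec.map (CommRingCat.ofHom (IsLocalRing.residue R))).ker ≤ (I.subschemeι ≫ X.hom).ker := by
      rw [Units47.ker_specMap, IsLocalRing.ker_residue, Scheme.Hom.ker_comp, Scheme.IdealSheafData.ker_subschemeι,
        Scheme.IdealSheafData.le_map_iff_comap_le]
      refine Scheme.IdealSheafData.le_support_iff_le_vanishingIdeal.1 ?_
      exact hrange.ge.trans hsub |>.trans (ModPic.support_specialFibreIdeal X.hom).ge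
    obtain ⟨c, hcz, hc⟩ := exists_ne_mem_closure hX hconn hz
    obtain ⟨c', hc'⟩ : c ∈ Set.range I.subschemeι := hrange ▸ specializes_iff_mem_closure.1 hcz
    have hgen : I.subschemeι (genericPoint I.subscheme) = z := by
      refine ((genericPoint_spec I.subscheme).image I.subschemeι.continuous).eq ?_
      show IsGenericPoint z (closure (I.subschemeι '' Set.univ))
      rw [Set.image_univ, hrange, closure_closure]
      exact isGenericPoint_closure
    have hd : topologicalKrullDim I.subscheme = 1 := dim_closedImmersion_eq_one hX I.subschemeι hsub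
      (c := c') fun e => hc (by rw [← hc', e, hgen])
    exact ⟨{ curve := Over.mk (IsClosedImmersion.lift _ (I.subschemeι ≫ X.hom) hle)
             ι := I.subschemeι
             isClosedImmersion := inferInstanceAs (IsClosedImmersion I.subschemeι)
             isIntegral := (‹IsIntegral I.subscheme› : IsIntegral I.subscheme)
             dim_eq := hd
             w := (IsClosedImmersion.lift_fac _ _ hle).symm }, hrange⟩
  choose g hg using key
  let M := (finite_fibreMax hX).toFinset
  let e := M.equivFin.symm
  have hmem : ∀ i, ModPic.IsFibreMax X.hom (e i : X.left) := fun i =>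
    ((Set.Finite.mem_toFinset (finite_fibreMax hX)).1 (e i).2 :)
  have hpt : ∀ z (hz : ModPic.IsFibreMax X.hom z), Models.genPtOf R X (g z hz) = z := fun z hz =>
    ((isGenericPoint (g z hz)).eq (by rw [hg z hz]; exact isGenericPoint_closure))
  refine ⟨M.card, fun i => g (e i) (hmem i), ⟨fun i j h => ?_, ?_⟩, fun z hz => ?_⟩
  · refine e.injective (Subtype.ext ?_)
    have h' : closure {(e i : X.left)} = closure {(e j : X.left)} := ((hg _ _).symm.trans h).trans (hg _ _)
    exact (Inseparable.eq ((inseparable_iff_closure_eq).2 h'))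
  · refine subset_antisymm ?_ fun S hS => ?_
    · rintro _ ⟨i, rfl⟩
      show Set.range (g _ (hmem i)).ι.base ∈ _
      rw [hg]
      exact ModPic.closure_mem_fibreComponents X.hom (hmem i)
    · obtain ⟨⟨hirr, hsub⟩, hmax⟩ := hS
      have hFcl := Models.isClosed_specialFibreSet R X
      obtain ⟨w, hw⟩ := QuasiSober.sober (α := X.left) hirr.closure isClosed_closure
      have hwF : w ∈ Models.specialFibreSet R X := closure_minimal hsub hFcl hw.mem
      obtain ⟨z, hz, hzw⟩ := ModPic.exists_fibreMax X.hom hwF
      have h1 : S ⊆ closure {z} :=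
        (subset_closure.trans hw.def.ge).trans hzw.closure_subset
      have h2 : closure {z} ⊆ S := hmax ⟨isIrreducible_singleton.closure,
        closure_minimal (Set.singleton_subset_iff.2 hz.1) hFcl⟩ h1
      refine ⟨e.symm ⟨z, (Set.Finite.mem_toFinset _).2 hz⟩, ?_⟩
      show Set.range (g _ _).ι.base = S
      rw [hg, Equiv.apply_symm_apply]
      exact subset_antisymm h2 h1
  · refine ⟨e.symm ⟨z, (Set.Finite.mem_toFinset _).2 hz⟩, ?_⟩
    show Models.genPtOf R X (g _ _) = z
    rw [hpt, Equiv.apply_symm_apply]

end Groth.Agent.ArS10
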