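import Groth.Agent.ArS10.FibreField
import Groth.Agent.Stein58.Zariski
import Groth.Agent.VarH0x75.Global
import Groth.Agent.LimTop61.SteinFinite
import Groth.Agent.Units47.Flat
import Mathlib.FieldTheory.PurelyInseparable.Basic

/-!
The ring of constants of the closed fibre.
-/

set_option autoImplicit false
set_option linter.style.haveILetI false
set_option backward.isDefEq.respectTransparency.types false

universe u

open CategoryTheory CategoryTheory.Limits AlgebraicGeometry TopologicalSpace Opposite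
open scoped nonZeroDivisors Groth.Agent.FGA29

noncomputable section

namespace Groth.Agent.ArS10

theorem exists_bezout {n : ℕ} (d : Fin n → ℕ) (h : Finset.univ.gcd d = 1) :
    ∃ u : Fin n → ℤ, ∑ i, u i * (d i : ℤ) = 1 := by
  rw [← Ideal.mem_span_range_iff_exists_fun]
  obtain ⟨g, hg⟩ := (IsPrincipalIdealRing.principal (Ideal.span (Set.range fun i => (d i : ℤ)))).principal
  rw [hg]
  have hd : ∀ i, g.natAbs ∣ d i := fun i => by
    have h1 : (d i : ℤ) ∈ Ideal.span (Set.range fun i => (d i : ℤ)) := Ideal.subset_span ⟨i, rfl⟩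
    rw [hg, Submodule.mem_span_singleton] at h1
    obtain ⟨a, ha⟩ := h1
    have h2 : g ∣ (d i : ℤ) := ⟨a, by rw [← ha, smul_eq_mul, mul_comm]⟩
    simpa using Int.natAbs_dvd_natAbs.2 h2
  have h1 : g.natAbs ∣ 1 := h ▸ Finset.dvd_gcd fun i _ => hd i
  refine Submodule.mem_span_singleton.2 ?_
  obtain ⟨a, ha⟩ : g ∣ 1 := Int.natAbs_dvd.1 (Int.natCast_dvd_natCast.2 h1)
  exact ⟨a, by rw [smul_eq_mul, mul_comm]; exact ha.symm⟩

theorem exists_pow_mem_of_idempotents {k K : Type u} [Field k] [CommRing K] [Algebra k K] [Module.Finite k K]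
    (L : Type u) [Field L] [Algebra k L] [IsAlgClosed L] [Algebra.IsAlgebraic k L]
    (hK : IsField K) (q : ℕ) [hq : ExpChar K q]
    (h : ∀ e : TensorProduct k L K, e * e = e → e = 0 ∨ e = 1) (t : K) :
    ∃ (n : ℕ) (a : k), algebraMap k K a = t ^ q ^ n := by
  letI := hK.toField
  haveI := VarH0x75.isPurelyInseparable_of_idempotents k K L h
  haveI : ExpChar k q := RingHom.expChar (algebraMap k K) (algebraMap k K).injective q
  obtain ⟨n, a, ha⟩ := IsPurelyInseparable.pow_mem k q t
  exact ⟨n, a, ha⟩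

/-- Constants of a closed subscheme that is a whole fibre of the Stein map are purely inseparable over
those of the ambient scheme. -/
theorem exists_pow_mem_range {X Z : Scheme.{u}} (ι : Z ⟶ X) [IsClosedImmersion ι] [IsProper X.toSpecΓ]
    (hK : IsField Γ(Z, ⊤)) (hfin : ι.appTop.hom.Finite) (q : ℕ) [ExpChar Γ(Z, ⊤) q]
    (hsurj : ∀ x : X, (X.toSpecΓ x).asIdeal = RingHom.ker ι.appTop.hom → x ∈ Set.range ι)
    (t : Γ(Z, ⊤)) : ∃ (n : ℕ) (a : Γ(X, ⊤)), ι.appTop a = t ^ q ^ n := by
  let φ : Γ(X, ⊤) →+* Γ(Z, ⊤) := ι.appTop.hom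
  haveI hm : (RingHom.ker φ).IsMaximal := by
    letI := hK.toField
    exact Ideal.isMaximal_comap_of_isIntegral_of_isMaximal' φ hfin.to_isIntegral (⊥ : Ideal Γ(Z, ⊤))
  let k' : Type u := Γ(X, ⊤) ⧸ RingHom.ker φ
  letI : Field k' := Ideal.Quotient.field _
  let ψ : k' →+* Γ(Z, ⊤) := Ideal.Quotient.lift _ φ fun a ha => ha
  letI : Algebra k' Γ(Z, ⊤) := ψ.toAlgebra
  haveI : Module.Finite k' Γ(Z, ⊤) := RingHom.Finite.of_comp_finite (f := Ideal.Quotient.mk (RingHom.ker φ))
    (g := ψ) (by exact hfin)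
  let L := AlgebraicClosure k'
  let c : Spec (CommRingCat.of k') ⟶ Spec Γ(X, ⊤) :=
    Spec.map (CommRingCat.ofHom (Ideal.Quotient.mk (RingHom.ker φ)))
  haveI : IsClosedImmersion c := IsClosedImmersion.spec_of_surjective _ Ideal.Quotient.mk_surjective
  let f' : Z ⟶ Spec (CommRingCat.of k') := Z.toSpecΓ ≫ Spec.map (CommRingCat.ofHom ψ)
  have hf' : f' ≫ c = ι ≫ X.toSpecΓ := by
    rw [Scheme.toSpecΓ_naturality, Category.assoc, ← Spec.map_comp]
    rfl
  haveI : IsProper (f' ≫ c) := by rw [hf']; infer_instance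
  haveI : IsProper f' := IsProper.of_comp f' c
  have halg : (f'.appTop.hom.comp (Scheme.ΓSpecIso (CommRingCat.of k')).inv.hom) = ψ := by
    have e : (Scheme.ΓSpecIso (CommRingCat.of k')).inv ≫ f'.appTop = CommRingCat.ofHom ψ := by
      simp [f']
    exact congrArg CommRingCat.Hom.hom e
  -- the geometric fibre is connected
  let g := VarH0x75.fieldMap k' L
  let y : Spec (CommRingCat.of L) ⟶ Spec Γ(X, ⊤) := g ≫ c
  haveI : IsIso X.toSpecΓ.appTop := by rw [Scheme.toSpecΓ_appTop]; infer_instance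
  haveI := Stein58.geometricallyConnected_of_isIso_appTop' (A := Γ(X, ⊤)) X.toSpecΓ
  haveI : ConnectedSpace ↥(pullback X.toSpecΓ y) :=
    GeometricallyConnected.geometrically_connectedSpace (f := X.toSpecΓ) y _ _ (IsPullback.of_hasPullback _ _)
  let h : pullback f' g ⟶ pullback X.toSpecΓ y :=
    pullback.lift (pullback.fst f' g ≫ ι) (pullback.snd f' g) (by
      rw [Category.assoc, ← hf', pullback.condition_assoc])
  have hP : IsPullback (pullback.fst f' g) (pullback.snd f' g) (ι ≫ X.toSpecΓ) y := by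
    rw [← hf']
    exact ⟨⟨by rw [pullback.condition_assoc]⟩, ⟨pullbackIsPullbackOfCompMono f' g c⟩⟩
  have hpb : IsPullback (pullback.fst f' g) h ι (pullback.fst X.toSpecΓ y) := by
    refine IsPullback.of_bot ?_ ((pullback.lift_fst ..).symm) (IsPullback.of_hasPullback _ _)
    rw [show h ≫ pullback.snd X.toSpecΓ y = pullback.snd f' g from pullback.lift_snd ..]
    exact hP
  haveI : IsClosedImmersion h := MorphismProperty.of_isPullback hpb ‹_›
  haveI : Surjective h := ⟨fun w => by
    have hw : (X.toSpecΓ (pullback.fst X.toSpecΓ y w)).asIdeal = RingHom.ker φ := by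
      rw [← Scheme.Hom.comp_apply, pullback.condition, Scheme.Hom.comp_apply, Scheme.Hom.comp_apply,
        Subsingleton.elim (g (pullback.snd X.toSpecΓ y w)) (⊥ : PrimeSpectrum k')]
      exact (Ideal.mk_ker : RingHom.ker (Ideal.Quotient.mk (RingHom.ker φ)) = RingHom.ker φ)
    obtain ⟨z, hz⟩ := hsurj _ hw
    obtain ⟨v, -, hv⟩ := Scheme.Pullback.exists_preimage_pullback (f := ι)
      (g := pullback.fst X.toSpecΓ y) z w hz
    refine ⟨hpb.isoPullback.inv v, ?_⟩
    rw [← Scheme.Hom.comp_apply, IsPullback.isoPullback_inv_snd]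
    exact hv⟩
  haveI : PreconnectedSpace ↥(pullback f' g) := by
    refine ⟨h.isClosedEmbedding.isInducing.isPreconnected_image.1 ?_⟩
    rw [Set.image_univ, h.surjective.range_eq]
    exact isPreconnected_univ
  have E := VarH0x75.nonempty_tensor_equiv k' L f'
  rw [halg] at E
  obtain ⟨e⟩ := E
  obtain ⟨n, a, ha⟩ := exists_pow_mem_of_idempotents (k := k') L hK q (fun a ha => by
    rcases VarH0x75.idempotent_trivial (e a) ((map_mul e a a).symm.trans (congrArg e ha)) with h | h
    · exact Or.inl (e.injective (h.trans (map_zero e).symm))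
    · exact Or.inr (e.injective (h.trans (map_one e).symm))) t
  obtain ⟨a, rfl⟩ := Ideal.Quotient.mk_surjective a
  exact ⟨n, a, ha⟩

variable {R : Type u} [CommRing R] [IsDomain R] [IsDiscreteValuationRing R]
  {X : Over (Spec (CommRingCat.of R))}

/-- The closed fibre. -/
abbrev Fs (X : Over (Spec (CommRingCat.of R))) : Scheme.{u} := (ModPic.fIdeal X.hom).subscheme

abbrev fι (X : Over (Spec (CommRingCat.of R))) : Fs X ⟶ X.left := (ModPic.fIdeal X.hom).subschemeι

/-- The structure map `R → Γ(X_s, O)`. -/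
def fMap (X : Over (Spec (CommRingCat.of R))) : R →+* Γ(Fs X, ⊤) :=
  ((Scheme.ΓSpecIso (CommRingCat.of R)).inv ≫ (fι X ≫ X.hom).appTop).hom

theorem maximalIdeal_le_ker_fMap [QuasiCompact X.hom] : IsLocalRing.maximalIdeal R ≤ RingHom.ker (fMap X) := by
  intro a ha
  have h1 : Curv2.idealSheaf R (IsLocalRing.maximalIdeal R) ≤ (fι X ≫ X.hom).ker := by
    rw [Scheme.Hom.ker_comp, Scheme.IdealSheafData.ker_subschemeι]
    exact Scheme.IdealSheafData.le_map_iff_comap_le.2 le_rfl
  have h2 := h1 ⟨⊤, isAffineOpen_top _⟩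
  rw [Curv2.idealSheaf, Scheme.IdealSheafData.ofIdealTop_ideal, Scheme.Hom.ker_apply] at h2
  refine RingHom.mem_ker.2 (RingHom.mem_ker.1 (h2 ?_))
  rw [show (homOfLE (le_top : (⊤ : (Spec (CommRingCat.of R)).Opens) ≤ ⊤)).op = 𝟙 _ from rfl,
    CategoryTheory.Functor.map_id, CommRingCat.hom_id, Ideal.map_id]
  exact Ideal.mem_map_of_mem (Scheme.ΓSpecIso (CommRingCat.of R)).inv.hom ha

/-- Nonzero constants on the fibre are nonzero on each component, so they form a field. -/
theorem isField_constants (hX : IsSurf R X) (hconn : _root_.IsConnected (Models.specialFibreSet R X))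
    {r : ℕ} (Γ : Fin r → ArSurf.VertComp R X)
    (hdist : Function.Injective fun i => Set.range (Γ i).ι.base)
    (hcov : ∀ x ∈ Models.specialFibreSet R X, ∃ i, x ∈ Set.range (Γ i).ι.base)
    (hgcd : ∃ u : Fin r → ℤ, ∑ i, u i * (Models.mult R X (Γ i) : ℤ) = 1) :
    IsField Γ(Fs X, ⊤) ∧ (fMap X).Finite := by
  haveI := hX.2.2.2.2
  have hfin : (fMap X).Finite := LimTop61.finite_appTop_of_isProper (CommRingCat.of R) (fι X ≫ X.hom)
  refine ⟨?_, hfin⟩
  have hr : 0 < r := by
    rcases Nat.eq_zero_or_pos r with rfl | h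
    · obtain ⟨u, hu⟩ := hgcd
      simp at hu
    · exact h
  let i₀ : Fin r := ⟨0, hr⟩
  haveI : Nontrivial Γ((Γ i₀).curve.left, ⊤) := by
    haveI : Nonempty (⊤ : (Γ i₀).curve.left.Opens) := ⟨⟨genericPoint _, trivial⟩⟩
    infer_instance
  have hinj : Function.Injective (toFibre (Γ i₀)).appTop.hom := by
    rw [injective_iff_map_eq_zero]
    intro f hf
    by_contra hne
    exact restrict_ne_zero hX hconn Γ hdist hcov hgcd f hne i₀ hf
  haveI : IsDomain Γ(Fs X, ⊤) := hinj.isDomain (toFibre (Γ i₀)).appTop.hom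
  let ρ : R ⧸ IsLocalRing.maximalIdeal R →+* Γ(Fs X, ⊤) :=
    Ideal.Quotient.lift _ (fMap X) fun a ha => maximalIdeal_le_ker_fMap ha
  have hρ : ρ.Finite := RingHom.Finite.of_comp_finite (f := Ideal.Quotient.mk _) (g := ρ) (by exact hfin)
  letI := Ideal.Quotient.field (IsLocalRing.maximalIdeal R)
  letI := ρ.toAlgebra
  haveI : Module.Finite (R ⧸ IsLocalRing.maximalIdeal R) Γ(Fs X, ⊤) := hρ
  exact isField_of_isIntegral_of_isField' (Field.toIsField (R ⧸ IsLocalRing.maximalIdeal R))

/-- Over a perfect residue field the constants of the fibre come from the total space. -/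
theorem surjective_constants [PerfectField (IsLocalRing.ResidueField R)]
    (hX : IsSurf R X) (hconn : _root_.IsConnected (Models.specialFibreSet R X))
    {r : ℕ} (Γ : Fin r → ArSurf.VertComp R X)
    (hdist : Function.Injective fun i => Set.range (Γ i).ι.base)
    (hcov : ∀ x ∈ Models.specialFibreSet R X, ∃ i, x ∈ Set.range (Γ i).ι.base)
    (hgcd : ∃ u : Fin r → ℤ, ∑ i, u i * (Models.mult R X (Γ i) : ℤ) = 1) :
    Function.Surjective (fι X).appTop := by
  obtain ⟨hK, hfin⟩ := isField_constants hX hconn Γ hdist hcov hgcd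
  haveI := hX.2.2.2.2
  haveI := Stein58.isProper_toSpecΓ X.hom
  letI := hK.toField
  let κ : IsLocalRing.ResidueField R →+* Γ(Fs X, ⊤) :=
    Ideal.Quotient.lift _ (fMap X) fun a ha => maximalIdeal_le_ker_fMap ha
  letI := κ.toAlgebra
  haveI : Module.Finite (IsLocalRing.ResidueField R) Γ(Fs X, ⊤) :=
    RingHom.Finite.of_comp_finite (f := IsLocalRing.residue R) (g := κ) (by exact hfin)
  haveI : PerfectField Γ(Fs X, ⊤) := Algebra.IsAlgebraic.perfectField (K := IsLocalRing.ResidueField R)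
  let σ : R →+* Γ(X.left, ⊤) := ((Scheme.ΓSpecIso (CommRingCat.of R)).inv ≫ X.hom.appTop).hom
  have hσ : (fι X).appTop.hom.comp σ = fMap X := rfl
  have hfinA : (fι X).appTop.hom.Finite := RingHom.Finite.of_comp_finite (f := σ) (g := (fι X).appTop.hom)
    (hσ ▸ hfin)
  have hXhom : X.hom = X.left.toSpecΓ ≫ Spec.map (CommRingCat.ofHom σ) := by
    show _ = _ ≫ Spec.map ((Scheme.ΓSpecIso (CommRingCat.of R)).inv ≫ X.hom.appTop)
    rw [Spec.map_comp, ← Category.assoc, ← Scheme.toSpecΓ_naturality, Category.assoc,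
      ← SpecMap_ΓSpecIso_hom, ← Spec.map_comp, Iso.inv_hom_id, Spec.map_id, Category.comp_id]
  intro t
  let q := ringExpChar Γ(Fs X, ⊤)
  haveI : ExpChar (IsLocalRing.ResidueField R) q := RingHom.expChar κ κ.injective q
  haveI : PerfectRing Γ(Fs X, ⊤) q := PerfectField.toPerfectRing q
  have hs : ∀ x : X.left, (X.left.toSpecΓ x).asIdeal = RingHom.ker (fι X).appTop.hom → x ∈ Set.range (fι X) := by
    intro x hx
    rw [Scheme.IdealSheafData.range_subschemeι, ModPic.support_specialFibreIdeal,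
      ModPic.mem_specialFibreSet_iff, hXhom]
    refine PrimeSpectrum.ext ?_
    show (X.left.toSpecΓ x).asIdeal.comap σ = IsLocalRing.maximalIdeal R
    rw [hx, RingHom.comap_ker, hσ]
    exact ((IsLocalRing.maximalIdeal.isMaximal R).eq_of_le (RingHom.ker_ne_top _) maximalIdeal_le_ker_fMap).symm
  obtain ⟨n, a, ha⟩ := exists_pow_mem_range (fι X) hK hfinA q hs t
  let S : Subalgebra (IsLocalRing.ResidueField R) Γ(Fs X, ⊤) :=
    { (fι X).appTop.hom.range with
      algebraMap_mem' := fun c => by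
        obtain ⟨b, rfl⟩ := IsLocalRing.residue_surjective c
        exact ⟨σ b, rfl⟩ }
  have hsep : IsSeparable (IsLocalRing.ResidueField R) t := Algebra.IsSeparable.isSeparable _ t
  have hmem : t ∈ IntermediateField.adjoin (IsLocalRing.ResidueField R) {t ^ q ^ n} := by
    rw [← IntermediateField.adjoin_simple_eq_adjoin_pow_expChar_pow_of_isSeparable _ _ hsep q n]
    exact IntermediateField.mem_adjoin_simple_self _ t
  rw [← IntermediateField.mem_toSubalgebra, IntermediateField.adjoin_simple_toSubalgebra_of_isAlgebraic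
    (Algebra.IsAlgebraic.isAlgebraic _)] at hmem
  exact (Algebra.adjoin_le (S := S) (Set.singleton_subset_iff.2 ⟨a, ha⟩)) hmem

end Groth.Agent.ArS10
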