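import Groth.Agent.ArS10.Birat
import Groth.Agent.AbSch7.Collapse
import Groth.Agent.Approx60.Segre

/-!
Uniqueness of contractions.
-/

set_option autoImplicit false
set_option linter.style.haveILetI false
set_option backward.isDefEq.respectTransparency.types false

universe u

open CategoryTheory CategoryTheory.Limits AlgebraicGeometry TopologicalSpace

noncomputable section

namespace Groth.Agent.ArS10

variable {R : Type u} [CommRing R] [IsDomain R] [IsDiscreteValuationRing R]
  {X : Over (Spec (CommRingCat.of R))}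

theorem isClosed_pt_of_contracted {Y : Over (Spec (CommRingCat.of R))} (f : X ⟶ Y) [IsProper f.left]
    (Γ : ArSurf.VertComp R X) {y : Y.left}
    (hy : Set.range ((Γ.ι ≫ f.left).base : Γ.curve.left → Y.left) = {y}) : IsClosed ({y} : Set Y.left) := by
  rw [← hy, show Set.range (Γ.ι ≫ f.left).base = f.left.base '' Set.range Γ.ι.base by
    rw [← Set.range_comp]; rfl]
  exact f.left.isClosedMap _ Γ.ι.isClosedEmbedding.isClosed_range

/-- A morphism contracting the exceptional curves of a contraction factors through it. -/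
theorem exists_factor_contraction [IsIntegral X.left] [IsProper X.hom] {r : ℕ}
    (Γ : Fin r → ArSurf.VertComp R X) (Y Z : Over (Spec (CommRingCat.of R))) [IsIntegral Y.left]
    [IsProper Y.hom] [IsSeparated Z.hom] (f : X ⟶ Y) (g : X ⟶ Z) [IsProper g.left]
    (hnor : ∀ q : Y.left, IsIntegrallyClosed (Y.left.presheaf.stalk q))
    (hpt : ∀ i, ∃ y : Y.left, Set.range (((Γ i).ι ≫ f.left).base : (Γ i).curve.left → Y.left) = {y})
    (hpt' : ∀ i, ∃ z : Z.left, Set.range (((Γ i).ι ≫ g.left).base : (Γ i).curve.left → Z.left) = {z})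
    (hpre : f.left.base ⁻¹' (f.left.base '' ⋃ i, Set.range (Γ i).ι.base) = ⋃ i, Set.range (Γ i).ι.base)
    (hiso : ∀ V : Y.left.Opens, (V : Set Y.left) ∩ f.left.base '' (⋃ i, Set.range (Γ i).ι.base) = ∅ →
      IsIso (f.left ∣_ V))
    (hne : ∃ a : X.left, a ∉ ⋃ i, Set.range (Γ i).ι.base) :
    ∃! k : Y ⟶ Z, f ≫ k = g := by
  classical
  haveI hfp : IsProper f.left := by
    haveI : IsProper (f.left ≫ Y.hom) := by rw [Over.w f]; infer_instance
    exact IsProper.of_comp f.left Y.hom
  choose y hy using hpt
  choose z hz using hpt'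
  have hS : f.left.base '' (⋃ i, Set.range (Γ i).ι.base) = Set.range y := by
    rw [Set.image_iUnion, ← Set.iUnion_singleton_eq_range]
    exact Set.iUnion_congr fun i => by rw [← hy i, ← Set.range_comp]; rfl
  have hScl : IsClosed (Set.range y) := by
    rw [← Set.iUnion_singleton_eq_range]
    exact isClosed_iUnion_of_finite fun i => isClosed_pt_of_contracted f (Γ i) (hy i)
  let U : Y.left.Opens := ⟨(Set.range y)ᶜ, hScl.isOpen_compl⟩
  haveI : IsIso (f.left ∣_ U) := hiso U (by rw [hS]; exact Set.compl_inter_self _)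
  have hU : (U : Set Y.left).Nonempty := by
    obtain ⟨a, ha⟩ := hne
    refine ⟨f.left.base a, fun h => ha ?_⟩
    rw [← hpre, hS]
    exact h
  haveI : Surjective f.left := ⟨surjective_of_birational f.left U hU⟩
  have hb : ∀ V : Y.left.Opens, Function.Bijective (f.left.app V).hom := fun V =>
    (ConcreteCategory.isIso_iff_bijective _).1 (Curves2.isIso_app_of_birational f.left hnor U hU V)
  have hcol : ∀ s : Y.left, s ∈ AbSch7.collapsed f.left g.left := by
    intro s
    obtain ⟨a, rfl⟩ := f.left.surjective s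
    refine ⟨g.left.base a, fun b hb' => ?_⟩
    by_cases hs : f.left.base a ∈ Set.range y
    · have hsub : f.left.base ⁻¹' {f.left.base a} ⊆ ⋃ i, Set.range (Γ i).ι.base := fun c hc => by
        rw [← hpre, hS]
        show f.left.base c ∈ Set.range y
        rw [show f.left.base c = f.left.base a from hc]
        exact hs
      have hfin : (g.left.base '' (f.left.base ⁻¹' {f.left.base a})) ⊆ Set.range z := by
        rintro _ ⟨c, hc, rfl⟩
        obtain ⟨i, d, rfl⟩ := Set.mem_iUnion.1 (hsub hc)
        exact ⟨i, ((hz i).le ⟨d, rfl⟩ : _ = z i).symm⟩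
      have hconn := (isPreconnected_preimage f.left U hU hnor (f.left.base a)).image g.left.base
        g.left.continuous.continuousOn
      by_contra he
      have hcl1 : IsClosed ({g.left.base a} : Set Z.left) := by
        obtain ⟨i, hi⟩ := hfin ⟨a, rfl, rfl⟩
        rw [← hi]
        exact isClosed_pt_of_contracted g (Γ i) (hz i)
      have hcl2 : IsClosed (Set.range z \ {g.left.base a}) := by
        rw [← Set.biUnion_of_singleton (Set.range z \ {g.left.base a})]
        refine ((Set.finite_range z).sdiff).isClosed_biUnion ?_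
        rintro w ⟨⟨i, rfl⟩, -⟩
        exact isClosed_pt_of_contracted g (Γ i) (hz i)
      obtain ⟨w, -, hw1, hw2⟩ := isPreconnected_closed_iff.1 hconn {g.left.base a}
        (Set.range z \ {g.left.base a}) hcl1 hcl2
        (fun w hw => (em (w = g.left.base a)).imp id fun hwa => ⟨hfin hw, hwa⟩)
        ⟨g.left.base a, ⟨a, rfl, rfl⟩, rfl⟩ ⟨g.left.base b, ⟨b, hb', rfl⟩, hfin ⟨b, hb', rfl⟩, he⟩
      exact hw2.2 hw1
    · rw [CAlg9.BirationalPoint.injOn_of_restrict f.left U (x := b) (x' := a)
        (show f.left b ∈ U by rw [show f.left b = f.left.base a from hb']; exact hs) hb']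
  obtain ⟨k, hk⟩ := AbSch7.exists_factor_collapsed f.left g.left hb f.left.isClosedMap ⊤ fun s _ => hcol s
  haveI : Epi f.left := AbSch7.epi_of_app_injective f.left fun V => (hb V).1
  let kk : Y.left ⟶ Z.left := Y.left.topIso.inv ≫ k
  have ht : ∀ W : Scheme.{u}, W.topIso.inv ≫ (⊤ : W.Opens).ι = 𝟙 W := fun W => W.topIso.inv_hom_id
  have hkk : f.left ≫ kk = g.left := by
    have h1 : f.left ≫ Y.left.topIso.inv = X.left.topIso.inv ≫ (f.left ∣_ ⊤) := by
      rw [← cancel_mono (⊤ : Y.left.Opens).ι, Category.assoc, ht, Category.comp_id]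
      refine Eq.trans ?_ (Category.assoc _ _ _).symm
      refine Eq.trans ?_ (congrArg (X.left.topIso.inv ≫ ·) (morphismRestrict_ι f.left ⊤).symm)
      exact ((Category.assoc _ _ _).symm.trans ((congrArg (· ≫ f.left) (ht X.left)).trans (Category.id_comp _))).symm
    show f.left ≫ Y.left.topIso.inv ≫ k = g.left
    rw [← Category.assoc, h1]
    refine (Category.assoc _ _ _).trans ((congrArg (X.left.topIso.inv ≫ ·) hk.symm).trans ?_)
    exact ((Category.assoc _ _ _).symm.trans ((congrArg (· ≫ g.left) (ht X.left)).trans (Category.id_comp _)))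
  refine ⟨Over.homMk kk ?_, Over.OverMorphism.ext hkk, fun k' hk' => Over.OverMorphism.ext ?_⟩
  · rw [← cancel_epi f.left, ← Category.assoc, hkk, Over.w g, Over.w f]
  · rw [← cancel_epi f.left]
    exact (congrArg CommaMorphism.left hk').trans hkk.symm

end Groth.Agent.ArS10
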