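import Groth.Agent.ArS10.Comp
import Groth.Agent.MP99.Colon
import Groth.Agent.An92.Ample.Inverse

/-!
The closed fibre as a combination of given components plus a divisor not containing any of them.
-/

set_option autoImplicit false
set_option linter.style.haveILetI false
set_option backward.isDefEq.respectTransparency.types false

universe u

open CategoryTheory CategoryTheory.Limits AlgebraicGeometry TopologicalSpace Opposite
open scoped nonZeroDivisors

noncomputable section

namespace Groth.Agent.ArS10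

variable {R : Type u} [CommRing R] [IsDomain R] [IsDiscreteValuationRing R]
  {X : Over (Spec (CommRingCat.of R))}

theorem isRegular (hX : IsSurf R X) : Models.IsRegularScheme X.left := hX.1

theorem isDVR_stalk (hX : IsSurf R X) (Γ : ArSurf.VertComp R X) :
    ∃ _ : IsDomain (X.left.presheaf.stalk (Models.genPtOf R X Γ)),
      IsDiscreteValuationRing (X.left.presheaf.stalk (Models.genPtOf R X Γ)) := by
  haveI := hX.1 (Models.genPtOf R X Γ)
  obtain ⟨g, hg, hgI⟩ := Div89.exists_stalk_generator (isEffCartier hX Γ) (Models.genPtOf R X Γ)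
  exact Div89.isDiscreteValuationRing_of_principal_nzd _ hg
    ((ModPic.stalkIdeal_cI_cPt (p := X.hom) Γ).symm.trans hgI)

theorem le_of_subset_support (Γ : ArSurf.VertComp R X) {J : X.left.IdealSheafData}
    (h : Γ.ι.base (genericPoint Γ.curve.left) ∈ (J.support : Set X.left)) : J ≤ Γ.ι.ker := by
  refine (Div89.le_iff_stalkIdeal _ _).2 fun x => ?_
  by_cases hx : x ∈ Γ.ι.ker.support
  · have hle : J ≤ Scheme.IdealSheafData.vanishingIdeal Γ.ι.ker.support := by
      refine Scheme.IdealSheafData.le_support_iff_le_vanishingIdeal.1 fun z hz => ?_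
      have hz' : z ∈ Set.range Γ.ι.base := (ModPic.support_cI (p := X.hom) Γ).le hz
      exact ((isGenericPoint Γ).specializes hz').mem_closed J.support.isClosed h
    have hrad : Γ.ι.ker.radical = Γ.ι.ker := Scheme.IdealSheafData.ext
      (funext fun U => (ModPic.isRadical_cI (p := X.hom) Γ U).radical)
    rw [Scheme.IdealSheafData.vanishingIdeal_support, hrad] at hle
    exact (Div89.le_iff_stalkIdeal _ _).1 hle x
  · rw [(Div89.notMem_support_iff_stalkIdeal _ _).1 hx]
    exact le_top

theorem exists_split (hX : IsSurf R X) (Γ : ArSurf.VertComp R X) {Z : X.left.IdealSheafData}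
    (hZ : BlowUp.IsEffCartierIdeal Z) :
    ∃ (a : ℕ) (J : X.left.IdealSheafData), BlowUp.IsEffCartierIdeal J ∧ Z = J * Γ.ι.ker ^ a ∧
      Models.genPtOf R X Γ ∉ J.support := by
  by_contra hcon
  simp only [not_exists, not_and, not_not] at hcon
  have hall : ∀ N : ℕ, ∃ J : X.left.IdealSheafData, BlowUp.IsEffCartierIdeal J ∧ Z = J * Γ.ι.ker ^ N := by
    intro N
    induction N with
    | zero => exact ⟨Z, hZ, by rw [pow_zero, mul_one]⟩
    | succ N ih =>
      obtain ⟨J, hJ, e⟩ := ih
      obtain ⟨K, hK, hJK⟩ := MP99.exists_cofactor hJ (isEffCartier hX Γ)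
        (le_of_subset_support Γ (hcon N J hJ e))
      exact ⟨K, hK, by rw [e, hJK, mul_assoc, pow_succ']⟩
  obtain ⟨hd, hdvr⟩ := isDVR_stalk hX Γ
  let A := X.left.presheaf.stalk (Models.genPtOf R X Γ)
  obtain ⟨g, hg, hgI⟩ := Div89.exists_stalk_generator hZ (Models.genPtOf R X Γ)
  have hmem : g ∈ ⨅ N : ℕ, IsLocalRing.maximalIdeal A ^ N := Submodule.mem_iInf _ |>.2 fun N => by
    obtain ⟨J, -, e⟩ := hall N
    have h1 : Div89.stalkIdeal Z (Models.genPtOf R X Γ) ≤ IsLocalRing.maximalIdeal A ^ N := by
      rw [e, Div89.stalkIdeal_mul, Div89.stalkIdeal_pow,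
        show Div89.stalkIdeal Γ.ι.ker (Models.genPtOf R X Γ) = IsLocalRing.maximalIdeal A from
          ModPic.stalkIdeal_cI_cPt (p := X.hom) Γ]
      exact (Ideal.mul_mono le_top le_rfl).trans (Ideal.top_mul _).le
    exact h1 (hgI ▸ Ideal.mem_span_singleton_self g)
  rw [Ideal.iInf_pow_eq_bot_of_isLocalRing _ (IsLocalRing.maximalIdeal.isMaximal A).ne_top] at hmem
  exact nonZeroDivisors.ne_zero hg hmem

/-- The decomposition of the closed fibre along a family of distinct components. -/
theorem exists_decomp (hX : IsSurf R X) {r : ℕ} (Γ : Fin r → ArSurf.VertComp R X)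
    (hdist : Function.Injective fun i => Set.range (Γ i).ι.base) :
    ∃ J : X.left.IdealSheafData, BlowUp.IsEffCartierIdeal J ∧
      ModPic.fIdeal X.hom = J * ∏ i, (Γ i).ι.ker ^ Models.mult R X (Γ i) ∧
      ∀ i, Models.genPtOf R X (Γ i) ∉ J.support := by
  classical
  haveI := hX.2.2.2.1
  suffices h : ∀ S : Finset (Fin r), ∃ (a : Fin r → ℕ) (J : X.left.IdealSheafData),
      BlowUp.IsEffCartierIdeal J ∧ ModPic.fIdeal X.hom = J * ∏ i ∈ S, (Γ i).ι.ker ^ a i ∧
        ∀ i ∈ S, Models.genPtOf R X (Γ i) ∉ J.support by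
    obtain ⟨a, J, hJ, e, hgen⟩ := h Finset.univ
    refine ⟨J, hJ, e.trans ?_, fun i => hgen i (Finset.mem_univ i)⟩
    congr 1
    refine Finset.prod_congr rfl fun i _ => ?_
    congr 1
    obtain ⟨hd, hdvr⟩ := isDVR_stalk hX (Γ i)
    let x := Models.genPtOf R X (Γ i)
    let A := X.left.presheaf.stalk x
    have hmap : Div89.stalkIdeal (ModPic.fIdeal X.hom) x =
        Ideal.map (Models.stalkHom R X x) (IsLocalRing.maximalIdeal R) := by
      obtain ⟨U, hx⟩ := Div89.exists_affine_mem x
      rw [Div89.stalkIdeal_eq _ U _ hx, ModPic.specialFibreIdeal_ideal, ModPic.maximalIdeal_eq, Ideal.map_span,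
        Ideal.map_span, Set.image_singleton, Set.image_singleton]
      congr 2
      exact TopCat.Presheaf.germ_res_apply X.left.presheaf (homOfLE (le_top : U.1 ≤ ⊤)) _ hx (ModPic.piG X.hom)
    have hst : Div89.stalkIdeal (ModPic.fIdeal X.hom) x = IsLocalRing.maximalIdeal A ^ a i := by
      rw [e, Div89.stalkIdeal_mul, (Div89.notMem_support_iff_stalkIdeal _ _).1 (hgen i (Finset.mem_univ i)),
        Ideal.top_mul, Div89.stalkIdeal_prod,
        Finset.prod_eq_single i (fun j _ hj => ?_) (by simp), Div89.stalkIdeal_pow]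
      · exact congrArg (· ^ a i) (ModPic.stalkIdeal_cI_cPt (p := X.hom) (Γ i))
      · have h1 : Div89.stalkIdeal (Γ j).ι.ker x = ⊤ := (Div89.notMem_support_iff_stalkIdeal _ _).1
          (notMem_support hX fun h => hj (hdist h).symm)
        rw [Div89.stalkIdeal_pow, h1, ← Ideal.one_eq_top, one_pow]
    show a i = (Module.length A (A ⧸ Ideal.map (Models.stalkHom R X x) (IsLocalRing.maximalIdeal R))).toNat
    rw [← hmap, hst, IsDiscreteValuationRing.length_quotient_pow_maximalIdeal]
    rfl
  intro S
  induction S using Finset.induction_on with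
  | empty =>
    exact ⟨fun _ => 0, ModPic.fIdeal X.hom, ModPic.isEffCartier_specialFibre X.hom, by simp, by simp⟩
  | insert i S hi ih =>
    obtain ⟨a, J, hJ, e, hgen⟩ := ih
    obtain ⟨b, K, hK, hJK, hKi⟩ := exists_split hX (Γ i) hJ
    refine ⟨Function.update a i b, K, hK, ?_, fun j hj => ?_⟩
    · rw [e, hJK, Finset.prod_insert hi, Function.update_self, mul_assoc]
      congr 2
      exact Finset.prod_congr rfl fun j hj => by rw [Function.update_of_ne (fun h : j = i => hi (h ▸ hj))]
    · rcases Finset.mem_insert.1 hj with rfl | hj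
      · exact hKi
      · refine fun hK' => hgen j hj ?_
        rw [hJK]
        exact Or.inl hK'

end Groth.Agent.ArS10
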