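import Groth.Agent.ArS10.PullIdeal
import Groth.Agent.Crv77.DegreeInt
import Groth.Agent.Crv77.TwistSection
import Groth.Agent.HypSq53.GraphDiv
import Groth.Agent.Var76.HypSection
import Groth.Agent.Inv57.OfTensor
import Groth.Agent.Approx60.Segre
import Groth.Prelude.Def_ArSurf
import Groth.Prelude.Def_ModelsG

/-!
Degrees on vertical curves and intersection numbers with effective Cartier divisors.
-/

set_option autoImplicit false
set_option linter.style.haveILetI false
set_option backward.isDefEq.respectTransparency.types false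

universe u

open CategoryTheory CategoryTheory.Limits AlgebraicGeometry TopologicalSpace Opposite

noncomputable section

namespace Groth.Agent.ArS10

variable {R : Type u} [CommRing R] [IsDomain R]

theorem isProper_hom {X : Over (Spec (CommRingCat.of R))} (hX : ArSurf.IsArithSurface R X) :
    IsProper X.hom := by
  obtain ⟨-, -, -, -, n, i, hi, hic⟩ := hX
  haveI := hi
  haveI := Approx60.Segre.isProper_toBase n (Spec (CommRingCat.of R))
  rw [← hic]
  infer_instance

variable [IsDiscreteValuationRing R] {X : Over (Spec (CommRingCat.of R))} (Γ : ArSurf.VertComp R X)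

/-- The residue field. -/
abbrev kk (R : Type u) [CommRing R] [IsDomain R] [IsDiscreteValuationRing R] : Type u :=
  IsLocalRing.ResidueField R

/-- The curve of a vertical component. -/
abbrev cC : Scheme.{u} := Γ.curve.left

instance : IsClosedImmersion Γ.ι := Γ.isClosedImmersion
instance : IsIntegral (cC Γ) := Γ.isIntegral

theorem isProper_curve [IsProper X.hom] : IsProper Γ.curve.hom := by
  have h : IsProper (Γ.curve.hom ≫ Spec.map (CommRingCat.ofHom (IsLocalRing.residue R))) := by
    rw [← Γ.w]; infer_instance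
  exact IsProper.of_comp _ (Spec.map (CommRingCat.ofHom (IsLocalRing.residue R)))

theorem isProper_over [IsProper X.hom] : IsProper (cC Γ ↘ Spec (CommRingCat.of (kk R))) :=
  isProper_curve Γ

theorem dim_le_one : topologicalKrullDim (cC Γ) ≤ 1 := Γ.dim_eq.le

theorem isNoetherian_curve [IsProper X.hom] : IsNoetherian (cC Γ) := by
  haveI := isProper_curve Γ
  haveI := LocallyOfFiniteType.isLocallyNoetherian Γ.curve.hom
  haveI : CompactSpace (cC Γ) := QuasiCompact.compactSpace_of_compactSpace Γ.curve.hom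
  constructor

theorem curveCoh [IsProper X.hom] : Crv77.CurveCoh (kk R) (cC Γ) :=
  haveI := isProper_over Γ
  Crv77.curveCoh_of_proper _ _ (dim_le_one Γ)

/-- The degree on a vertical curve. -/
abbrev deg (M : (cC Γ).Modules) : ℤ := ArSurf.curveDeg (kk R) (cC Γ) M

theorem eulerLE_eq [IsProper X.hom] {M : (cC Γ).Modules} (hM : Coh.IsCoh M) :
    FGA.eulerCharLE (kk R) (cC Γ) M 1 = Curv2.euler (kk R) (cC Γ) M := by
  rw [(curveCoh Γ).euler_eq hM, FGA.eulerCharLE, Finset.sum_range_succ, Finset.sum_range_one]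
  ring

theorem deg_eq [IsProper X.hom] {M : (cC Γ).Modules} (hM : PicF.IsInvertible M) :
    deg Γ M = Curv2.deg (kk R) (cC Γ) M 1 := by
  haveI := isNoetherian_curve Γ
  rw [deg, ArSurf.curveDeg, eulerLE_eq Γ (Crv77.isCoh_of_isInvertible hM),
    eulerLE_eq Γ Crv77.isCoh_structureModule, Curv2.deg, Nat.cast_one, one_mul]

theorem deg_congr {M N : (cC Γ).Modules} (e : M ≅ N) : deg Γ M = deg Γ N := by
  simp only [deg, ArSurf.curveDeg, FGA.eulerCharLE, (Crv77.hEquiv (kk R) e _).finrank_eq]

theorem deg_structureModule : deg Γ (Coh.structureModule (cC Γ)) = 0 := sub_self _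

theorem deg_tensor [IsProper X.hom] {L M : (cC Γ).Modules} (hL : PicF.IsInvertible L)
    (hM : PicF.IsInvertible M) : deg Γ (CohB1.tensorMod L M) = deg Γ L + deg Γ M := by
  haveI := isNoetherian_curve Γ
  rw [deg_eq Γ hL, deg_eq Γ hM, deg_eq Γ (EGA73.isInvertible_tensorMod hL hM)]
  exact (curveCoh Γ).deg_tensorMod (dim_le_one Γ) hL hM

theorem deg_inverse [IsProper X.hom] {L M : (cC Γ).Modules} (hL : PicF.IsInvertible L)
    (hM : PicF.IsInvertible M) (e : CohB1.tensorMod L M ≅ Coh.structureModule (cC Γ)) :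
    deg Γ L = - deg Γ M := by
  have := deg_tensor Γ hL hM
  rw [deg_congr Γ e, deg_structureModule] at this
  omega

/-- The divisor cut out on the curve. -/
abbrev cut (D : X.left.IdealSheafData) : (cC Γ).IdealSheafData := D.comap Γ.ι

variable {D : X.left.IdealSheafData}

theorem support_cut_finite [IsProper X.hom]
    (hΓ : Γ.ι.base (genericPoint (cC Γ)) ∉ (D.support : Set X.left)) :
    ((cut Γ D).support : Set (cC Γ)).Finite ∧
      ∀ x ∈ ((cut Γ D).support : Set (cC Γ)), IsClosed ({x} : Set (cC Γ)) := by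
  haveI := isNoetherian_curve Γ
  have hne : genericPoint (cC Γ) ∉ ((cut Γ D).support : Set (cC Γ)) := by
    rw [Scheme.IdealSheafData.support_comap]
    exact hΓ
  simpa using Crv77.finite_closed (dim_le_one Γ)
    (U := ⟨((cut Γ D).support : Set (cC Γ))ᶜ, (cut Γ D).support.isClosed.isOpen_compl⟩) ⟨_, hne⟩

/-- The intersection number is the dimension of the functions on the intersection. -/
theorem inter_eq_h0 [IsProper X.hom] (hD : FGA.IsEffCartier D)
    (hΓ : Γ.ι.base (genericPoint (cC Γ)) ∉ (D.support : Set X.left))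
    {L : X.left.Modules} (hL : ClSub.IsInverseOf L (ClSub.idealMod D)) :
    ArSurf.inter R X L Γ = Module.finrank (kk R) (Coh.HH (cC Γ) (ClSub.quotMod (cut Γ D)) 0) := by
  obtain ⟨e⟩ := hL
  haveI := isNoetherian_curve Γ
  have hDinv : PicF.IsInvertible (ClSub.idealMod D) := (Curves2.isInvertible_idealMod_iff D).2 hD
  have hLinv := Inv57.isInvertible_of_tensorMod_iso e
  obtain ⟨φ⟩ := nonempty_pullback_idealMod Γ.ι D hΓ hD
  haveI := Amp73.isIso_pullTensHom Γ.ι hLinv hDinv
  let ψ := asIso (Amp73.pullTensHom Γ.ι L (ClSub.idealMod D))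
  have hJ : PicF.IsInvertible ((Scheme.Modules.pullback Γ.ι).obj (ClSub.idealMod D)) :=
    Amp73.isInvertible_pullback Γ.ι hDinv
  have h1 : deg Γ ((Scheme.Modules.pullback Γ.ι).obj L) =
      - deg Γ ((Scheme.Modules.pullback Γ.ι).obj (ClSub.idealMod D)) :=
    deg_inverse Γ (Amp73.isInvertible_pullback Γ.ι hLinv) hJ
      (ψ.symm ≪≫ (Scheme.Modules.pullback Γ.ι).mapIso e ≪≫ PicLoc.pullbackStructureIso Γ.ι)
  have hI : PicF.IsInvertible (ClSub.idealMod (cut Γ D)) :=
    (Curves2.isInvertible_idealMod_iff _).2 (isEffCartier_comap Γ.ι D hΓ hD)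
  obtain ⟨hS, hcl⟩ := support_cut_finite Γ hΓ
  have hO : PicF.IsInvertible (Coh.structureModule (cC Γ)) := EGA73.isInvertible_structureModule
  have h2 := (curveCoh Γ).euler_idealMod_tensor (cut Γ D) hS hcl hO Crv77.isCoh_structureModule
  rw [Crv77.euler_congr (EGA73.tensUnitRight (ClSub.idealMod (cut Γ D)))] at h2
  show deg Γ _ = _
  rw [h1, deg_congr Γ φ, deg_eq Γ hI, Curv2.deg, h2]
  simp [Crv77.h]

theorem inter_nonneg [IsProper X.hom] (hD : FGA.IsEffCartier D)
    (hΓ : Γ.ι.base (genericPoint (cC Γ)) ∉ (D.support : Set X.left))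
    {L : X.left.Modules} (hL : ClSub.IsInverseOf L (ClSub.idealMod D)) :
    0 ≤ ArSurf.inter R X L Γ := by
  rw [inter_eq_h0 Γ hD hΓ hL]
  positivity

/-- Global functions on a subscheme as sections of the quotient module. -/
theorem inter_eq_zero_iff [IsProper X.hom] (hD : FGA.IsEffCartier D)
    (hΓ : Γ.ι.base (genericPoint (cC Γ)) ∉ (D.support : Set X.left))
    {L : X.left.Modules} (hL : ClSub.IsInverseOf L (ClSub.idealMod D)) :
    ArSurf.inter R X L Γ = 0 ↔ Disjoint (Set.range Γ.ι.base) (D.support : Set X.left) := by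
  haveI := isNoetherian_curve Γ
  haveI := (curveCoh Γ).finite _ (Crv77.isCoh_quotMod (cut Γ D)) 0
  rw [inter_eq_h0 Γ hD hΓ hL, Nat.cast_eq_zero, Module.finrank_eq_zero_iff_of_free,
    (Crv77.sec (ClSub.quotMod (cut Γ D))).toEquiv.subsingleton_congr]
  have hdis : Disjoint (Set.range Γ.ι.base) (D.support : Set X.left) ↔
      ((cut Γ D).support : Set (cC Γ)) = ∅ := by
    rw [Scheme.IdealSheafData.support_comap, Closeds.coe_preimage, Set.preimage_eq_empty_iff,
      disjoint_comm]
  rw [hdis]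
  let Z := (cut Γ D).subscheme
  have hrange : Set.range (cut Γ D).subschemeι.base = ((cut Γ D).support : Set (cC Γ)) :=
    Scheme.IdealSheafData.range_subschemeι _
  rw [← hrange, Set.range_eq_empty_iff]
  constructor
  · intro h
    by_contra hne
    rw [not_isEmpty_iff] at hne
    haveI : Nonempty (⊤ : Z.Opens) := ⟨⟨hne.some, trivial⟩⟩
    have h' : Subsingleton Γ(Z, ⊤) := h
    exact not_subsingleton Γ(Z, ⊤) h'
  · intro h
    have h1 : (⊤ : Z.Opens) = ⊥ := Opens.ext (Set.eq_empty_of_isEmpty _)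
    have h2 : Subsingleton Γ(Z, ⊤) := by rw [h1]; infer_instance
    exact h2

/-- The length of the scheme-theoretic intersection. -/
theorem lengthH_inf [IsProper X.hom]
    (hfin : Module.Finite (kk R) (Coh.HH (cC Γ) (ClSub.quotMod (cut Γ D)) 0)) :
    Models.lengthH R X (ClSub.quotMod (D ⊔ Γ.ι.ker)) 0 =
      Module.finrank (kk R) (Coh.HH (cC Γ) (ClSub.quotMod (cut Γ D)) 0) := by
  let J := cut Γ D
  have hker : (J.subschemeι ≫ Γ.ι).ker = D ⊔ Γ.ι.ker := by
    rw [← Scheme.IdealSheafData.map_ker, Scheme.IdealSheafData.ker_subschemeι]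
    exact Var76.HypSection.map_comap Γ.ι D
  obtain ⟨q⟩ := HypSq53.nonempty_quotMod_iso (J.subschemeι ≫ Γ.ι)
  let q' : (Scheme.Modules.pushforward Γ.ι).obj (ClSub.quotMod J) ≅ ClSub.quotMod (D ⊔ Γ.ι.ker) :=
    (Scheme.Modules.pushforwardComp J.subschemeι Γ.ι).app _ ≪≫ q ≪≫ eqToIso (by rw [hker])
  let M := (Scheme.Modules.pushforward Γ.ι).obj (ClSub.quotMod J)
  letI : Module R (Coh.HH (cC Γ) (ClSub.quotMod J) 0) := Module.compHom _ (IsLocalRing.residue R)
  haveI : IsScalarTower R (kk R) (Coh.HH (cC Γ) (ClSub.quotMod J) 0) :=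
    ⟨fun a b x => (mul_smul (IsLocalRing.residue R a) b x :)⟩
  have hglob : ∀ a : R, Γ.ι.appTop (Coh.toGlobal X.hom a) =
      Coh.toGlobal Γ.curve.hom (IsLocalRing.residue R a) := fun a => by
    show Γ.ι.appTop (X.hom.appTop ((Scheme.ΓSpecIso (CommRingCat.of R)).inv a)) = _
    rw [← ConcreteCategory.comp_apply, ← Scheme.Hom.comp_appTop, Γ.w, Scheme.Hom.comp_appTop]
    show Γ.curve.hom.appTop _ = Γ.curve.hom.appTop _
    exact congrArg _ (ConcreteCategory.congr_hom
      (Scheme.ΓSpecIso_inv_naturality (CommRingCat.ofHom (IsLocalRing.residue R))) a).symm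
  let e₀ : Coh.HH X.left M 0 ≃+ Coh.HH (cC Γ) (ClSub.quotMod J) 0 :=
    (Crv77.sec M).trans (Crv77.sec (ClSub.quotMod J)).symm
  let e : Coh.HH X.left M 0 ≃ₗ[R] Coh.HH (cC Γ) (ClSub.quotMod J) 0 :=
    { e₀ with
      map_smul' := fun a x => (Crv77.sec (ClSub.quotMod J)).injective (by
        show Crv77.sec _ (e₀ (a • x)) = Crv77.sec _ (IsLocalRing.residue R a • e₀ x)
        rw [Crv77.sec_smul (kk R)]
        show Crv77.sec _ ((Crv77.sec _).symm _) = _ • Crv77.sec _ ((Crv77.sec _).symm _)
        rw [AddEquiv.apply_symm_apply, AddEquiv.apply_symm_apply]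
        refine (Crv77.sec_smul R M a x).trans ?_
        show (Γ.ι.appTop (Coh.toGlobal X.hom a)) • (show Γ(ClSub.quotMod J, ⊤) from Crv77.sec M x) = _
        rw [hglob]
        rfl) }
  rw [Models.lengthH, ((Crv77.hEquiv R q' 0).symm.trans e).length_eq,
    Module.length_eq_of_surjective (R := kk R) IsLocalRing.residue_surjective, Module.length_eq_finrank]
  rfl

end Groth.Agent.ArS10
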