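import Groth.Agent.ArS10.ExcCurveSetup
import Groth.Agent.RegImm10.BlowModel
import Groth.Agent.Curves2.IdealFrame
import Groth.Agent.Curves2.VeryAmple.ProjSections
import Groth.Agent.Approx60.Segre

/-!
The exceptional divisor of a blow-up in a closed point with two-generated ideal, with its conormal sheaf,
is immersed in the projective line over the residue field.
-/

set_option autoImplicit false
set_option linter.style.haveILetI false
set_option backward.isDefEq.respectTransparency false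

universe u

open CategoryTheory CategoryTheory.Limits AlgebraicGeometry TopologicalSpace
open Groth.Agent.Var76.LineBundle Groth.Agent.Var76.ZeroScheme Groth.Agent.Amp73

noncomputable section

namespace Groth.Agent.ArS10

open RegImm10.BlowCech (Chart pb pb_res germ_pb nonempty_chart exists_mem_chart)

theorem exceptional_ideal_chart {X X' : Scheme.{u}} (b : X' ⟶ X) (I : X.IdealSheafData) {U : X.Opens}
    (hU : IsAffineOpen U) {ι : Type*} (a : ι → Γ(X, U)) (ha : Ideal.span (Set.range a) = I.ideal ⟨U, hU⟩)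
    (j : ι) (C : Chart b U (I.ideal ⟨U, hU⟩) (a j)) :
    (BlowUp.exceptional b I).ideal ⟨C.W, C.affine⟩ = Ideal.span {pb b C.le (a j)} := by
  refine (MP99.ideal_comap I b ⟨U, hU⟩ ⟨C.W, C.affine⟩ C.le).trans ?_
  show (I.ideal ⟨U, hU⟩).map (pb b C.le) = _
  refine le_antisymm ?_ ((Ideal.span_singleton_le_iff_mem _).2
    (Ideal.mem_map_of_mem _ (ha ▸ Ideal.subset_span ⟨j, rfl⟩)))
  refine Ideal.map_le_iff_le_comap.2 fun y hy => ?_
  obtain ⟨c, hc⟩ := C.exists_div hy
  exact Ideal.mem_span_singleton'.2 ⟨c, hc.symm⟩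

theorem toGlobal_toSpecΓ {E : Scheme.{u}} {k : Type u} [CommRing k] (φ : CommRingCat.of k ⟶ Γ(E, ⊤)) (c : k) :
    ProjUP.toGlobal (E.toSpecΓ ≫ Spec.map φ) c = φ c := by
  have h : (Scheme.ΓSpecIso (CommRingCat.of k)).inv ≫ (E.toSpecΓ ≫ Spec.map φ).appTop = φ := by
    simp
  exact ConcreteCategory.congr_hom h c

/-- The exceptional divisor of a blow-up in a closed point, embedded in the projective line over the
residue field by two generators of the ideal of the point. -/
theorem exists_immersion_exceptional {X X' : Scheme.{u}} [IsLocallyNoetherian X] (b : X' ⟶ X) {y : X}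
    (hy : IsClosed ({y} : Set X))
    (hb : BlowUp.IsBlowUp b (Scheme.IdealSheafData.vanishingIdeal ⟨{y}, hy⟩))
    {U : X.Opens} (hU : IsAffineOpen U) (hyU : y ∈ U) (a : Fin 2 → Γ(X, U))
    (ha : Ideal.span (Set.range a) = (Scheme.IdealSheafData.vanishingIdeal ⟨{y}, hy⟩).ideal ⟨U, hU⟩)
    (k : Type u) [CommRing k] (π : Γ(X, U) →+* k) (hπ : Function.Surjective π)
    (hker : RingHom.ker π = (Scheme.IdealSheafData.vanishingIdeal ⟨{y}, hy⟩).ideal ⟨U, hU⟩) :
    ∃ i : (BlowUp.exceptional b (Scheme.IdealSheafData.vanishingIdeal ⟨{y}, hy⟩)).subscheme ⟶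
        CohB1.ProjSpace 1 k,
      IsClosedImmersion i ∧
        i ≫ CohB1.ProjSpace.toSpec 1 k ≫ Spec.map (CommRingCat.ofHom π) ≫ hU.fromSpec =
          (BlowUp.exceptional b (Scheme.IdealSheafData.vanishingIdeal ⟨{y}, hy⟩)).subschemeι ≫ b ∧
        Nonempty ((Scheme.Modules.pullback i).obj (Twist.twistProjSpace 1 k 1) ≅
          (Scheme.Modules.pullback
            (BlowUp.exceptional b (Scheme.IdealSheafData.vanishingIdeal ⟨{y}, hy⟩)).subschemeι).obj
            (ClSub.idealMod (BlowUp.exceptional b (Scheme.IdealSheafData.vanishingIdeal ⟨{y}, hy⟩)))) := by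
  classical
  let I := Scheme.IdealSheafData.vanishingIdeal (⟨{y}, hy⟩ : Closeds X)
  let J := BlowUp.exceptional b I
  let ι := J.subschemeι
  let N := ClSub.idealMod J
  let M := (Scheme.Modules.pullback ι).obj N
  have hft : BlowUp.IsFiniteTypeIdeal I := fun V => by
    haveI : IsNoetherianRing Γ(X, V.1) := IsLocallyNoetherian.component_noetherian V
    exact IsNoetherian.noetherian _
  haveI : IsProper b := RegImm10.BlowModel.isProper_of_isBlowUp hft hb
  have hN : PicF.IsInvertible N := (Curves2.isInvertible_idealMod_iff J).2 hb.1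
  have hM : PicF.IsInvertible M := isInvertible_pullback ι hN
  -- the divisor lies over the affine open
  have hmem : ∀ x : J.subscheme, ι x ∈ b ⁻¹ᵁ U := fun x => by
    have h1 : ι x ∈ Set.range J.subschemeι := ⟨x, rfl⟩
    rw [Scheme.IdealSheafData.range_subschemeι] at h1
    have h2 : ι x ∈ ((I.support.preimage b.continuous : Closeds X') : Set X') := by
      rw [← Scheme.IdealSheafData.support_comap]; exact h1
    have h3 : b (ι x) = y := h2
    show b (ι x) ∈ U
    rw [h3]; exact hyU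
  have htop : (⊤ : J.subscheme.Opens) ≤ ι ⁻¹ᵁ (b ⁻¹ᵁ U) := fun x _ => hmem x
  -- the constants
  have hzero : ∀ z ∈ I.ideal ⟨U, hU⟩, (ι ≫ b).app U z = 0 := by
    intro z hz
    have h1 : I ≤ (ι ≫ b).ker := Scheme.IdealSheafData.le_map_comap I b
    have h2 := h1 ⟨U, hU⟩ hz
    rw [Scheme.Hom.ker_apply] at h2
    exact h2
  let ψ : Γ(X, U) ⟶ Γ(J.subscheme, ⊤) := (ι ≫ b).appLE U ⊤ htop
  have hψ : RingHom.ker π ≤ RingHom.ker ψ.hom := fun z hz => by
    rw [hker] at hz
    have e : ψ.hom z = J.subscheme.presheaf.map (homOfLE htop).op ((ι ≫ b).app U z) := rfl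
    rw [RingHom.mem_ker, e, hzero z hz, map_zero]
  let φ : CommRingCat.of k ⟶ Γ(J.subscheme, ⊤) :=
    CommRingCat.ofHom (RingHom.liftOfSurjective π hπ ⟨ψ.hom, hψ⟩)
  let q : J.subscheme ⟶ Spec (CommRingCat.of k) := J.subscheme.toSpecΓ ≫ Spec.map φ
  have hlift : ∀ z, φ (π z) = ψ.hom z := fun z =>
    RingHom.liftOfRightInverse_comp_apply _ _ _ ⟨ψ.hom, hψ⟩ z
  have hqc : ∀ z, ProjUP.toGlobal q (π z) = ψ.hom z := fun z => (toGlobal_toSpecΓ φ _).trans (hlift z)
  let σ : Spec (CommRingCat.of k) ⟶ X := Spec.map (CommRingCat.ofHom π) ≫ hU.fromSpec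
  have hfac : q ≫ σ = ι ≫ b := by
    have e1 : CommRingCat.ofHom π ≫ φ = ψ := by
      ext z; exact hlift z
    haveI : IsIso (⊤ : J.subscheme.Opens).ι := inferInstanceAs (IsIso J.subscheme.topIso.hom)
    rw [← cancel_epi (⊤ : J.subscheme.Opens).ι]
    simp only [q, σ, Category.assoc]
    rw [← Spec.map_comp_assoc, e1]
    calc (⊤ : J.subscheme.Opens).ι ≫ J.subscheme.toSpecΓ ≫ Spec.map ψ ≫ hU.fromSpec
        = (⊤ : J.subscheme.Opens).toSpecΓ ≫ Spec.map ψ ≫ hU.fromSpec := by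
          rw [Scheme.Opens.toSpecΓ_top, Category.assoc]
      _ = (ι ≫ b).resLE U ⊤ htop ≫ U.toSpecΓ ≫ hU.fromSpec := by
          simp only [ψ, Scheme.Opens.toSpecΓ_SpecMap_appLE_assoc]
      _ = (⊤ : J.subscheme.Opens).ι ≫ ι ≫ b := by
          rw [hU.toSpecΓ_fromSpec, Scheme.Hom.resLE_comp_ι]
  have hqp : IsProper q := by
    have h1 : IsProper (q ≫ σ) := hfac ▸ inferInstanceAs (IsProper (ι ≫ b))
    exact IsProper.of_comp q σ
  -- the sections
  have hsec : ∀ j, ∃ e : Γ(N, b ⁻¹ᵁ U), OmegaSh.idealSect J (b ⁻¹ᵁ U) e = pb b le_rfl (a j) := by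
    intro j
    refine Omega57.exists_idealSect_eq J _ _ ?_
    have := hzero _ (ha ▸ Ideal.subset_span ⟨j, rfl⟩ : a j ∈ I.ideal ⟨U, hU⟩)
    rw [Scheme.Hom.comp_app] at this
    rw [pb, Scheme.Hom.appLE_eq_app]
    exact this
  choose e he using hsec
  let u : Fin 2 → ProjUP.Γm M := fun j => res M htop (pullS ι N (b ⁻¹ᵁ U) (e j))
  -- the charts
  have hC := fun j => nonempty_chart hb hU ha j
  let C := fun j => (hC j).some
  have hres : ∀ (j : Fin 2) (V : X'.Opens) (hV : V ≤ b ⁻¹ᵁ U),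
      res M (le_top : ι ⁻¹ᵁ V ≤ ⊤) (u j) = pullS ι N V (res N hV (e j)) ∧
        OmegaSh.idealSect J V (res N hV (e j)) = pb b hV (a j) := fun j V hV => by
    refine ⟨?_, ?_⟩
    · simp only [u]
      rw [res_res, ← res_pullS ι N hV]
    · rw [Curves2.idealSect_res, he, pb_res]
  have hframe : ∀ j, IsFrame M (ι ⁻¹ᵁ (C j).W) (res M le_top (u j)) := fun j => by
    rw [(hres j _ (C j).le).1]
    exact isFrame_pullS ι hN (Curves2.isFrame_of_span J ⟨(C j).W, (C j).affine⟩ (C j).nzd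
      (exceptional_ideal_chart b I hU a ha j (C j)) _ (hres j _ (C j).le).2)
  have hrel : ∀ (j k : Fin 2) (V : X'.Opens) (hV : V ≤ b ⁻¹ᵁ U) (c : Γ(X', V)),
      pb b hV (a k) = c * pb b hV (a j) →
        ι.app V c • res M (le_top : ι ⁻¹ᵁ V ≤ ⊤) (u j) = res M le_top (u k) := by
    intro j k V hV c hc
    rw [(hres j V hV).1, (hres k V hV).1, ← pullS_smul]
    congr 1
    refine Omega57.idealSect_injective J V ?_
    rw [Omega57.idealSect_smul, (hres j V hV).2, (hres k V hV).2, hc]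
  have hle : ∀ j, ι ⁻¹ᵁ (C j).W ≤ CohB1.genLocus M (Var76.Frames.ofSection M (u j)) := fun j => by
    rw [← isFrame_iff_le_genLocus, Var76.Frames.val_ofSection]
    exact hframe j
  have hge : ∀ j, CohB1.genLocus M (Var76.Frames.ofSection M (u j)) ≤ ι ⁻¹ᵁ (C j).W := by
    intro j x hx
    obtain ⟨k, hk⟩ := exists_mem_chart hb hU ha C (hmem x)
    obtain ⟨c, hc⟩ := (C k).exists_div (ha ▸ Ideal.subset_span ⟨j, rfl⟩ : a j ∈ I.ideal ⟨U, hU⟩)
    let G := CohB1.genLocus M (Var76.Frames.ofSection M (u j)) ⊓ ι ⁻¹ᵁ (C k).W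
    have hfj : IsFrame M G (res M le_top (u j)) := by
      rw [← Var76.Frames.val_ofSection]
      exact (isFrame_iff_le_genLocus _ _).2 inf_le_left
    have hfk : IsFrame M G (res M le_top (u k)) := by
      have := (hframe k).res (inf_le_right : G ≤ ι ⁻¹ᵁ (C k).W)
      rwa [res_res] at this
    have hu : IsUnit (J.subscheme.presheaf.map (homOfLE (inf_le_right : G ≤ ι ⁻¹ᵁ (C k).W)).op
        (ι.app (C k).W c)) := by
      rw [← isFrame_smul_iff hfk]
      have h1 := congrArg (res M (inf_le_right : G ≤ ι ⁻¹ᵁ (C k).W)) (hrel k j _ (C k).le c hc)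
      rw [res_smul] at h1
      have h2 : ∀ i, res M (inf_le_right : G ≤ ι ⁻¹ᵁ (C k).W) (res M (le_top : ι ⁻¹ᵁ (C k).W ≤ ⊤) (u i)) =
          res M (le_top : G ≤ ⊤) (u i) := fun i => res_res M _ _ _
      rw [h2, h2] at h1
      rw [h1]
      exact hfj
    have hx' : x ∈ G := ⟨hx, hk⟩
    have h2 := hu.map (J.subscheme.presheaf.germ G x hx').hom
    rw [show (J.subscheme.presheaf.germ G x hx').hom = _ from rfl, ← CommRingCat.comp_apply,
      TopCat.Presheaf.germ_res, ← Scheme.Hom.germ_stalkMap_apply] at h2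
    have h3 : IsUnit (X'.presheaf.germ (C k).W (ι x) hk c) := isUnit_of_map_unit (ι.stalkMap x).hom _ h2
    show ι x ∈ (C j).W
    refine ((C j).mem_iff _).2 ⟨hmem x, fun z hz => ?_⟩
    obtain ⟨d, hd⟩ := (C k).exists_div hz
    rw [← germ_pb b (C k).le hk, ← germ_pb b (C k).le hk, hc, hd, map_mul, map_mul]
    exact (mul_dvd_mul_right h3.dvd _)
  have hG : ∀ j, CohB1.genLocus M (Var76.Frames.ofSection M (u j)) = ι ⁻¹ᵁ (C j).W :=
    fun j => le_antisymm (hge j) (hle j)
  have hgen : ∀ j, Subring.closure (Set.range (fun c : k => fres (le_top : ι ⁻¹ᵁ (C j).W ≤ ⊤)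
      (ProjUP.toGlobal q c)) ∪
        {r | ∃ j', r • res M (le_top : ι ⁻¹ᵁ (C j).W ≤ ⊤) (u j) = res M le_top (u j')}) = ⊤ := by
    intro j
    refine eq_top_iff.2 fun r _ => ?_
    obtain ⟨w, rfl⟩ := ι.app_surjective (C j).W (C j).affine r
    obtain ⟨x, rfl⟩ := (C j).ε.surjective w
    refine affineAlgebra_induction a ha (a j) ((ι.app (C j).W).hom.comp (C j).ε.toRingHom) _ (fun z => ?_)
      (fun l x' hx' => ?_) x
    · refine Subring.subset_closure (Or.inl ⟨π z, ?_⟩)
      show fres _ (ProjUP.toGlobal q (π z)) = ι.app (C j).W ((C j).ε (algebraMap _ _ z))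
      rw [hqc, (C j).compat]
      show J.subscheme.presheaf.map (homOfLE _).op ((ι ≫ b).appLE U ⊤ htop z) = ι.app (C j).W (b.appLE U (C j).W (C j).le z)
      rw [← CommRingCat.comp_apply, Scheme.Hom.appLE_map, ← CommRingCat.comp_apply, ← Scheme.Hom.appLE_eq_app,
        Scheme.Hom.appLE_comp_appLE]
    · refine Subring.subset_closure (Or.inr ⟨l, hrel j l _ (C j).le _ ?_⟩)
      show pb b (C j).le (a l) = (C j).ε x' * pb b (C j).le (a j)
      rw [← (C j).compat, ← (C j).compat, ← map_mul, mul_comm, hx']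
  obtain ⟨i, hi, hiq, hiM⟩ := Curves2.VeryAmple.exists_immersion_of_sections q M hM 1 u fun z => by
    obtain ⟨j, hj⟩ := exists_mem_chart hb hU ha C (hmem z)
    exact ⟨j, ι ⁻¹ᵁ (C j).W, (hG j).symm, hj, (C j).affine.preimage ι, hgen j⟩
  refine ⟨i, ?_, ?_, hiM⟩
  swap
  · rw [← Category.assoc, hiq]; exact hfac
  haveI := hi
  haveI : IsProper (i ≫ CohB1.ProjSpace.toSpec 1 k) := hiq ▸ hqp
  haveI : IsSeparated (CohB1.ProjSpace.toSpec 1 k) := by
    haveI := Approx60.Segre.isProper_toSpec k 1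
    infer_instance
  haveI : IsProper i := IsProper.of_comp i (CohB1.ProjSpace.toSpec 1 k)
  exact IsClosedImmersion.of_isPreimmersion i i.isClosedMap.isClosed_range

end Groth.Agent.ArS10
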