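import Groth.Agent.Res23.BlowPointFibre
import Groth.Agent.RegImm10.BlowCech.Geom
import Groth.Agent.Div89.Comap

/-!
The exceptional divisor of the blow-up of a regular surface point: local generators, more than one point,
and generation of a chart by the fractions.
-/

set_option autoImplicit false
set_option linter.style.haveILetI false
set_option backward.isDefEq.respectTransparency false

universe u

open CategoryTheory CategoryTheory.Limits AlgebraicGeometry TopologicalSpace IsLocalRing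

noncomputable section

namespace Groth.Agent.ArS10

theorem vanishingIdeal_singleton_ideal {T : Scheme.{u}} {y : T} (hy : IsClosed ({y} : Set T))
    (U : T.affineOpens) (hyU : y ∈ U.1) :
    (Scheme.IdealSheafData.vanishingIdeal ⟨{y}, hy⟩).ideal U =
      (U.2.primeIdealOf ⟨y, hyU⟩).asIdeal ∧
    ((Scheme.IdealSheafData.vanishingIdeal ⟨{y}, hy⟩).ideal U).IsMaximal := by
  have hpre : U.2.fromSpec ⁻¹' ({y} : Set T) = {U.2.primeIdealOf ⟨y, hyU⟩} := by
    ext q
    rw [Set.mem_preimage, Set.mem_singleton_iff, Set.mem_singleton_iff]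
    refine ⟨fun hq => U.2.fromSpec.isOpenEmbedding.injective ?_, fun hq => ?_⟩
    · rw [hq]; exact (U.2.fromSpec_primeIdealOf ⟨y, hyU⟩).symm
    · rw [hq]; exact U.2.fromSpec_primeIdealOf ⟨y, hyU⟩
  have h1 : (Scheme.IdealSheafData.vanishingIdeal ⟨{y}, hy⟩).ideal U =
      (U.2.primeIdealOf ⟨y, hyU⟩).asIdeal := by
    rw [Scheme.IdealSheafData.vanishingIdeal_ideal]
    exact (congrArg PrimeSpectrum.vanishingIdeal hpre).trans (PrimeSpectrum.vanishingIdeal_singleton _)
  refine ⟨h1, ?_⟩
  rw [h1]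
  refine (PrimeSpectrum.isClosed_singleton_iff_isMaximal _).1 ?_
  rw [← hpre]
  exact hy.preimage U.2.fromSpec.continuous

/-- An ideal which is generated by given elements at a prime is generated by as many elements near it. -/
theorem exists_span_spread {R S : Type u} [CommRing R] [CommRing S] [Algebra R S] (M : Submonoid R)
    [IsLocalization M S] (I : Ideal R) (hI : I.FG) {n : ℕ} (c : Fin n → S)
    (h : I.map (algebraMap R S) = Ideal.span (Set.range c)) :
    ∃ (s : R) (a : Fin n → R), s ∈ M ∧ (∀ i, a i ∈ I) ∧ ∀ g ∈ I, g * s ∈ Ideal.span (Set.range a) := by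
  classical
  have hnum : ∀ i, ∃ (m : R) (t : M), m ∈ I ∧ c i * algebraMap R S t = algebraMap R S m := by
    intro i
    have hz : c i ∈ I.map (algebraMap R S) := h ▸ Ideal.subset_span ⟨i, rfl⟩
    obtain ⟨⟨⟨m, hm⟩, t⟩, he⟩ := (IsLocalization.mem_map_algebraMap_iff M S).1 hz
    exact ⟨m, t, hm, he⟩
  choose a t₀ ha he₀ using hnum
  let J : Ideal R := Ideal.span (Set.range a)
  have hJ : Ideal.span (Set.range c) ≤ J.map (algebraMap R S) := by
    rw [Ideal.span_le]
    rintro _ ⟨i, rfl⟩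
    rw [SetLike.mem_coe, ← Ideal.mul_unit_mem_iff_mem _ (IsLocalization.map_units S (t₀ i)), he₀]
    exact Ideal.mem_map_of_mem _ (Ideal.subset_span ⟨i, rfl⟩)
  obtain ⟨gens, hgens⟩ := hI
  have hkill : ∀ g ∈ gens, ∃ t : R, t ∈ M ∧ g * t ∈ J := by
    intro g hg
    have hg' : algebraMap R S g ∈ J.map (algebraMap R S) :=
      hJ (h.le (Ideal.mem_map_of_mem _ (hgens ▸ Ideal.subset_span hg)))
    obtain ⟨⟨⟨m, hm⟩, t⟩, he⟩ := (IsLocalization.mem_map_algebraMap_iff M S).1 hg'
    rw [← map_mul] at he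
    obtain ⟨w, hw⟩ := (IsLocalization.eq_iff_exists M S).1 he
    refine ⟨t * w, mul_mem t.2 w.2, ?_⟩
    rw [← mul_assoc, mul_comm (g * (t : R)), hw]
    exact Ideal.mul_mem_left _ _ hm
  choose t ht htJ using hkill
  let s : R := ∏ g ∈ gens.attach, t g.1 g.2
  refine ⟨s, a, prod_mem fun g _ => ht g.1 g.2, ha, fun g hg => ?_⟩
  rw [← hgens] at hg
  induction hg using Submodule.span_induction with
  | mem g hg =>
    obtain ⟨w, hw⟩ := Finset.dvd_prod_of_mem (fun g : {x // x ∈ gens} => t g.1 g.2)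
      (Finset.mem_attach gens ⟨g, hg⟩)
    rw [show s = t g hg * w from hw, ← mul_assoc]
    exact Ideal.mul_mem_right _ _ (htJ g hg)
  | zero => rw [zero_mul]; exact zero_mem _
  | add x y _ _ hx hy => rw [add_mul]; exact add_mem hx hy
  | smul r x _ hx => rw [smul_eq_mul, mul_assoc]; exact Ideal.mul_mem_left _ _ hx

/-- Generators of the maximal ideal of a closed point generate its ideal on an affine neighbourhood. -/
theorem exists_affine_gens {T : Scheme.{u}} [IsLocallyNoetherian T] {y : T} (hy : IsClosed ({y} : Set T))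
    {n : ℕ} (c : Fin n → T.presheaf.stalk y) (hc : Ideal.span (Set.range c) = maximalIdeal (T.presheaf.stalk y)) :
    ∃ (U : T.Opens) (hU : IsAffineOpen U) (a : Fin n → Γ(T, U)), y ∈ U ∧
      Ideal.span (Set.range a) = (Scheme.IdealSheafData.vanishingIdeal ⟨{y}, hy⟩).ideal ⟨U, hU⟩ := by
  classical
  let I := Scheme.IdealSheafData.vanishingIdeal (⟨{y}, hy⟩ : Closeds T)
  obtain ⟨U₀, hyU₀⟩ := Div89.exists_affine_mem y
  haveI : IsNoetherianRing Γ(T, U₀.1) := IsLocallyNoetherian.component_noetherian U₀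
  obtain ⟨hP, hPmax⟩ := vanishingIdeal_singleton_ideal hy U₀ hyU₀
  letI := T.presheaf.algebra_section_stalk ⟨y, hyU₀⟩
  haveI := U₀.2.isLocalization_stalk ⟨y, hyU₀⟩
  let R := Γ(T, U₀.1)
  let S := T.presheaf.stalk y
  let M := (U₀.2.primeIdealOf ⟨y, hyU₀⟩).asIdeal.primeCompl
  haveI : IsLocalization M S := U₀.2.isLocalization_stalk ⟨y, hyU₀⟩
  have hmax : (I.ideal U₀).map (algebraMap R S) = maximalIdeal S := by
    rw [hP]
    exact IsLocalization.AtPrime.map_eq_maximalIdeal _ _
  obtain ⟨s, a₀, hs, ha₀, hsJ⟩ :=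
    exists_span_spread M (I.ideal U₀) (IsNoetherian.noetherian _) c (hmax.trans hc.symm)
  let V := T.basicOpen s
  have hVU : V ≤ U₀.1 := T.basicOpen_le s
  let r : R →+* Γ(T, V) := (T.presheaf.map (homOfLE hVU).op).hom
  have hu : IsUnit (r s) := RingedSpace.isUnit_res_basicOpen _ s
  refine ⟨V, U₀.2.basicOpen s, fun i => r (a₀ i), ?_, ?_⟩
  · rw [T.mem_basicOpen s y hyU₀]
    exact IsLocalization.map_units S (⟨s, hs⟩ : M)
  rw [show Set.range (fun i => r (a₀ i)) = r '' Set.range a₀ from Set.range_comp _ _, ← Ideal.map_span r,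
    ← I.map_ideal (U := ⟨V, U₀.2.basicOpen s⟩) (V := U₀) hVU]
  refine le_antisymm (Ideal.map_mono (Ideal.span_le.2 ?_)) ?_
  · rintro _ ⟨i, rfl⟩; exact ha₀ i
  · refine Ideal.map_le_iff_le_comap.2 fun g hg => ?_
    show r g ∈ (Ideal.span (Set.range a₀)).map r
    rw [← Ideal.mul_unit_mem_iff_mem _ hu, ← map_mul]
    exact Ideal.mem_map_of_mem r (hsJ g hg)

/-- Two generators of the ideal of a regular point on an affine neighbourhood. -/
theorem exists_affine_pair {T : Scheme.{u}} [IsLocallyNoetherian T] {y : T} (hy : IsClosed ({y} : Set T))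
    (hreg : IsRegularLocalRing (T.presheaf.stalk y)) (hdim : ringKrullDim (T.presheaf.stalk y) = 2) :
    ∃ (U : T.Opens) (hU : IsAffineOpen U) (a : Fin 2 → Γ(T, U)), y ∈ U ∧
      Ideal.span (Set.range a) = (Scheme.IdealSheafData.vanishingIdeal ⟨{y}, hy⟩).ideal ⟨U, hU⟩ := by
  obtain ⟨c, d, hcd⟩ := @Res23.BlowPoint.exists_pair (T.presheaf.stalk y) _ hreg hdim
  exact exists_affine_gens hy ![c, d] ((congrArg Ideal.span (Matrix.range_cons_cons_empty c d ![])).trans hcd)

/-- The fibre over the point has at least two points. -/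
theorem fibre_nontrivial {T X : Scheme.{u}} {b : X ⟶ T} [IsLocallyNoetherian T] {y : T}
    (hy : IsClosed ({y} : Set T))
    (hreg : IsRegularLocalRing (T.presheaf.stalk y)) (hdim : ringKrullDim (T.presheaf.stalk y) = 2)
    (hb : BlowUp.IsBlowUp b (Scheme.IdealSheafData.vanishingIdeal ⟨{y}, hy⟩)) :
    ∃ x₁ x₂ : X, b x₁ = y ∧ b x₂ = y ∧ x₁ ≠ x₂ := by
  haveI := hreg
  let g := T.fromSpecStalk y
  haveI : Flat g := FlatMor67.flat_fromSpecStalk y
  have hb' := Div89.isBlowUp_flat_baseChange g hb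
  rw [Res23.BlowPointFibre.comap_fromSpecStalk_point hy] at hb'
  obtain ⟨a, c, hac⟩ := @Res23.BlowPoint.exists_pair (T.presheaf.stalk y) _ hreg hdim
  obtain ⟨L, -, hLi, hLr, -⟩ := @Res23.BlowPointFibre.exists_line (T.presheaf.stalk y) _ hreg _ (pullback.fst g b) hdim hb' a c hac
  let P := MvPolynomial (Fin 1) (ResidueField (T.presheaf.stalk y))
  obtain ⟨M, hM⟩ := Ideal.exists_maximal P
  have hne : (⟨⊥, Ideal.isPrime_bot⟩ : PrimeSpectrum P) ≠ ⟨M, hM.isPrime⟩ := by
    intro h
    have hbM : (⊥ : Ideal P) = M := congrArg PrimeSpectrum.asIdeal h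
    obtain ⟨z, i, hi, hz⟩ := hM.exists_inv (x := MvPolynomial.X (0 : Fin 1))
      (hbM ▸ fun h0 => MvPolynomial.X_ne_zero (0 : Fin 1) (Ideal.mem_bot.1 h0))
    rw [← hbM, Ideal.mem_bot] at hi
    have := congrArg (MvPolynomial.eval fun _ : Fin 1 => (0 : ResidueField (T.presheaf.stalk y))) hz
    simp [hi] at this
  let q := pullback.snd g b
  have hq : ∀ p, b (q (L p)) = y := fun p => by
    have h1 : L p ∈ Set.range L := ⟨p, rfl⟩
    rw [hLr] at h1
    rw [← Scheme.Hom.comp_apply, ← pullback.condition, Scheme.Hom.comp_apply,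
      show pullback.fst g b (L p) = closedPoint _ from h1.1]
    exact Scheme.fromSpecStalk_closedPoint
  exact ⟨q (L ⟨⊥, Ideal.isPrime_bot⟩), q (L ⟨M, hM.isPrime⟩), hq _, hq _,
    fun h => hne (hLi (q.isEmbedding.injective h))⟩

/-- A ring map out of a chart lands in a subring containing the constants and the fractions. -/
theorem affineAlgebra_induction {A : Type u} [CommRing A] {ι : Type*} (v : ι → A) {I : Ideal A}
    (hI : Ideal.span (Set.range v) = I) (a : A) {S : Type u} [CommRing S] (g : BlowUp.affineAlgebra A I a →+* S)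
    (K : Subring S) (h1 : ∀ c, g (algebraMap A _ c) ∈ K)
    (h2 : ∀ k q, algebraMap A _ a * q = algebraMap A (BlowUp.affineAlgebra A I a) (v k) → g q ∈ K)
    (x : BlowUp.affineAlgebra A I a) : g x ∈ K := by
  have hdiv : ∀ y ∈ I, ∀ q, algebraMap A _ a * q = algebraMap A (BlowUp.affineAlgebra A I a) y → g q ∈ K := by
    subst hI
    intro y hy
    induction hy using Submodule.span_induction with
    | mem y hy => obtain ⟨k, rfl⟩ := hy; exact h2 k
    | zero =>
      intro q hq
      rw [map_zero, mul_comm] at hq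
      rw [mem_nonZeroDivisors_iff_right.1 (FBlow13.affineAlgebra_nzd a) q hq, map_zero]
      exact zero_mem _
    | add y z hy hz ihy ihz =>
      intro q hq
      obtain ⟨qy, hqy⟩ := FBlow13.affineAlgebra_div (a := a) hy
      obtain ⟨qz, hqz⟩ := FBlow13.affineAlgebra_div (a := a) hz
      rw [mul_comm] at hqy hqz
      have : q = qy + qz := (mul_cancel_left_mem_nonZeroDivisors (FBlow13.affineAlgebra_nzd a)).1 (by
        rw [hq, map_add, hqy, hqz, mul_add])
      rw [this, map_add]
      exact add_mem (ihy qy hqy.symm) (ihz qz hqz.symm)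
    | smul c y hy ih =>
      intro q hq
      obtain ⟨qy, hqy⟩ := FBlow13.affineAlgebra_div (a := a) hy
      rw [mul_comm] at hqy
      have : q = algebraMap A _ c * qy := (mul_cancel_left_mem_nonZeroDivisors (FBlow13.affineAlgebra_nzd a)).1 (by
        rw [hq, smul_eq_mul, map_mul, hqy]
        ring)
      rw [this, map_mul]
      exact mul_mem (h1 c) (ih qy hqy.symm)
  obtain ⟨x, hx⟩ := x
  induction hx using Algebra.adjoin_induction with
  | mem q hq =>
    obtain ⟨y, hy, rfl⟩ := hq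
    refine hdiv y hy _ (Subtype.ext ?_)
    exact IsLocalization.mk'_spec' (Localization.Away a) y ⟨a, Submonoid.mem_powers a⟩
  | algebraMap c => exact h1 c
  | add p q _ _ hp hq => exact (map_add g ⟨p, _⟩ ⟨q, _⟩).symm ▸ add_mem hp hq
  | mul p q _ _ hp hq => exact (map_mul g ⟨p, _⟩ ⟨q, _⟩).symm ▸ mul_mem hp hq

end Groth.Agent.ArS10
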