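import Groth.Agent.Omega57.SectionConormal
import Groth.Agent.Curves2.IdealFrame
import Groth.Agent.MP99.Basic
import Groth.Agent.Amp73.PullTensor
import Groth.Agent.Amp73.Gen

/-!
The inverse image of an effective Cartier divisor on an integral scheme not inside its support.
-/

set_option autoImplicit false
set_option linter.style.haveILetI false
set_option backward.isDefEq.respectTransparency.types false

universe u

open CategoryTheory CategoryTheory.Limits AlgebraicGeometry TopologicalSpace Opposite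
open Groth.Agent.Var76.LineBundle
open scoped nonZeroDivisors

noncomputable section

namespace Groth.Agent.ArS10

variable {X C : Scheme.{u}} [IsIntegral C] (g : C ⟶ X) (D : X.IdealSheafData)

/-- A local equation pulls back to a nonzero function. -/
theorem appLE_mem_nonZeroDivisors (hgen : g.base (genericPoint C) ∉ (D.support : Set X))
    (U : X.affineOpens) (a : Γ(X, U.1)) (hspan : D.ideal U = Ideal.span {a})
    (V : C.Opens) (hVU : V ≤ g ⁻¹ᵁ U.1) [Nonempty V] :
    g.appLE U.1 V hVU a ∈ Γ(C, V)⁰ := by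
  refine mem_nonZeroDivisors_of_ne_zero fun h0 => hgen ?_
  have hη : genericPoint C ∈ V := by
    obtain ⟨⟨z, hz⟩⟩ := ‹Nonempty V›
    exact ((genericPoint_spec C).mem_open_set_iff V.2).2 ⟨z, trivial, hz⟩
  have h1 : C.basicOpen (g.appLE U.1 V hVU a) = ⊥ := by rw [h0, Scheme.basicOpen_zero]
  rw [Scheme.basicOpen_appLE] at h1
  have hnot : g.base (genericPoint C) ∉ X.basicOpen a := fun h => by
    have : genericPoint C ∈ (⊥ : C.Opens) := h1 ▸ ⟨hη, h⟩
    exact this
  have h2 : g.base (genericPoint C) ∈ X.zeroLocus (U := U.1) (D.ideal U) ∩ U.1 := by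
    refine ⟨?_, hVU hη⟩
    rw [hspan, Scheme.zeroLocus_span]
    simpa [Scheme.mem_zeroLocus_iff] using hnot
  rw [← D.coe_support_inter U] at h2
  exact h2.1

/-- The inverse image is an effective Cartier divisor. -/
theorem isEffCartier_comap (hgen : g.base (genericPoint C) ∉ (D.support : Set X))
    (hD : BlowUp.IsEffCartierIdeal D) : BlowUp.IsEffCartierIdeal (D.comap g) := fun x => by
  obtain ⟨U, hxU, a, -, hspan⟩ := hD (g.base x)
  obtain ⟨V, hV, hxV, hVU⟩ := exists_isAffineOpen_mem_and_subset (x := x) (U := g ⁻¹ᵁ U.1) hxU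
  haveI : Nonempty V := ⟨⟨x, hxV⟩⟩
  refine ⟨⟨V, hV⟩, hxV, g.appLE U.1 V hVU a, appLE_mem_nonZeroDivisors g D hgen U a hspan V hVU, ?_⟩
  rw [MP99.ideal_comap D g U ⟨V, hV⟩ hVU, hspan, Ideal.map_span, Set.image_singleton]

/-- The inverse image of the ideal module. -/
theorem nonempty_pullback_idealMod (hgen : g.base (genericPoint C) ∉ (D.support : Set X))
    (hD : BlowUp.IsEffCartierIdeal D) :
    Nonempty ((Scheme.Modules.pullback g).obj (ClSub.idealMod D) ≅ ClSub.idealMod (D.comap g)) := by
  have hD' : BlowUp.IsEffCartierIdeal D.subschemeι.ker := by rwa [Scheme.IdealSheafData.ker_subschemeι]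
  let f : (D.comap g).subscheme ⟶ D.subscheme := IsClosedImmersion.lift D.subschemeι
    ((D.comap g).subschemeι ≫ g) (by
      rw [Scheme.IdealSheafData.ker_subschemeι, ← Scheme.IdealSheafData.map_ker,
        Scheme.IdealSheafData.ker_subschemeι]
      exact Scheme.IdealSheafData.le_map_iff_comap_le.2 le_rfl)
  have hg : (D.comap g).subschemeι ≫ g = f ≫ D.subschemeι := (IsClosedImmersion.lift_fac _ _ _).symm
  obtain ⟨α, hα⟩ := Omega57.exists_idealHom D.subschemeι g (D.comap g).subschemeι f hg
  let adj := Scheme.Modules.pullbackPushforwardAdjunction g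
  let φ := (adj.homEquiv _ _).symm α
  have hφ : ∀ V m, φ.app (g ⁻¹ᵁ V) (Amp73.pullS g _ V m) = α.app V m := fun V m => by
    have h1 : adj.unit.app _ ≫ (Scheme.Modules.pushforward g).map φ = α :=
      (adj.homEquiv_unit _ _ φ).symm.trans (Equiv.apply_symm_apply _ _)
    exact congr(Scheme.Modules.Hom.app $h1 V m)
  have : IsIso φ := by
    refine Amp73.isIso_of_frames φ fun x => ?_
    obtain ⟨U, hxU, a, ha, hspan⟩ := hD' (g.base x)
    obtain ⟨e, he⟩ := Curves2.exists_idealSect_of_mem _ U (hspan ▸ Ideal.mem_span_singleton_self a)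
    obtain ⟨V, hV, hxV, hVU⟩ := exists_isAffineOpen_mem_and_subset (x := x) (U := g ⁻¹ᵁ U.1) hxU
    haveI : Nonempty V := ⟨⟨x, hxV⟩⟩
    have hfr := Amp73.isFrame_pullS g (Curves2.isInvertible_idealMod_iff _ |>.2 hD')
      (Curves2.isFrame_of_span _ U ha hspan e he)
    have hspan' : D.ideal U = Ideal.span {a} := by rwa [Scheme.IdealSheafData.ker_subschemeι] at hspan
    refine ⟨V, res _ hVU (Amp73.pullS g _ U.1 e), hxV, hfr.res hVU, ?_⟩
    refine Curves2.isFrame_of_span _ ⟨V, hV⟩
      (appLE_mem_nonZeroDivisors g D hgen U a hspan' V hVU) ?_ _ ?_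
    · rw [Scheme.IdealSheafData.ker_subschemeι, MP99.ideal_comap D g U ⟨V, hV⟩ hVU, hspan', Ideal.map_span,
        Set.image_singleton]
    · rw [Mero90.app_res φ hVU, hφ, Curves2.idealSect_res, hα, he, Scheme.Hom.appLE, ConcreteCategory.comp_apply]
  exact ⟨(Scheme.Modules.pullback g).mapIso (eqToIso (by rw [Scheme.IdealSheafData.ker_subschemeι])) ≪≫
    asIso φ ≪≫ eqToIso (by rw [Scheme.IdealSheafData.ker_subschemeι])⟩

end Groth.Agent.ArS10
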