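import Groth.Agent.ArS10.ExcDisjoint
import Groth.Agent.ArS10.PullIdeal
import Groth.Agent.Div89.Cartier

/-!
Descent of contracted exceptional curves along birational morphisms over a normal surface.
-/

set_option autoImplicit false
set_option linter.style.haveILetI false
set_option backward.isDefEq.respectTransparency.types false

universe u

open CategoryTheory CategoryTheory.Limits AlgebraicGeometry TopologicalSpace IsLocalRing
open scoped nonZeroDivisors

noncomputable section

namespace Groth.Agent.ArS10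

/-- Morphisms into the locus where `π` is an isomorphism are determined by their composite with `π`. -/
theorem eq_of_comp_eq_of_restrict {T X₁ X₀ : Scheme.{u}} (π : X₁ ⟶ X₀) (U : X₀.Opens) [IsIso (π ∣_ U)]
    {a b : T ⟶ X₁} (ha : ∀ t, π (a t) ∈ U) (h : a ≫ π = b ≫ π) : a = b := by
  have hb : ∀ t, π (b t) ∈ U := fun t => by
    rw [← Scheme.Hom.comp_apply, ← h, Scheme.Hom.comp_apply]
    exact ha t
  have hra : Set.range a ⊆ Set.range (π ⁻¹ᵁ U).ι := by
    rw [Scheme.Opens.range_ι]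
    rintro _ ⟨t, rfl⟩
    exact ha t
  have hrb : Set.range b ⊆ Set.range (π ⁻¹ᵁ U).ι := by
    rw [Scheme.Opens.range_ι]
    rintro _ ⟨t, rfl⟩
    exact hb t
  rw [← IsOpenImmersion.lift_fac (π ⁻¹ᵁ U).ι a hra, ← IsOpenImmersion.lift_fac (π ⁻¹ᵁ U).ι b hrb]
  congr 1
  rw [← cancel_mono (π ∣_ U), ← cancel_mono U.ι]
  simpa only [Category.assoc, morphismRestrict_ι, IsOpenImmersion.lift_fac_assoc] using h

/-- The image of an exceptional curve under a birational morphism which is an isomorphism near it. -/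
theorem isExcCurve_push {E X₁ X₀ : Scheme.{u}} [IsIntegral X₁] [IsIntegral X₀] [IsLocallyNoetherian X₀]
    (π : X₁ ⟶ X₀) [IsProper π] (U : X₀.Opens) (hU : (U : Set X₀).Nonempty) [IsIso (π ∣_ U)]
    (ι : E ⟶ X₁) [IsClosedImmersion ι] (hι : ∀ c, π (ι c) ∈ U) (hE : Models.IsExcCurve ι) :
    IsClosedImmersion (ι ≫ π) ∧ Models.IsExcCurve (ι ≫ π) := by
  obtain ⟨hD, k, hk, e, ⟨τ⟩⟩ := hE
  have hr : Set.range ι ⊆ Set.range (π ⁻¹ᵁ U).ι := by
    rw [Scheme.Opens.range_ι]
    rintro _ ⟨t, rfl⟩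
    exact hι t
  let ι' := IsOpenImmersion.lift (π ⁻¹ᵁ U).ι ι hr
  haveI : IsPreimmersion (ι' ≫ (π ⁻¹ᵁ U).ι) := by
    rw [IsOpenImmersion.lift_fac]
    infer_instance
  haveI : IsPreimmersion ι' := IsPreimmersion.of_comp ι' (π ⁻¹ᵁ U).ι
  haveI : IsPreimmersion (ι ≫ π) := by
    rw [← IsOpenImmersion.lift_fac (π ⁻¹ᵁ U).ι ι hr, Category.assoc, ← morphismRestrict_ι]
    infer_instance
  have hrange : Set.range (ι ≫ π) = π.base '' Set.range ι.base := by
    rw [← Set.range_comp]
    rfl
  haveI hci : IsClosedImmersion (ι ≫ π) := IsClosedImmersion.of_isPreimmersion _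
    (hrange ▸ π.isClosedMap _ ι.isClosedEmbedding.isClosed_range)
  have hpb : IsPullback ι (𝟙 E) π (ι ≫ π) := by
    refine IsPullback.mk' (by rw [Category.id_comp]) (fun T φ φ' h _ => (cancel_mono ι).1 h)
      fun T a b hab => ⟨b, (eq_of_comp_eq_of_restrict π U (fun t => ?_) (hab.trans (Category.assoc _ _ _).symm)).symm,
        Category.comp_id b⟩
    rw [← Scheme.Hom.comp_apply, hab]
    exact hι (b t)
  have hcomap : (ι ≫ π).ker.comap π = ι.ker := by
    refine ((congrArg Scheme.Hom.ker hpb.isoPullback_hom_fst).symm.trans ?_).symm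
    rw [Scheme.Hom.ker_comp_of_isIso, Scheme.IdealSheafData.ker_fst_of_isClosedImmersion]
  have hsupp : ((ι ≫ π).ker.support : Set X₀) = π.base '' Set.range ι.base := by
    rw [Scheme.Hom.support_ker]
    show closure (Set.range (ι ≫ π)) = _
    rw [hci.base_closed.isClosed_range.closure_eq, hrange]
  have hD₀ : BlowUp.IsEffCartierIdeal (ι ≫ π).ker := by
    refine Div89.isEffCartier_of_stalk fun x hx => ?_
    obtain ⟨_, ⟨c, rfl⟩, rfl⟩ := hsupp.le hx
    show ∃ g ∈ (X₀.presheaf.stalk (π (ι c)))⁰, Div89.stalkIdeal (ι ≫ π).ker (π (ι c)) = Ideal.span {g}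
    haveI := CAlg9.BirationalPoint.isIso_stalkMap_of_restrict π U (ι c) (hι c)
    have hb := ConcreteCategory.bijective_of_isIso (π.stalkMap (ι c))
    obtain ⟨g, hg, hgI⟩ := Div89.exists_stalk_generator hD (ι c)
    rw [← hcomap, Div89.stalkIdeal_comap] at hgI
    obtain ⟨g₀, rfl⟩ := hb.2 g
    refine ⟨g₀, ?_, ?_⟩
    · refine mem_nonZeroDivisors_iff_right.2 fun w hw => hb.1 ?_
      rw [map_zero]
      exact (mem_nonZeroDivisors_iff_right.1 hg) _ (by rw [← map_mul, hw, map_zero])
    · rw [← Ideal.comap_map_of_bijective (π.stalkMap (ι c)).hom hb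
        (I := Div89.stalkIdeal (ι ≫ π).ker (π (ι c))), hgI, ← Set.image_singleton, ← Ideal.map_span,
        Ideal.comap_map_of_bijective _ hb]
  have hgen : π.base (genericPoint X₁) ∉ ((ι ≫ π).ker.support : Set X₀) := fun h => by
    obtain ⟨g, hg, hgI⟩ := Div89.exists_stalk_generator hD₀ (π.base (genericPoint X₁))
    refine (Div89.notMem_support_iff_stalkIdeal _ _).2 ?_ h
    rw [hgI, Ideal.span_singleton_eq_top]
    have hf : IsField (X₀.presheaf.stalk (π.base (genericPoint X₁))) := by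
      rw [show π.base (genericPoint X₁) = genericPoint X₀ from map_genericPoint π U hU]
      exact Field.toIsField X₀.functionField
    letI := hf.toField
    exact (isUnit_iff_ne_zero).2 (nonZeroDivisors.ne_zero hg)
  obtain ⟨φ⟩ := nonempty_pullback_idealMod π (ι ≫ π).ker hgen hD₀
  refine ⟨hci, hD₀, k, hk, e, ⟨?_⟩⟩
  refine (Scheme.Modules.pullbackCongr (Category.assoc e.hom ι π).symm).app _ ≪≫
    ((Scheme.Modules.pullbackComp (e.hom ≫ ι) π).app _).symm ≪≫
    (Scheme.Modules.pullback (e.hom ≫ ι)).mapIso (φ ≪≫ eqToIso (by rw [hcomap])) ≪≫ τ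

/-- A composite of contractions is proper. -/
theorem isProper_of_isContractionSeq {X Y : Scheme.{u}} {f : X ⟶ Y} (hf : Models.IsContractionSeq f) :
    IsProper f := by
  induction hf with
  | iso e => infer_instance
  | step ι b r hι hE hb hr ih =>
    haveI := hb.2.1
    haveI := ih
    infer_instance

/-- Birational morphisms compose. -/
theorem birat_comp {A B C : Scheme.{u}} [IsIntegral B] [IsIntegral C] (f : A ⟶ B) (g : B ⟶ C) [IsProper g]
    {U : B.Opens} (hU : (U : Set B).Nonempty) [IsIso (f ∣_ U)] {V : C.Opens} (hV : (V : Set C).Nonempty)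
    [IsIso (g ∣_ V)] : ∃ W : C.Opens, (W : Set C).Nonempty ∧ IsIso ((f ≫ g) ∣_ W) := by
  let W : C.Opens := V ⊓ ⟨(g.base '' (U : Set B)ᶜ)ᶜ, (g.isClosedMap _ U.2.isClosed_compl).isOpen_compl⟩
  have hW : g ⁻¹ᵁ W ≤ U := fun a ha => not_not.1 fun h => ha.2 ⟨a, h, rfl⟩
  refine ⟨W, ⟨genericPoint C, genericPoint_mem V hV, ?_⟩, ?_⟩
  · rintro ⟨b, hb, hbg⟩
    have h1 : g.base (genericPoint B) = genericPoint C := map_genericPoint g V hV
    exact hb (CAlg9.BirationalPoint.injOn_of_restrict g V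
      (show g b ∈ V by rw [show g b = genericPoint C from hbg]; exact genericPoint_mem V hV)
      (hbg.trans h1.symm) ▸ genericPoint_mem U hU)
  · rw [morphismRestrict_comp]
    haveI := isIso_restrict_mono g (U := V) (V := W) inf_le_left
    exact @IsIso.comp_isIso _ _ _ _ _ (f ∣_ (g ⁻¹ᵁ W)) (g ∣_ W) (isIso_restrict_mono f (U := U) (V := g ⁻¹ᵁ W) hW)
      (isIso_restrict_mono g (U := V) (V := W) inf_le_left)

/-- The first of two morphisms with birational composite and birational second one is birational. -/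
theorem birat_of_comp {A B C : Scheme.{u}} [IsIntegral B] [IsIntegral C] (f : A ⟶ B) (g : B ⟶ C)
    {U : C.Opens} (hU : (U : Set C).Nonempty) [IsIso ((f ≫ g) ∣_ U)] {V : C.Opens} (hV : (V : Set C).Nonempty)
    [IsIso (g ∣_ V)] : ∃ W : B.Opens, (W : Set B).Nonempty ∧ IsIso (f ∣_ W) := by
  refine ⟨g ⁻¹ᵁ (U ⊓ V), ⟨genericPoint B, ?_⟩, ?_⟩
  · show g.base (genericPoint B) ∈ U ⊓ V
    rw [show g.base (genericPoint B) = genericPoint C from map_genericPoint g V hV]
    exact ⟨genericPoint_mem U hU, genericPoint_mem V hV⟩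
  · haveI := isIso_restrict_mono g (U := V) (V := U ⊓ V) inf_le_right
    haveI := isIso_restrict_mono (f ≫ g) (U := U) (V := U ⊓ V) inf_le_left
    haveI : IsIso ((f ∣_ (g ⁻¹ᵁ (U ⊓ V))) ≫ (g ∣_ (U ⊓ V))) :=
      morphismRestrict_comp f g (U ⊓ V) ▸ inferInstanceAs (IsIso ((f ≫ g) ∣_ (U ⊓ V)))
    exact IsIso.of_isIso_comp_right _ (g ∣_ (U ⊓ V))

/-- A contraction is an isomorphism over the complement of the point. -/
theorem birat_blowUp_point {X Z : Scheme.{u}} [IsIntegral Z] (b : X ⟶ Z) {z : Z} (hz : IsClosed ({z} : Set Z))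
    (hdim : ringKrullDim (Z.presheaf.stalk z) = 2)
    (hb : BlowUp.IsBlowUp b (Scheme.IdealSheafData.vanishingIdeal ⟨{z}, hz⟩)) :
    (((⟨{z}ᶜ, hz.isOpen_compl⟩ : Z.Opens)) : Set Z).Nonempty ∧
      IsIso (b ∣_ (⟨{z}ᶜ, hz.isOpen_compl⟩ : Z.Opens)) := by
  refine ⟨⟨genericPoint Z, fun h => ?_⟩, ?_⟩
  · have hη : genericPoint Z = z := h
    rw [← hη, ringKrullDim_eq_zero_of_isField (Field.toIsField Z.functionField)] at hdim
    exact absurd hdim (by decide)
  · haveI := Div89.isIso_off_center hb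
    refine isIso_restrict_mono b (U := (Scheme.IdealSheafData.vanishingIdeal
      (⟨{z}, hz⟩ : Closeds Z)).support.compl) ?_
    intro a ha
    show a ∉ ((Scheme.IdealSheafData.vanishingIdeal (⟨{z}, hz⟩ : Closeds Z)).support : Set Z)
    rw [Scheme.IdealSheafData.coe_support_vanishingIdeal]
    exact ha

/-- A composite of contractions onto a regular surface is birational. -/
theorem birat_of_isContractionSeq {X Y : Scheme.{u}} {f : X ⟶ Y} (hf : Models.IsContractionSeq f)
    (hY : IsRegSurf Y) : ∃ U : Y.Opens, (U : Set Y).Nonempty ∧ IsIso (f ∣_ U) := by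
  induction hf with
  | @iso X Y e =>
    haveI := hY.1
    exact ⟨⊤, ⟨genericPoint Y, trivial⟩, inferInstance⟩
  | step ι b r hι hE hb hr ih =>
    obtain ⟨-, -, z, hz, -, -, hdim, hbl⟩ := hb
    haveI := hY.1
    haveI := (isRegSurf_of_isContractionSeq hr hY).1
    haveI := isProper_of_isContractionSeq hr
    obtain ⟨V, hV, hrV⟩ := ih hY
    haveI := hrV
    haveI := (birat_blowUp_point b hz hdim hbl).2
    exact birat_comp b r (birat_blowUp_point b hz hdim hbl).1 hV

theorem range_exceptional {X Z : Scheme.{u}} (b : X ⟶ Z) {z : Z} (hz : IsClosed ({z} : Set Z)) :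
    Set.range ((Scheme.IdealSheafData.vanishingIdeal (⟨{z}, hz⟩ : Closeds Z)).comap b).subschemeι.base =
      b.base ⁻¹' {z} := by
  rw [Scheme.IdealSheafData.range_subschemeι, Scheme.IdealSheafData.support_comap, Closeds.coe_preimage,
    Scheme.IdealSheafData.coe_support_vanishingIdeal]
  rfl

section Descend

variable {R : Type u} [CommRing R] [IsDomain R] [IsDiscreteValuationRing R]
  (Y : Over (Spec (CommRingCat.of R))) [IsIntegral Y.left] [Flat Y.hom] [IsProper Y.hom]
  (hnor : ∀ q : Y.left, IsIntegrallyClosed (Y.left.presheaf.stalk q))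

/-- A closed point of a proper scheme over a discrete valuation ring is in the closed fibre. -/
theorem hom_eq_closedPoint {y : Y.left} (hy : IsClosed ({y} : Set Y.left)) :
    Y.hom.base y = closedPoint R := by
  have h1 : IsClosed ({Y.hom.base y} : Set (PrimeSpectrum R)) := by
    have h0 : IsClosed (Y.hom.base '' {y}) := Y.hom.isClosedMap _ hy
    rw [Set.image_singleton] at h0
    exact h0
  exact PrimeSpectrum.ext (IsLocalRing.eq_maximalIdeal ((PrimeSpectrum.isClosed_singleton_iff_isMaximal _).1 h1))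

variable (T : Scheme.{u}) (G : T ⟶ Y.left)

/-- No exceptional curve of `T` is mapped to a point by `G`. -/
def NoContractedExc : Prop :=
  ∀ (E : Scheme.{u}) (ι : E ⟶ T) [IsClosedImmersion ι], Models.IsExcCurve ι →
    ¬ ∃ y : Y.left, Set.range ((ι ≫ G).base : E → Y.left) = {y}

include hnor in
/-- An exceptional curve contracted in `Y` is contracted by every birational morphism to a surface
without contracted exceptional curves. -/
theorem exists_contracted {S T : Scheme.{u}} {k : S ⟶ T} (hk : Models.IsContractionSeq k) :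
    ∀ (G : T ⟶ Y.left) [IsProper G], IsRegSurf T →
      (∃ U : Y.left.Opens, (U : Set Y.left).Nonempty ∧ IsIso (G ∣_ U)) → NoContractedExc Y T G →
      ∀ (E : Scheme.{u}) (ι : E ⟶ S) [IsClosedImmersion ι], Models.IsExcCurve ι →
        (∃ y : Y.left, Set.range ((ι ≫ k ≫ G).base : E → Y.left) = {y}) →
          ∃ t : T, Set.range ((ι ≫ k).base : E → T) = {t} := by
  induction hk with
  | @iso S T e =>
    intro G _ hT _ hexc E ι _ hE hy
    haveI := hT.1
    haveI := hT.2.1
    haveI := (isRegSurf_of_isContractionSeq (Models.IsContractionSeq.iso e) hT).1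
    obtain ⟨h1, h2⟩ := isExcCurve_push e.hom ⊤ ⟨genericPoint T, trivial⟩ ι (fun _ => trivial) hE
    refine absurd ?_ (@hexc E (ι ≫ e.hom) h1 h2)
    simpa only [Category.assoc] using hy
  | @step S Z T E₀ ι₀ b r hι₀ hE₀ hb hr ih =>
    intro G _ hT hbir hexc E ι _ hE hy
    have hb' := hb
    obtain ⟨hnoe, hbp, z, hz, -, hreg, hdim, hbl⟩ := hb
    obtain ⟨y, hy⟩ := hy
    haveI := hT.1
    have hZ := isRegSurf_of_isContractionSeq hr hT
    have hS := isRegSurf_blowUp_point hZ b hz hdim hbl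
    haveI := hZ.1
    haveI := hS.1
    haveI := hnoe
    haveI := hbp
    haveI := isProper_of_isContractionSeq hr
    haveI : Nonempty E := by
      obtain ⟨-, k, hk, e, -⟩ := hE
      haveI : IsIntegral (CohB1.ProjSpace 1 k) := Curves2.ProjLine.isIntegral k 1
      exact ⟨e.hom.base (Classical.arbitrary _)⟩
    have hcy : ∀ c, G (r (b (ι c))) = y := fun c => by
      have h1 := hy.le (Set.mem_range_self c)
      simpa [Scheme.Hom.comp_apply] using h1
    by_cases hall : ∀ c, b (ι c) = z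
    · refine ⟨r z, Set.eq_singleton_iff_nonempty_unique_mem.2 ⟨Set.range_nonempty _, ?_⟩⟩
      rintro _ ⟨c, rfl⟩
      simp [Scheme.Hom.comp_apply, hall c]
    have hoff : ∀ c, b (ι c) ≠ z := by
      intro c₀ hc₀
      obtain ⟨U, hU, hGU⟩ := hbir
      haveI := hGU
      obtain ⟨V, hV, hkV⟩ :=
        birat_of_isContractionSeq (Models.IsContractionSeq.step ι₀ b r hι₀ hE₀ hb' hr) hT
      haveI := hkV
      obtain ⟨W, hW, hfW⟩ := birat_comp (b ≫ r) G hV hU
      haveI : IsProper ((b ≫ r) ≫ G ≫ Y.hom) := inferInstance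
      let Sx : Over (Spec (CommRingCat.of R)) := Over.mk ((b ≫ r) ≫ G ≫ Y.hom)
      let f : Sx ⟶ Y := Over.homMk ((b ≫ r) ≫ G) (Category.assoc _ _ _)
      haveI : IsProper Sx.hom := inferInstanceAs (IsProper ((b ≫ r) ≫ G ≫ Y.hom))
      have hycl : IsClosed ({y} : Set Y.left) := by
        rw [← hy]
        exact ((ι ≫ (b ≫ r) ≫ G).isClosedMap).isClosed_range
      let J := (Scheme.IdealSheafData.vanishingIdeal (⟨{z}, hz⟩ : Closeds Z)).comap b
      have hJr : Set.range J.subschemeι.base = b.base ⁻¹' {z} := range_exceptional b hz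
      have hJy : ∀ c, G (r (b (J.subschemeι c))) = y := fun c => by
        rw [show b (J.subschemeι c) = z from hJr.le ⟨c, rfl⟩, ← hc₀]
        exact hcy c₀
      obtain ⟨A, hA, hAr⟩ := exists_vertComp (X := Sx) ι hE fun c => by
        show ((b ≫ r) ≫ G ≫ Y.hom).base (ι c) = _
        simp only [Scheme.Hom.comp_apply, hcy]
        exact hom_eq_closedPoint Y hycl
      haveI : IsClosedImmersion (J.subschemeι : J.subscheme ⟶ Sx.left) := inferInstanceAs (IsClosedImmersion J.subschemeι)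
      obtain ⟨B, hB, hBr⟩ := exists_vertComp (X := Sx) J.subschemeι (isExcCurve_exceptional b hz hreg hdim hbl)
        fun c => by
          show ((b ≫ r) ≫ G ≫ Y.hom).base (J.subschemeι c) = _
          simp only [Scheme.Hom.comp_apply, hJy]
          exact hom_eq_closedPoint Y hycl
      have hsurf : IsSurf R Sx := isSurf_of_regSurf (X := Sx) hS f ⟨W, hW, hfW⟩ A
      have hdis := disjoint_of_exc hsurf hnor f ⟨W, hW, hfW⟩ A B (fun h => hall fun c => by
          have h1 : ι c ∈ Set.range J.subschemeι.base := (hBr ▸ h ▸ hAr.ge) ⟨c, rfl⟩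
          exact hJr.le h1) hA hB y (fun a => by
          obtain ⟨c, hc⟩ : A.ι.base a ∈ Set.range ι.base := hAr.le ⟨a, rfl⟩
          show ((b ≫ r) ≫ G).base (A.ι.base a) = y
          rw [← hc]
          exact hcy c) fun a => by
          obtain ⟨c, hc⟩ : B.ι.base a ∈ Set.range J.subschemeι.base := hBr.le ⟨a, rfl⟩
          show ((b ≫ r) ≫ G).base (B.ι.base a) = y
          rw [← hc]
          exact hJy c
      rw [hAr, hBr, hJr] at hdis
      exact Set.disjoint_left.1 hdis ⟨c₀, rfl⟩ hc₀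
    obtain ⟨hU, hbU⟩ := birat_blowUp_point b hz hdim hbl
    haveI := hbU
    obtain ⟨h1, h2⟩ := isExcCurve_push b _ hU ι (fun c => hoff c) hE
    obtain ⟨t, ht⟩ := @ih G _ hT hbir hexc E (ι ≫ b) h1 h2 ⟨y, by simpa only [Category.assoc] using hy⟩
    exact ⟨t, by simpa only [Category.assoc] using ht⟩

include hnor in
/-- A surface without contracted exceptional curves receives every regular surface over `Y`. -/
theorem exists_factor [IsProper G] (hT : IsRegSurf T)
    (hbir : ∃ U : Y.left.Opens, (U : Set Y.left).Nonempty ∧ IsIso (G ∣_ U)) (hexc : NoContractedExc Y T G)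
    {S W : Scheme.{u}} {f : S ⟶ W} (hf : Models.IsContractionSeq f) :
    ∀ (g' : W ⟶ Y.left) [IsProper g'], IsRegSurf W →
      (∃ U : Y.left.Opens, (U : Set Y.left).Nonempty ∧ IsIso (g' ∣_ U)) →
      ∀ k : S ⟶ T, k ≫ G = f ≫ g' → ∃ h : W ⟶ T, f ≫ h = k ∧ h ≫ G = g' := by
  induction hf with
  | @iso S W e =>
    intro g' _ _ _ k hk
    exact ⟨e.inv ≫ k, by simp, by rw [Category.assoc, hk]; simp⟩
  | @step S Z W E₀ ι₀ b r hι₀ hE₀ hb hr ih =>
    intro g' _ hW hbir' k hk
    have hb' := hb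
    obtain ⟨hnoe, hbp, z, hz, -, hreg, hdim, hbl⟩ := hb
    have hZ := isRegSurf_of_isContractionSeq hr hW
    have hS := isRegSurf_blowUp_point hZ b hz hdim hbl
    haveI := hT.1
    haveI := hW.1
    haveI := hZ.1
    haveI := hS.1
    haveI := hnoe
    haveI := hbp
    haveI := isProper_of_isContractionSeq hr
    haveI : IsProper k := by
      haveI : IsProper (k ≫ G) := by rw [hk]; infer_instance
      exact IsProper.of_comp k G
    obtain ⟨U, hU, hGU⟩ := hbir
    obtain ⟨U', hU', hgU'⟩ := id hbir'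
    haveI := hGU
    haveI := hgU'
    obtain ⟨V, hV, hfV⟩ := birat_of_isContractionSeq (Models.IsContractionSeq.step ι₀ b r hι₀ hE₀ hb' hr) hW
    haveI := hfV
    obtain ⟨W₁, hW₁, hfW₁⟩ := birat_comp (b ≫ r) g' hV hU'
    haveI : IsIso ((k ≫ G) ∣_ W₁) := by rw [hk]; exact hfW₁
    obtain ⟨W₂, hW₂, hkW₂⟩ := birat_of_comp k G hW₁ hU
    have hks := isContractionSeq_of_birational k hS hT W₂ hW₂ hkW₂
    let J := (Scheme.IdealSheafData.vanishingIdeal (⟨{z}, hz⟩ : Closeds Z)).comap b
    have hJr : Set.range J.subschemeι.base = b.base ⁻¹' {z} := range_exceptional b hz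
    obtain ⟨x₀, hx₀⟩ := Res23.BlowPointFibre.surjective hz hreg hdim hbl z
    obtain ⟨t, ht⟩ := exists_contracted Y hnor hks G hT ⟨U, hU, hGU⟩ hexc J.subscheme J.subschemeι
      (isExcCurve_exceptional b hz hreg hdim hbl) ⟨g' (r z), by
        rw [Set.eq_singleton_iff_nonempty_unique_mem]
        obtain ⟨c, hc⟩ : x₀ ∈ Set.range J.subschemeι.base := hJr.ge hx₀
        refine ⟨⟨_, c, rfl⟩, ?_⟩
        rintro _ ⟨c, rfl⟩
        rw [hk]
        simp [Scheme.Hom.comp_apply, show b (J.subschemeι c) = z from hJr.le ⟨c, rfl⟩]⟩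
    obtain ⟨ψ, hψ, -⟩ := Res23.BlowPointFibre.existsUnique_factor hz hreg hdim hbl k t fun x hx => by
      obtain ⟨c, rfl⟩ : x ∈ Set.range J.subschemeι.base := hJr.ge hx
      exact ht.le ⟨c, rfl⟩
    have hψ : b ≫ ψ = k := hψ
    have hψG : ψ ≫ G = r ≫ g' := by
      obtain ⟨w, -, hu⟩ := Res23.BlowPointFibre.existsUnique_factor hz hreg hdim hbl (b ≫ r ≫ g') (g' (r z))
        fun x hx => by simp [Scheme.Hom.comp_apply, hx]
      have h1 : ψ ≫ G = w := hu _ (show b ≫ ψ ≫ G = b ≫ r ≫ g' by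
        rw [← Category.assoc b ψ G, hψ, hk, Category.assoc])
      have h2 : r ≫ g' = w := hu _ rfl
      rw [h1, h2]
    obtain ⟨h, hh, hhG⟩ := ih g' hW hbir' ψ hψG
    exact ⟨h, by rw [Category.assoc, hh, hψ], hhG⟩

end Descend

end Groth.Agent.ArS10
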