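import Groth.Agent.ArS10.Deg
import Groth.Agent.AbVanish7.IsoInv
import Groth.Agent.Var76.RegTools
import Groth.Agent.Div89.NormalSheaf
import Groth.Agent.FlatMor67.TrivLocus
import Groth.Agent.Inv57.OfTensor
import Groth.Agent.Curves2.IdealFrame
import Groth.Agent.S0844

/-!
Numerical invariants of an exceptional curve of the first kind: `h¹ = 0` and `E · E = -h⁰`.
-/

set_option autoImplicit false
set_option linter.style.haveILetI false

universe u

open CategoryTheory CategoryTheory.Limits AlgebraicGeometry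

noncomputable section

namespace Groth.Agent.ArS10

theorem subsingleton_hh_congr {X : Scheme.{u}} {M N : X.Modules} (e : M ≅ N) (i : ℕ)
    [Subsingleton (Coh.HH X N i)] : Subsingleton (Coh.HH X M i) :=
  let a : Coh.HH X M i ≃+ Coh.HH X N i := ((Sheaf.functorH _ i).mapIso
    ((SheafOfModules.toSheaf X.ringCatSheaf).mapIso e)).addCommGroupIsoToAddEquiv
  a.toEquiv.subsingleton

variable {k : Type u} [Field k] {E Y : Scheme.{u}} {ι : E ⟶ Y}

theorem subsingleton_hh1_of_P1 (e : CohB1.ProjSpace 1 k ≅ E) :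
    Subsingleton (Coh.HH E (Coh.structureModule E) 1) := by
  obtain ⟨z⟩ := Var76.Reg.nonempty_twist_zero (n := 1) (A := k)
  haveI := S0844.result k 1 0 1 (by omega) (by omega)
  haveI : Subsingleton (Coh.HH (CohB1.ProjSpace 1 k)
      ((Scheme.Modules.pullback e.hom).obj (Coh.structureModule E)) 1) :=
    subsingleton_hh_congr (PicLoc.pullbackStructureIso e.hom ≪≫ z.symm) 1
  exact (AbVanish7.subsingleton_HH_pullback_iff e.hom (Coh.structureModule E) 1).1 inferInstance

/-- The normal sheaf of an exceptional curve has no cohomology. -/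
theorem subsingleton_hh_normal {L : Y.Modules} (hL : ClSub.IsInverseOf L (ClSub.idealMod ι.ker))
    (hI : BlowUp.IsEffCartierIdeal ι.ker) (e : CohB1.ProjSpace 1 k ≅ E)
    (τ : (Scheme.Modules.pullback (e.hom ≫ ι)).obj (ClSub.idealMod ι.ker) ≅ Twist.twistProjSpace 1 k 1)
    (i : ℕ) : Subsingleton (Coh.HH E ((Scheme.Modules.pullback ι).obj L) i) := by
  obtain ⟨a⟩ := hL
  have hN : PicF.IsInvertible (ClSub.idealMod ι.ker) := (Curves2.isInvertible_idealMod_iff _).2 hI
  have hLi : PicF.IsInvertible L := Inv57.isInvertible_of_tensorMod_iso a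
  obtain ⟨b⟩ := FlatMor67.TrivLocus.pullback_inverse (e.hom ≫ ι) hN hLi a
  obtain ⟨t⟩ := Var76.Reg.nonempty_twist_add (n := 1) (A := k) (a := -1) (b := 1) (c := 0) (by norm_num)
  obtain ⟨z⟩ := Var76.Reg.nonempty_twist_zero (n := 1) (A := k)
  obtain ⟨m⟩ := Div89.inverse_unique (EGA73.tensIso (Iso.refl _) τ.symm ≪≫ b) (t ≪≫ z)
  haveI := S0844.result k 1 (-1) i (by omega) (by omega)
  haveI : Subsingleton (Coh.HH (CohB1.ProjSpace 1 k)
      ((Scheme.Modules.pullback e.hom).obj ((Scheme.Modules.pullback ι).obj L)) i) :=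
    subsingleton_hh_congr ((Scheme.Modules.pullbackComp e.hom ι).app L ≪≫ m) i
  exact (AbVanish7.subsingleton_HH_pullback_iff e.hom _ i).1 inferInstance

/-- An exceptional vertical curve has no first cohomology and self-intersection minus its degree. -/
theorem h1_inter_of_isExcCurve (R : Type u) [CommRing R] [IsDomain R] [IsDiscreteValuationRing R]
    (X : Over (Spec (CommRingCat.of R))) (Γ : ArSurf.VertComp R X) (hE : Models.IsExcCurve Γ.ι)
    (L : X.left.Modules) (hL : ClSub.IsInverseOf L (ClSub.idealMod Γ.ι.ker)) :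
    Models.h1 R X Γ = 0 ∧ ArSurf.inter R X L Γ = -(Models.wdeg R X Γ : ℤ) := by
  obtain ⟨hI, k, hk, e, ⟨τ⟩⟩ := hE
  haveI := subsingleton_hh1_of_P1 e
  haveI := subsingleton_hh_normal hL hI e τ 0
  haveI := subsingleton_hh_normal hL hI e τ 1
  have h1 : Models.h1 R X Γ = 0 := Module.finrank_zero_of_subsingleton
  refine ⟨h1, ?_⟩
  unfold ArSurf.inter ArSurf.curveDeg FGA.eulerCharLE
  simp [Finset.sum_range_succ, Module.finrank_zero_of_subsingleton, Models.wdeg]

end Groth.Agent.ArS10
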