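import Groth.Agent.ArS10.ExcCurve
import Groth.Agent.ArS10.ExcNum
import Groth.Agent.ArS10.Comp
import Groth.Agent.Crv77.H0Count
import Groth.Agent.S0024

/-!
The exceptional vertical curve of the blow-up of a closed point of an arithmetic surface.
-/

set_option autoImplicit false
set_option linter.style.haveILetI false
set_option backward.isDefEq.respectTransparency false

universe u

open CategoryTheory CategoryTheory.Limits AlgebraicGeometry TopologicalSpace IsLocalRing

noncomputable section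

namespace Groth.Agent.ArS10

theorem ker_eq_vanishingIdeal_range {X Y : Scheme.{u}} [IsReduced X] (f : X ⟶ Y) :
    f.ker = Scheme.IdealSheafData.vanishingIdeal (Closeds.closure (Set.range f)) := by
  rw [← Scheme.IdealSheafData.map_bot, ← Scheme.nilradical_eq_bot, ← Scheme.IdealSheafData.vanishingIdeal_top,
    Scheme.IdealSheafData.map_vanishingIdeal]
  congr 2
  simp

/-- A blow-up of a regular closed point whose fibre has two points is centred in dimension two. -/
theorem dim_eq_two_of_blowUp {Y Y' : Scheme.{u}} [IsIntegral Y] [IsLocallyNoetherian Y] (b : Y' ⟶ Y)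
    {y : Y} (hy : IsClosed ({y} : Set Y)) (hreg : IsRegularLocalRing (Y.presheaf.stalk y))
    (hle : ringKrullDim (Y.presheaf.stalk y) ≤ 2) (hgen : genericPoint Y ≠ y)
    (hb : BlowUp.IsBlowUp b (Scheme.IdealSheafData.vanishingIdeal ⟨{y}, hy⟩))
    (hbig : ∃ x x' : Y', x ≠ x' ∧ b x = y ∧ b x' = y) :
    ringKrullDim (Y.presheaf.stalk y) = 2 := by
  classical
  refine eq_two_of_le_two hle fun h1 => ?_
  obtain ⟨x, x', hne, hx, hx'⟩ := hbig
  let I := Scheme.IdealSheafData.vanishingIdeal (⟨{y}, hy⟩ : Closeds Y)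
  haveI := hreg
  haveI := Ega11.RegLocal.isDomain (Y.presheaf.stalk y)
  haveI := FlatMor68.DedekindFlat.isPrincipalIdealRing_of_regular (Y.presheaf.stalk y) h1
  obtain ⟨g, hg⟩ := IsPrincipalIdealRing.principal (maximalIdeal (Y.presheaf.stalk y))
  obtain ⟨U, hU, a, hyU, ha⟩ := exists_affine_gens hy (fun _ : Fin 1 => g)
    (by rw [Set.range_const]; exact hg.symm)
  have hg0 : g ≠ 0 := by
    intro e
    refine hgen (eq_of_comap_eq_maximal (genericPoint_specializes y) ?_)
    refine le_antisymm (IsLocalRing.le_maximalIdeal (Ideal.IsPrime.comap (hK := inferInstance) _).ne_top) ?_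
    rw [hg, e]
    exact (Submodule.span_singleton_eq_bot.2 rfl).le.trans bot_le
  have htop : ∀ z, z ≠ y → Div89.stalkIdeal I z = ⊤ := fun z hz => by
    refine (Div89.notMem_support_iff_stalkIdeal I z).1 ?_
    exact hz
  have hI : BlowUp.IsEffCartierIdeal I := by
    refine Div89.isEffCartier_of_local_generator (fun z => ?_) fun z => ?_
    · by_cases hz : z = y
      · subst hz
        refine ⟨⟨U, hU⟩, hyU, a 0, ?_⟩
        rw [← ha]
        congr 1
        ext w
        simp [Fin.exists_fin_one, eq_comm]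
      · obtain ⟨W, hzW, hW⟩ := Div89.exists_affine_le (U := (⟨{y}ᶜ, hy.isOpen_compl⟩ : Y.Opens)) (x := z) hz
        refine ⟨W, hzW, 1, Div89.ideal_eq_span_of_stalk fun w hw => ?_⟩
        rw [map_one, Ideal.span_singleton_one]
        exact htop w (hW hw)
    · by_cases hz : z = y
      · subst hz
        refine ⟨g, mem_nonZeroDivisors_of_ne_zero hg0, ?_⟩
        rw [stalkIdeal_vanishing_point hy]
        exact hg
      · exact ⟨1, one_mem _, by rw [htop z hz, Ideal.span_singleton_one]⟩
  obtain ⟨s, hs, -⟩ := hb.2 Y (𝟙 Y) (by rwa [Scheme.IdealSheafData.comap_id])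
  obtain ⟨t, -, huniq⟩ := hb.2 Y' b hb.1
  have hbs : b ≫ s = 𝟙 Y' :=
    (huniq (b ≫ s) (by simp [hs])).trans (huniq (𝟙 Y') (Category.id_comp b)).symm
  have key : ∀ w, s (b w) = w := fun w => by rw [← Scheme.Hom.comp_apply, hbs]; rfl
  exact hne (by rw [← key x, ← key x', hx, hx'])

theorem isExcCurve_of_ker_eq {E E' Y : Scheme.{u}} (ι : E ⟶ Y) (ι' : E' ⟶ Y) [IsClosedImmersion ι]
    [IsClosedImmersion ι'] (h : ι.ker = ι'.ker) (hE : Models.IsExcCurve ι') : Models.IsExcCurve ι := by
  obtain ⟨hc, k, hk, e, ⟨τ⟩⟩ := hE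
  haveI := IsClosedImmersion.isIso_lift ι ι' h
  unfold Models.IsExcCurve
  rw [h]
  refine ⟨hc, k, hk, e ≪≫ asIso (IsClosedImmersion.lift ι ι' h.le), ⟨?_⟩⟩
  exact (Scheme.Modules.pullbackCongr (by
    rw [Iso.trans_hom, Category.assoc, asIso_hom, IsClosedImmersion.lift_fac])).app _ ≪≫ τ

variable {R : Type u} [CommRing R] [IsDomain R] [IsDiscreteValuationRing R]

theorem ker_vertComp_eq {X : Over (Spec (CommRingCat.of R))} {Y : Scheme.{u}} (f : X.left ⟶ Y)
    {y : Y} (hy : IsClosed ({y} : Set Y)) (E : ArSurf.VertComp R X)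
    (hE : Set.range (E.ι.base : E.curve.left → X.left) = f.base ⁻¹' {y})
    {K : Type u} [Field K]
    (e : CohB1.ProjSpace 1 K ≅ (BlowUp.exceptional f (Scheme.IdealSheafData.vanishingIdeal ⟨{y}, hy⟩)).subscheme) :
    E.ι.ker = (BlowUp.exceptional f (Scheme.IdealSheafData.vanishingIdeal ⟨{y}, hy⟩)).subschemeι.ker := by
  haveI := Curves2.ProjLine.isIntegral K 1
  haveI : IsReduced (BlowUp.exceptional f (Scheme.IdealSheafData.vanishingIdeal ⟨{y}, hy⟩)).subscheme :=
    isReduced_of_isOpenImmersion e.inv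
  rw [ker_eq_vanishingIdeal_range, ker_eq_vanishingIdeal_range]
  congr 2
  refine hE.trans ?_
  rw [Scheme.IdealSheafData.range_subschemeι]
  show _ = (((Scheme.IdealSheafData.vanishingIdeal (⟨{y}, hy⟩ : Closeds Y)).comap f).support : Set X.left)
  rw [Scheme.IdealSheafData.support_comap, Closeds.coe_preimage, Scheme.IdealSheafData.coe_support_vanishingIdeal]
  rfl

theorem exists_two_points {X : Over (Spec (CommRingCat.of R))} (E : ArSurf.VertComp R X) :
    ∃ c c' : E.curve.left, c ≠ c' := by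
  by_contra h
  push Not at h
  haveI : Subsingleton E.curve.left := ⟨h⟩
  have h1 : topologicalKrullDim E.curve.left ≤ 0 := topologicalKrullDim_zero_of_discreteTopology _
  rw [E.dim_eq] at h1
  exact absurd h1 (by decide)

theorem toGlobal_comp_specMap {E : Scheme.{u}} {A B : Type u} [CommRing A] [CommRing B]
    (p : E ⟶ Spec (CommRingCat.of B)) (g : A →+* B) (a : A) :
    Coh.toGlobal (p ≫ Spec.map (CommRingCat.ofHom g)) a = Coh.toGlobal p (g a) := by
  have h := ConcreteCategory.congr_hom (Scheme.ΓSpecIso_inv_naturality (CommRingCat.ofHom g)) a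
  show (p ≫ Spec.map (CommRingCat.ofHom g)).appTop.hom _ = p.appTop.hom _
  rw [Scheme.Hom.comp_appTop]
  exact congrArg p.appTop.hom h.symm

theorem toGlobal_comp {E E' : Scheme.{u}} {A : Type u} [CommRing A] (e : E' ⟶ E)
    (p : E ⟶ Spec (CommRingCat.of A)) (a : A) :
    Coh.toGlobal (e ≫ p) a = e.appTop.hom (Coh.toGlobal p a) := by
  show (e ≫ p).appTop.hom _ = _
  rw [Scheme.Hom.comp_appTop]
  rfl

/-- The blow-up of a closed point of the closed fibre: exceptional curve, residue field and degree. -/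
theorem excVert (Y : Over (Spec (CommRingCat.of R))) (hY : ArSurf.IsArithSurface R Y)
    (y : Y.left) (hy : IsClosed ({y} : Set Y.left)) (hys : Y.hom.base y = closedPoint R)
    {X : Scheme.{u}} (f : X ⟶ Y.left)
    (hf : BlowUp.IsBlowUp f (Scheme.IdealSheafData.vanishingIdeal ⟨{y}, hy⟩))
    (E : ArSurf.VertComp R (Over.mk (f ≫ Y.hom)))
    (hE : Set.range (E.ι.base : E.curve.left → X) = f.base ⁻¹' {y}) :
    Models.IsExcCurve E.ι ∧
      (∃ e : CohB1.ProjSpace 1 (Y.left.residueField y) ≅ E.curve.left,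
        e.hom ≫ E.ι ≫ f = CohB1.ProjSpace.toSpec 1 (Y.left.residueField y) ≫ Y.left.fromSpecResidueField y) ∧
      (letI : Algebra R (Y.left.residueField y) := ((Y.left.residue y).hom.comp (Models.stalkHom R Y y)).toAlgebra;
        Module.length R (Y.left.residueField y) = (Models.wdeg R (Over.mk (f ≫ Y.hom)) E : ℕ∞)) := by
  obtain ⟨hreg, hint, hdimY, hflat, -⟩ := id hY
  haveI := hint
  haveI := hflat
  haveI := isProper_hom hY
  haveI : IsLocallyNoetherian Y.left := LocallyOfFiniteType.isLocallyNoetherian Y.hom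
  haveI : IsProper f := Res23.isProper_of_isBlowUp hf
  have hgen : genericPoint Y.left ≠ y := fun h => genericPoint_notMem_fibre (X := Y) (h ▸ hys)
  have hmem : ∀ c : E.curve.left, f (E.ι c) = y := fun c => by
    have h1 : E.ι c ∈ f.base ⁻¹' {y} := hE ▸ ⟨c, rfl⟩
    exact h1
  obtain ⟨c, c', hcc⟩ := exists_two_points E
  haveI : IsClosedImmersion E.ι := E.isClosedImmersion
  have hdim := dim_eq_two_of_blowUp f hy (hreg y)
    ((FlatMor68.DedekindFlat.stalk_dim_le y).trans hdimY.le) hgen hf
    ⟨E.ι c, E.ι c', fun h => hcc (E.ι.isClosedEmbedding.injective h), hmem c, hmem c'⟩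
  let J := BlowUp.exceptional f (Scheme.IdealSheafData.vanishingIdeal (⟨{y}, hy⟩ : Closeds Y.left))
  obtain ⟨e, he, -⟩ := exists_iso_exceptional f hy (hreg y) hdim hf
  have hker : E.ι.ker = J.subschemeι.ker := ker_vertComp_eq (X := Over.mk (f ≫ Y.hom)) f hy E hE e
  haveI : IsClosedImmersion (J.subschemeι : J.subscheme ⟶ X) := inferInstance
  haveI := IsClosedImmersion.isIso_lift E.ι J.subschemeι hker
  let e' : CohB1.ProjSpace 1 (Y.left.residueField y) ≅ E.curve.left :=
    e ≪≫ asIso (IsClosedImmersion.lift E.ι J.subschemeι hker.le)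
  have he' : e'.hom ≫ E.ι ≫ f = CohB1.ProjSpace.toSpec 1 (Y.left.residueField y) ≫ Y.left.fromSpecResidueField y := by
    simp only [e', Iso.trans_hom, asIso_hom, Category.assoc, IsClosedImmersion.lift_fac_assoc]
    exact he
  refine ⟨isExcCurve_of_ker_eq E.ι J.subschemeι hker (isExcCurve_exceptional f hy (hreg y) hdim hf), ⟨e', he'⟩, ?_⟩
  let K := Y.left.residueField y
  letI algK : Algebra R K := ((Y.left.residue y).hom.comp (Models.stalkHom R Y y)).toAlgebra
  let k := ResidueField R
  let P := CohB1.ProjSpace 1 K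
  have hstr : Y.left.fromSpecResidueField y ≫ Y.hom =
      Spec.map (CommRingCat.ofHom (algebraMap R K)) := by
    have h1 : Y.hom = Y.left.toSpecΓ ≫ Spec.map ((Scheme.ΓSpecIso (CommRingCat.of R)).inv ≫ Y.hom.appTop) := by
      rw [Spec.map_comp, ← Scheme.toSpecΓ_naturality_assoc]
      simp
    rw [Scheme.fromSpecResidueField]
    conv_lhs => rw [h1]
    rw [Category.assoc, Scheme.fromSpecStalk_toSpecΓ_assoc, ← Spec.map_comp, ← Spec.map_comp]
    rfl
  haveI := S0024.result 1 K
  have hiK : Function.Bijective (Coh.toGlobal (CohB1.ProjSpace.toSpec 1 K)) :=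
    (ConcreteCategory.bijective_of_isIso (CohB1.ProjSpace.toSpec 1 K).appTop).comp
      (ConcreteCategory.bijective_of_isIso (Scheme.ΓSpecIso (CommRingCat.of K)).inv)
  let θ : Γ(E.curve.left, ⊤) →+* K :=
    (RingEquiv.ofBijective _ hiK).symm.toRingHom.comp e'.hom.appTop.hom
  have hθb : Function.Bijective θ :=
    (RingEquiv.ofBijective _ hiK).symm.bijective.comp (ConcreteCategory.bijective_of_isIso e'.hom.appTop)
  have hθR : ∀ r : R, θ (Coh.toGlobal E.curve.hom (residue R r)) = algebraMap R K r := by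
    intro r
    refine (RingEquiv.ofBijective _ hiK).injective ?_
    show (RingEquiv.ofBijective _ hiK) ((RingEquiv.ofBijective _ hiK).symm (e'.hom.appTop.hom _)) =
      Coh.toGlobal (CohB1.ProjSpace.toSpec 1 K) (algebraMap R K r)
    rw [RingEquiv.apply_symm_apply, ← toGlobal_comp_specMap E.curve.hom (residue R) r, ← toGlobal_comp,
      ← toGlobal_comp_specMap, ← E.w]
    congr 1
    rw [← hstr, ← Category.assoc (CohB1.ProjSpace.toSpec 1 K), ← he']
    simp
  letI := Crv77.topAlg k E.curve.left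
  letI algR : Algebra R Γ(E.curve.left, ⊤) :=
    ((Coh.toGlobal E.curve.hom).comp (residue R)).toAlgebra
  haveI : IsScalarTower R k Γ(E.curve.left, ⊤) := IsScalarTower.of_algebraMap_eq fun _ => rfl
  have hlen : Module.length R K = Module.length k Γ(E.curve.left, ⊤) := by
    rw [← Module.length_eq_of_surjective (R := k) (S := R) (M := Γ(E.curve.left, ⊤)) residue_surjective]
    exact ({ RingEquiv.ofBijective θ hθb with
      map_smul' := fun r x => by
        show θ (algebraMap R Γ(E.curve.left, ⊤) r * x) = algebraMap R K r * θ x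
        exact (map_mul θ _ _).trans (congrArg (· * θ x) (hθR r)) } : Γ(E.curve.left, ⊤) ≃ₗ[R] K).length_eq.symm
  haveI : IsProper (Over.mk (f ≫ Y.hom)).hom := inferInstanceAs (IsProper (f ≫ Y.hom))
  haveI := isProper_over (X := Over.mk (f ≫ Y.hom)) E
  haveI : Module.Finite k Γ(E.curve.left, ⊤) := Crv77.finite_top k E.curve.left E.dim_eq.le
  rw [hlen, Module.length_eq_finrank k Γ(E.curve.left, ⊤)]
  exact congrArg _ (Crv77.secAlg k E.curve.left).finrank_eq.symm

end Groth.Agent.ArS10
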