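import Groth.Agent.ArS10.Kernel
import Groth.Agent.ArS10.Birat

/-!
Curves contracted by a birational morphism onto a normal surface form a negative definite configuration.
-/

set_option autoImplicit false
set_option linter.style.haveILetI false
set_option backward.isDefEq.respectTransparency.types false

universe u

open CategoryTheory CategoryTheory.Limits AlgebraicGeometry TopologicalSpace Opposite
open scoped nonZeroDivisors

noncomputable section

namespace Groth.Agent.ArS10

variable {R : Type u} [CommRing R] [IsDomain R] [IsDiscreteValuationRing R]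
  {X Y : Over (Spec (CommRingCat.of R))}

/-- The image of a contracted curve is not isolated in the closed fibre. -/
theorem exists_fibre_generization (hX : IsSurf R X) [IsIntegral Y.left] [Flat Y.hom] [IsProper Y.hom]
    (hnor : ∀ q : Y.left, IsIntegrallyClosed (Y.left.presheaf.stalk q)) (f : X ⟶ Y)
    (U : Y.left.Opens) (hU : (U : Set Y.left).Nonempty) [IsIso (f.left ∣_ U)]
    (Γ : ArSurf.VertComp R X) (y : Y.left) (hΓy : ∀ c, f.left.base (Γ.ι.base c) = y) :
    ∃ y' ∈ Models.specialFibreSet R Y, y' ≠ y ∧ y' ⤳ y := by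
  haveI := hX.2.1
  obtain ⟨c, hc⟩ := exists_specialization Γ
  have hyF : y ∈ Models.specialFibreSet R Y := by
    show Y.hom.base y = _
    rw [← hΓy c, ← Scheme.Hom.comp_apply, Over.w f]
    exact range_subset_fibre Γ ⟨c, rfl⟩
  by_contra hcon
  simp only [not_exists, not_and] at hcon
  have hmax : ModPic.IsFibreMax Y.hom y := ⟨hyF, fun w hw hwy => by_contra fun hne => hcon w hw hne hwy⟩
  have hdim := ModPic.dim_stalk_fibreMax Y.hom hmax
  haveI := LocallyOfFiniteType.isLocallyNoetherian Y.hom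
  let A := Y.left.presheaf.stalk y
  have hnf : ¬ IsField A := fun h => by
    rw [ringKrullDim_eq_zero_of_isField h] at hdim
    exact absurd hdim (by norm_num)
  have hdvr : IsDiscreteValuationRing A := by
    have h3 : IsIntegrallyClosed A ∧ ∃! P : Ideal A, P ≠ ⊥ ∧ P.IsPrime := by
      refine ⟨hnor y, IsLocalRing.maximalIdeal A,
        ⟨fun hb => hnf (IsLocalRing.isField_iff_maximalIdeal_eq.mpr hb), (IsLocalRing.maximalIdeal.isMaximal A).isPrime⟩,
        fun P ⟨hP, hPp⟩ => ?_⟩
      have : Ring.KrullDimLE 1 A := Ring.krullDimLE_iff.mpr hdim.le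
      exact IsLocalRing.eq_maximalIdeal (Ring.krullDimLE_one_iff_of_noZeroDivisors.mp this P hP hPp)
    exact ((IsDiscreteValuationRing.TFAE A hnf).out 0 3).mpr h3
  refine hc (Γ.ι.isClosedEmbedding.injective ?_).symm.symm
  refine (eq_of_specializes_of_dvr f.left U hU ((genericPoint_specializes c).map Γ.ι.continuous)
    (by rw [hΓy, hΓy]) ?_).symm
  rw [hΓy c]
  exact ⟨inferInstance, hdvr⟩

theorem negDef_of_contracted (hX : IsSurf R X) [IsIntegral Y.left] [Flat Y.hom] [IsProper Y.hom]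
    (hnor : ∀ q : Y.left, IsIntegrallyClosed (Y.left.presheaf.stalk q)) (f : X ⟶ Y)
    (hbir : ∃ U : Y.left.Opens, (U : Set Y.left).Nonempty ∧ IsIso (f.left ∣_ U)) (y : Y.left)
    {r : ℕ} (Γ : Fin r → ArSurf.VertComp R X)
    (hdist : Function.Injective fun i => Set.range (Γ i).ι.base)
    (hΓy : ∀ i c, f.left.base ((Γ i).ι.base c) = y) (L : Fin r → X.left.Modules)
    (hL : ∀ j, ClSub.IsInverseOf (L j) (ClSub.idealMod (Γ j).ι.ker)) (x : Fin r → ℤ) (hx : x ≠ 0) :
    (Finset.univ : Finset (Fin r × Fin r)).sum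
      (fun p => x p.1 * x p.2 * ArSurf.inter R X (L p.2) (Γ p.1)) < 0 := by
  classical
  haveI := hX.2.1
  haveI := hX.2.2.2.1
  haveI := hX.2.2.2.2
  obtain ⟨U, hU, hiso⟩ := hbir
  obtain ⟨i₀, hi₀⟩ : ∃ i, x i ≠ 0 := by
    by_contra h
    exact hx (funext fun i => by_contra fun hi => h ⟨i, hi⟩)
  haveI hfp : IsProper f.left := by
    haveI : IsProper (f.left ≫ Y.hom) := by rw [Over.w f]; infer_instance
    exact IsProper.of_comp f.left Y.hom
  by_contra hnn
  rw [not_lt] at hnn
  obtain ⟨J, LJ, hJ, hLJ, hFJ, hgen, hrel⟩ := relation hX Γ hdist L hL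
  let M : Fin r → Fin r → ℚ := fun i j => (ArSurf.inter R X (L j) (Γ i) : ℚ)
  let d : Fin r → ℚ := fun i => (Models.mult R X (Γ i) : ℚ)
  let z : Fin r → ℚ := fun i => (x i : ℚ) / d i
  have hd : ∀ i, 0 < d i := fun i => Nat.cast_pos.2 (mult_pos hX (Γ i))
  have hM : ∀ i j, i ≠ j → 0 ≤ M i j := fun i j hij => by
    simp only [M]
    exact_mod_cast offDiag_nonneg hX (hL j) fun e => hij (hdist e)
  have hrow : ∀ i, ∑ j, M i j * d j ≤ 0 := rowSum_nonpos hX Γ hdist L hL
  have h0 : (0 : ℚ) ≤ ∑ i, ∑ j, (x i : ℚ) * x j * M i j := by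
    rw [← Finset.sum_product' (f := fun i j => (x i : ℚ) * x j * M i j), Finset.univ_product_univ]
    have := (Int.cast_le (R := ℚ)).2 hnn
    push_cast at this
    exact this
  rw [form_eq hX Γ hdist L hL fun i => (x i : ℚ)] at h0
  have hA : ∀ i, z i ^ 2 * d i * (∑ j, M i j * d j) ≤ 0 := fun i =>
    mul_nonpos_of_nonneg_of_nonpos (mul_nonneg (sq_nonneg _) (hd i).le) (hrow i)
  have hB : ∀ i j, 0 ≤ M i j * d i * d j * (z i - z j) ^ 2 := fun i j => by
    rcases eq_or_ne i j with rfl | hij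
    · simp
    · exact mul_nonneg (mul_nonneg (mul_nonneg (hM i j hij) (hd i).le) (hd j).le) (sq_nonneg _)
  have hA0 : ∑ i, z i ^ 2 * d i * (∑ j, M i j * d j) ≤ 0 := Finset.sum_nonpos fun i _ => hA i
  have hB0 : 0 ≤ ∑ i, ∑ j, M i j * d i * d j * (z i - z j) ^ 2 :=
    Finset.sum_nonneg fun i _ => Finset.sum_nonneg fun j _ => hB i j
  have hA1 : ∀ i, z i ^ 2 * d i * (∑ j, M i j * d j) = 0 := fun i =>
    (Finset.sum_eq_zero_iff_of_nonpos fun i _ => hA i).1 (by linarith) i (Finset.mem_univ i)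
  have hB1 : ∀ i j, M i j * d i * d j * (z i - z j) ^ 2 = 0 := fun i j =>
    (Finset.sum_eq_zero_iff_of_nonneg fun j _ => hB i j).1
      ((Finset.sum_eq_zero_iff_of_nonneg fun i _ => Finset.sum_nonneg fun j _ => hB i j).1
        (by linarith) i (Finset.mem_univ i)) j (Finset.mem_univ j)
  have hz : ∀ i, x i ≠ 0 → z i ≠ 0 := fun i hi => div_ne_zero (Int.cast_ne_zero.2 hi) (hd i).ne'
  -- the support of `x` is separated from the rest of the fibre
  have hJdis : ∀ i, x i ≠ 0 → Disjoint (Set.range (Γ i).ι.base) (J.support : Set X.left) := fun i hi => by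
    refine (inter_eq_zero_iff (Γ i) hJ (hgen i) hLJ).1 ?_
    have h1 : ∑ j, M i j * d j = 0 :=
      (mul_eq_zero.1 (hA1 i)).resolve_left (mul_ne_zero (pow_ne_zero 2 (hz i hi)) (hd i).ne')
    have h2 : ∑ j, (Models.mult R X (Γ j) : ℤ) * ArSurf.inter R X (L j) (Γ i) = 0 := by
      have h3 : ((∑ j, (Models.mult R X (Γ j) : ℤ) * ArSurf.inter R X (L j) (Γ i) : ℤ) : ℚ) = 0 := by
        push_cast
        exact (Finset.sum_congr rfl fun j _ => mul_comm _ _).trans h1
      exact_mod_cast h3
    have := hrel (Γ i)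
    omega
  have hdis : ∀ i j, x i ≠ 0 → x j = 0 → Disjoint (Set.range (Γ i).ι.base) (Set.range (Γ j).ι.base) := by
    intro i j hi hj
    have hij : i ≠ j := fun e => hi (e ▸ hj)
    have hne : Set.range (Γ i).ι.base ≠ Set.range (Γ j).ι.base := fun e => hij (hdist e)
    have hzj : z j = 0 := by simp [z, hj]
    have h1 := hB1 i j
    rw [hzj, sub_zero] at h1
    have h2 : M i j = 0 := by
      by_contra h
      exact mul_ne_zero (mul_ne_zero (mul_ne_zero h (hd i).ne') (hd j).ne') (pow_ne_zero 2 (hz i hi)) h1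
    have h3 := (inter_eq_zero_iff (Γ i) (isEffCartier hX (Γ j)) (notMem_support hX hne) (hL j)).1
      (by simpa [M] using h2)
    exact h3.mono_right (ModPic.support_cI (p := X.hom) (Γ j)).ge
  let T : Set X.left := ⋃ i ∈ {i | x i ≠ 0}, Set.range (Γ i).ι.base
  let T' : Set X.left := (J.support : Set X.left) ∪ ⋃ i ∈ {i | x i = 0}, Set.range (Γ i).ι.base
  have hTcl : IsClosed T := (Set.toFinite _).isClosed_biUnion fun i _ => (Γ i).ι.isClosedEmbedding.isClosed_range
  have hT'cl : IsClosed T' := J.support.isClosed.union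
    ((Set.toFinite _).isClosed_biUnion fun i _ => (Γ i).ι.isClosedEmbedding.isClosed_range)
  have hTT' : ∀ a ∈ T, a ∉ T' := by
    intro a ha ha'
    obtain ⟨i, hi, hai⟩ := Set.mem_iUnion₂.1 ha
    rcases ha' with ha' | ha'
    · exact Set.disjoint_left.1 (hJdis i hi) hai ha'
    · obtain ⟨j, hj, haj⟩ := Set.mem_iUnion₂.1 ha'
      exact Set.disjoint_left.1 (hdis i j hi hj) hai haj
  have hcover : ∀ a ∈ Models.specialFibreSet R X, a ∈ T ∪ T' := by
    intro a ha
    by_contra hn
    simp only [T, T', Set.mem_union, Set.mem_iUnion, Set.mem_setOf_eq, not_or, not_exists] at hn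
    obtain ⟨hn1, hnJ, hn2⟩ := hn
    have hmem : a ∈ (ModPic.fIdeal X.hom).support := by
      rw [← SetLike.mem_coe, ModPic.support_specialFibreIdeal]
      exact ha
    refine (Div89.notMem_support_iff_stalkIdeal _ _).2 ?_ hmem
    have hi : ∀ i, Div89.stalkIdeal (Γ i).ι.ker a = ⊤ := fun i =>
      (Div89.notMem_support_iff_stalkIdeal _ _).1 fun h => by
        by_cases hx0 : x i = 0
        · exact hn2 i hx0 ((ModPic.support_cI (p := X.hom) (Γ i)).le h)
        · exact hn1 i hx0 ((ModPic.support_cI (p := X.hom) (Γ i)).le h)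
    rw [hFJ, Div89.stalkIdeal_mul, (Div89.notMem_support_iff_stalkIdeal _ _).1 hnJ, Ideal.top_mul,
      Div89.stalkIdeal_prod]
    refine (Finset.prod_congr rfl fun i _ => ?_).trans ((Finset.prod_const_one (s := Finset.univ)).trans Ideal.one_eq_top)
    rw [Div89.stalkIdeal_pow, hi, ← Ideal.one_eq_top, one_pow]
  have hfib : ∀ a : X.left, Y.hom.base (f.left.base a) = X.hom.base a := fun a => by
    rw [← Scheme.Hom.comp_apply, Over.w f]
  -- a second point of the closed fibre of `Y` generalizing `y`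
  obtain ⟨y', hy'F, hy'ne, hy'y⟩ := exists_fibre_generization hX hnor f U hU (Γ i₀) y (hΓy i₀)
  obtain ⟨a', ha'⟩ := surjective_of_birational f.left U hU y'
  obtain ⟨a, haa', ha⟩ := hy'y.mem_closed (f.left.isClosedMap _ (isClosed_closure (s := ({a'} : Set X.left))))
    ⟨a', subset_closure rfl, ha'⟩
  have ha'F : a' ∈ Models.specialFibreSet R X := by
    show X.hom.base a' = _
    rw [← hfib, ha']
    exact hy'F
  have ha'T : a' ∈ T' := (hcover a' ha'F).resolve_left fun h => by
    obtain ⟨i, -, c, rfl⟩ := Set.mem_iUnion₂.1 h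
    exact hy'ne (ha'.symm.trans (hΓy i c))
  have haT' : a ∈ T' := closure_minimal (Set.singleton_subset_iff.2 ha'T) hT'cl haa'
  obtain ⟨b, -, hb, hb'⟩ := isPreconnected_closed_iff.1 (isPreconnected_preimage f.left U hU hnor y) T T' hTcl hT'cl
    (fun b hb => hcover b (by
      have hb : f.left.base b = y := hb
      show X.hom.base b = _
      rw [← hfib, hb, ← hΓy i₀ (genericPoint _), hfib]
      exact range_subset_fibre (Γ i₀) (Set.mem_range_self _)))
    ⟨(Γ i₀).ι.base (genericPoint _), hΓy i₀ _, Set.mem_biUnion hi₀ (Set.mem_range_self _)⟩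
    ⟨a, ha, haT'⟩
  exact hTT' b hb hb'

end Groth.Agent.ArS10
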