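import Groth.Agent.ArS10.BiratFactor
import Groth.Agent.ArS10.ExcNum
import Groth.Agent.ArS10.ExcVert
import Groth.Agent.ArS10.NegDef
import Groth.Agent.ArS10.CompList
import Groth.Agent.An92.Ample.Inverse

/-!
Two exceptional curves contracted by a birational morphism onto a normal surface are disjoint.
-/

set_option autoImplicit false
set_option linter.style.haveILetI false
set_option backward.isDefEq.respectTransparency.types false

universe u

open CategoryTheory CategoryTheory.Limits AlgebraicGeometry TopologicalSpace IsLocalRing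

noncomputable section

namespace Groth.Agent.ArS10

/-- The functions on an exceptional curve form a field. -/
theorem isField_top_of_isExcCurve {E Y : Scheme.{u}} {ι : E ⟶ Y} (hE : Models.IsExcCurve ι) :
    IsField Γ(E, ⊤) := by
  obtain ⟨-, k, hk, e, -⟩ := hE
  haveI : IsIso (Scheme.Hom.appTop e.hom) := (Scheme.Γ.mapIso e.op).isIso_hom
  haveI := S0024.result 1 k
  have hiK : Function.Bijective (Coh.toGlobal (CohB1.ProjSpace.toSpec 1 k)) :=
    (ConcreteCategory.bijective_of_isIso (CohB1.ProjSpace.toSpec 1 k).appTop).comp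
      (ConcreteCategory.bijective_of_isIso (Scheme.ΓSpecIso (CommRingCat.of k)).inv)
  let θ : Γ(E, ⊤) →+* k :=
    (RingEquiv.ofBijective _ hiK).symm.toRingHom.comp e.hom.appTop.hom
  have hθb : Function.Bijective θ :=
    (RingEquiv.ofBijective _ hiK).symm.bijective.comp (ConcreteCategory.bijective_of_isIso e.hom.appTop)
  exact MulEquiv.isField (Field.toIsField k) (RingEquiv.ofBijective θ hθb).toMulEquiv

variable {R : Type u} [CommRing R] [IsDomain R] [IsDiscreteValuationRing R]
  {X : Over (Spec (CommRingCat.of R))}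

/-- When the functions on a vertical curve form a field, their degree divides that of every `H^0`. -/
theorem wdeg_dvd_finrank (Γ : ArSurf.VertComp R X) (hF : IsField Γ(cC Γ, ⊤)) (M : (cC Γ).Modules) :
    Models.wdeg R X Γ ∣ Module.finrank (kk R) (Coh.HH (cC Γ) M 0) := by
  letI := Crv77.topAlg (kk R) (cC Γ)
  letI := hF.toField
  letI : Module (kk R) Γ(M, ⊤) :=
    Module.compHom Γ(M, ⊤) (algebraMap (kk R) Γ(cC Γ, ⊤))
  haveI : IsScalarTower (kk R) Γ(cC Γ, ⊤) Γ(M, ⊤) :=
    IsScalarTower.of_algebraMap_smul fun _ _ => rfl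
  have e : Coh.HH (cC Γ) M 0 ≃ₗ[kk R] Γ(M, ⊤) :=
    { Crv77.sec M with map_smul' := fun a x => Crv77.sec_smul (kk R) M a x }
  refine ⟨Module.finrank Γ(cC Γ, ⊤) Γ(M, ⊤), ?_⟩
  rw [e.finrank_eq, Models.wdeg, (Crv77.secAlg (kk R) (cC Γ)).finrank_eq, Module.finrank_mul_finrank]

/-- Two distinct exceptional curves contracted to a point of a normal surface are disjoint. -/
theorem disjoint_of_exc (hX : IsSurf R X) {Y : Over (Spec (CommRingCat.of R))} [IsIntegral Y.left]
    [Flat Y.hom] [IsProper Y.hom] (hnor : ∀ q : Y.left, IsIntegrallyClosed (Y.left.presheaf.stalk q))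
    (f : X ⟶ Y) (hbir : ∃ U : Y.left.Opens, (U : Set Y.left).Nonempty ∧ IsIso (f.left ∣_ U))
    (A B : ArSurf.VertComp R X) (hne : Set.range A.ι.base ≠ Set.range B.ι.base)
    (hA : Models.IsExcCurve A.ι) (hB : Models.IsExcCurve B.ι) (y : Y.left)
    (hAy : ∀ c, f.left.base (A.ι.base c) = y) (hBy : ∀ c, f.left.base (B.ι.base c) = y) :
    Disjoint (Set.range A.ι.base) (Set.range B.ι.base) := by
  haveI := hX.2.2.2.2
  haveI := hX.2.2.2.1
  haveI := hX.2.1
  have hDA := isEffCartier hX A
  have hDB := isEffCartier hX B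
  obtain ⟨LA, -, ⟨eA⟩⟩ := An92.InvMod.exists_inverse ((Curves2.isInvertible_idealMod_iff _).2 hDA)
  obtain ⟨LB, -, ⟨eB⟩⟩ := An92.InvMod.exists_inverse ((Curves2.isInvertible_idealMod_iff _).2 hDB)
  have hLA : ClSub.IsInverseOf LA (ClSub.idealMod A.ι.ker) := ⟨eA⟩
  have hLB : ClSub.IsInverseOf LB (ClSub.idealMod B.ι.ker) := ⟨eB⟩
  have hgAB := notMem_support hX hne
  have hgBA := notMem_support hX (Ne.symm hne)
  have hz : ArSurf.inter R X LB A = 0 := by
    by_contra hn
    have hfA := (curveCoh A).finite _ (Crv77.isCoh_quotMod (cut A B.ι.ker)) 0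
    have hfB := (curveCoh B).finite _ (Crv77.isCoh_quotMod (cut B A.ι.ker)) 0
    have hsym : Module.finrank (kk R) (Coh.HH (cC A) (ClSub.quotMod (cut A B.ι.ker)) 0) =
        Module.finrank (kk R) (Coh.HH (cC B) (ClSub.quotMod (cut B A.ι.ker)) 0) := by
      rw [← lengthH_inf A hfA, ← lengthH_inf B hfB, sup_comm]
    set n := Module.finrank (kk R) (Coh.HH (cC A) (ClSub.quotMod (cut A B.ι.ker)) 0) with hndef
    have h1 : ArSurf.inter R X LB A = n := inter_eq_h0 A hDB hgAB hLB
    have h2 : ArSurf.inter R X LA B = n := by rw [inter_eq_h0 B hDA hgBA hLA, hsym]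
    have hn0 : 0 < n := Nat.pos_of_ne_zero fun h => hn (by rw [h1, h, Nat.cast_zero])
    have hwA : Models.wdeg R X A ≤ n := Nat.le_of_dvd hn0 (wdeg_dvd_finrank A (isField_top_of_isExcCurve hA) _)
    have hwB : Models.wdeg R X B ≤ n := Nat.le_of_dvd hn0 (hsym ▸ wdeg_dvd_finrank B (isField_top_of_isExcCurve hB) _)
    have hneg := negDef_of_contracted hX hnor f hbir y ![A, B]
      (fun i j h => by
        fin_cases i <;> fin_cases j
        · rfl
        · exact absurd h hne
        · exact absurd (Eq.symm h) hne
        · rfl)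
      (fun i => by fin_cases i; exacts [hAy, hBy]) ![LA, LB]
      (fun i => by fin_cases i; exacts [hLA, hLB]) (fun _ => (1 : ℤ))
      (fun h => one_ne_zero (congrFun h 0))
    rw [← Finset.univ_product_univ, Finset.sum_product] at hneg
    simp only [Fin.sum_univ_two, Matrix.cons_val_zero, Matrix.cons_val_one, one_mul] at hneg
    rw [(h1_inter_of_isExcCurve R X A hA LA hLA).2, (h1_inter_of_isExcCurve R X B hB LB hLB).2, h1, h2] at hneg
    omega
  exact ((inter_eq_zero_iff A hDB hgAB hLB).1 hz).mono_right (ModPic.support_cI (p := X.hom) B).ge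

/-- An exceptional curve in the closed fibre is a vertical prime divisor. -/
theorem exists_vertComp {E : Scheme.{u}} (ι : E ⟶ X.left) [IsClosedImmersion ι] (hE : Models.IsExcCurve ι)
    (hpt : ∀ c, X.hom.base (ι.base c) = closedPoint R) :
    ∃ A : ArSurf.VertComp R X, Models.IsExcCurve A.ι ∧ Set.range A.ι.base = Set.range ι.base := by
  obtain ⟨hD, k, hk, e, hτ⟩ := id hE
  haveI : IsIntegral (CohB1.ProjSpace 1 k) := Curves2.ProjLine.isIntegral k 1
  haveI : Nonempty E := ⟨e.hom.base (Classical.arbitrary _)⟩
  haveI : IsIntegral E := isIntegral_of_isOpenImmersion e.inv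
  haveI : IsClosedImmersion (Spec.map (CommRingCat.ofHom (IsLocalRing.residue R))) :=
    IsClosedImmersion.spec_of_surjective _ IsLocalRing.residue_surjective
  have hle : (Spec.map (CommRingCat.ofHom (IsLocalRing.residue R))).ker ≤ (ι ≫ X.hom).ker := by
    rw [Units47.ker_specMap, IsLocalRing.ker_residue, Scheme.Hom.ker_comp,
      ker_eq_vanishingIdeal_range ι, Scheme.IdealSheafData.le_map_iff_comap_le]
    refine Scheme.IdealSheafData.le_support_iff_le_vanishingIdeal.1 ?_
    refine (closure_minimal ?_ (Closeds.isClosed _))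
    rintro _ ⟨c, rfl⟩
    exact (ModPic.support_specialFibreIdeal X.hom).ge (hpt c)
  have hd : topologicalKrullDim E = 1 := by
    rw [← e.hom.homeomorph.isHomeomorph.topologicalKrullDim_eq]
    exact_mod_cast S10829.result k 1
  exact ⟨{ curve := Over.mk (IsClosedImmersion.lift _ (ι ≫ X.hom) hle)
           ι := ι
           isClosedImmersion := ‹IsClosedImmersion ι›
           isIntegral := (‹IsIntegral E› : IsIntegral E)
           dim_eq := hd
           w := (IsClosedImmersion.lift_fac _ _ hle).symm }, hE, rfl⟩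

/-- A surface mapped birationally onto a flat surface, with a vertical curve, is a surface. -/
theorem isSurf_of_regSurf [IsProper X.hom] (hX : IsRegSurf X.left) {Y : Over (Spec (CommRingCat.of R))}
    [IsIntegral Y.left] [Flat Y.hom] (f : X ⟶ Y)
    (hbir : ∃ U : Y.left.Opens, (U : Set Y.left).Nonempty ∧ IsIso (f.left ∣_ U))
    (A : ArSurf.VertComp R X) : IsSurf R X := by
  obtain ⟨U, hU, hiso⟩ := hbir
  haveI := hX.1
  have hgen : X.hom.base (genericPoint X.left) ≠ closedPoint R := by
    rw [← Over.w f, Scheme.Hom.comp_apply, map_genericPoint f.left U hU]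
    exact fun h => genericPoint_notMem_fibre (X := Y) h
  haveI hflat : Flat X.hom := by
    refine (FlatMor68.DedekindFlat.flat_iff_nzd X.hom fun p => ⟨inferInstance, by
        haveI : IsPrincipalIdealRing (Localization.AtPrime p.asIdeal) := by
          by_cases hb : p.asIdeal = ⊥
          · have hf : IsField (Localization.AtPrime p.asIdeal) := by
              rw [IsLocalRing.isField_iff_maximalIdeal_eq, ← Localization.AtPrime.map_eq_maximalIdeal]
              simp [hb]
            exact hf.isPrincipalIdealRing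
          · haveI := IsLocalization.AtPrime.isDiscreteValuationRing_of_dedekind_domain R hb
              (Localization.AtPrime p.asIdeal)
            infer_instance
        let e : Localization.AtPrime p.asIdeal ≃+* (Spec (CommRingCat.of R)).presheaf.stalk p :=
          (IsLocalization.algEquiv p.asIdeal.primeCompl (Localization.AtPrime p.asIdeal)
            ((Spec.structureSheaf R).presheaf.stalk p)).toRingEquiv
        exact IsPrincipalIdealRing.of_surjective e.toRingHom e.surjective⟩).2
      fun x a ha => FlatMor68.DedekindFlat.nzd_of_reduced X.hom x a fun z hz hzmax => ?_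
    have hzg : z = genericPoint X.left := (hzmax _ (genericPoint_specializes z)).symm
    refine FlatMor68.DedekindFlat.isUnit_spec_generic (hz.map X.hom.continuous) (fun w hw => ?_) a ha
    subst hzg
    have hb : ∀ p : PrimeSpectrum R, p ≠ closedPoint R → p.asIdeal = ⊥ := fun p hp => by_contra fun h =>
      hp (PrimeSpectrum.ext (IsLocalRing.eq_maximalIdeal (Ideal.IsPrime.isMaximal p.isPrime h)))
    refine PrimeSpectrum.ext ((hb _ hgen).symm ▸ le_bot_iff.1 ?_)
    exact (show w.asIdeal ≤ (X.hom.base (genericPoint X.left)).asIdeal from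
      (PrimeSpectrum.le_iff_specializes _ _).2 hw).trans (hb _ hgen).le
  refine ⟨hX.2.2.1, inferInstance, le_antisymm hX.dim_le ?_, hflat, inferInstance⟩
  obtain ⟨c, hc⟩ := exists_specialization A
  let q : X.left → IrreducibleCloseds X.left := fun x =>
    ⟨closure {x}, isIrreducible_singleton.closure, isClosed_closure⟩
  let s : LTSeries (IrreducibleCloseds X.left) :=
    ((RelSeries.singleton _ (q (A.ι.base c))).snoc (q (A.ι.base (genericPoint A.curve.left)))
      (closure_lt ((genericPoint_specializes c).map A.ι.continuous)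
        fun e => hc (A.ι.isClosedEmbedding.injective e))).snoc (q (genericPoint X.left))
      (by rw [RelSeries.last_snoc]
          exact closure_lt (genericPoint_specializes _) fun e =>
            genericPoint_notMem_fibre (X := X) (e ▸ range_subset_fibre A (Set.mem_range_self _)))
  exact Order.LTSeries.length_le_krullDim s

end Groth.Agent.ArS10
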