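import Groth.Agent.Crv77.TwistSection
import Groth.Agent.Crv77.PointTwist
import Groth.Agent.ValVan29.PushTwist
import Groth.Agent.Coh69.AffinePush
import Groth.Agent.HypSq53.GraphDiv
import Groth.Agent.Amp73.PullTensor
import Groth.Agent.Omega57.Diag
import Groth.Agent.Curves2.IdealFrame
import Groth.Agent.S5195

/-!
Restriction sequences of invertible modules to closed subschemes, vanishing and generation.
-/

set_option autoImplicit false
set_option linter.style.haveILetI false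
set_option backward.isDefEq.respectTransparency.types false

universe u

open CategoryTheory CategoryTheory.Limits AlgebraicGeometry TopologicalSpace Opposite
open Groth.Agent.Var76.LineBundle Groth.Agent.Var76.ZeroScheme
open Groth.Agent.Amp73 (tm)

noncomputable section

namespace Groth.Agent.ArS10

variable {X : Scheme.{u}}

/-- A map sending a frame to a frame preserves the locus of generation. -/
theorem mem_genLocus_comp_iff {A B : X.Modules} (s : Coh.structureModule X ⟶ A) (φ : A ⟶ B) {U : X.Opens}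
    {e : Γ(A, U)} (he : IsFrame A U e) (he' : IsFrame B U (φ.app U e)) {x : X} (hx : x ∈ U) :
    x ∈ CohB1.genLocus B (s ≫ φ) ↔ x ∈ CohB1.genLocus A s := by
  obtain ⟨c, hc⟩ := Amp73.exists_coord s he
  have hc' : c • φ.app U e = val B (s ≫ φ) U := by
    rw [← Scheme.Modules.Hom.app_smul, hc]
    rfl
  have h1 := Amp73.genLocus_inf_eq_basicOpen s he hc
  have h2 := Amp73.genLocus_inf_eq_basicOpen (s ≫ φ) he' hc'
  exact ⟨fun h => (h1.ge (h2.le ⟨h, hx⟩)).1, fun h => (h2.ge (h1.le ⟨h, hx⟩)).1⟩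

/-- The inclusion `I ⊗ F ⟶ F`. -/
def twistIncl (I : X.IdealSheafData) {F : X.Modules} (hF : PicF.IsInvertible F) :
    CohB1.tensorMod (ClSub.idealMod I) F ⟶ F :=
  haveI := Crv77.isIso_unitTm hF
  Crv77.twistMap (ClSub.idealModι I) F ≫ inv (Crv77.unitTm F)

/-- The sequence `0 → I ⊗ F → F → (O/I) ⊗ F → 0`. -/
theorem exists_restrictSeq (I : X.IdealSheafData) {F : X.Modules} (hF : PicF.IsInvertible F) :
    ∃ h : twistIncl I hF ≫ Crv77.valueAt I F = 0,
      (ShortComplex.mk (twistIncl I hF) (Crv77.valueAt I F) h).ShortExact := by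
  haveI := Crv77.isIso_unitTm hF
  obtain ⟨h0, h1⟩ := Crv77.exists_tR_shortExact (O := X.sheaf) F
    (Crv77.locally_flat_of_rank_one (Mero90.isFinLocFreeOfRank_of_isInvertible hF)) (Crv77.idealSeq_shortExact I)
  refine ⟨?_, ?_⟩
  · exact (Category.assoc _ _ _).trans ((congrArg (_ ≫ ·) (IsIso.inv_hom_id_assoc _ _)).trans h0)
  · exact Crv77.shortExact_middle_iso (Crv77.twistMap (ClSub.idealModι I) F) (Crv77.twistMap (ClSub.toSubscheme I) F)
      h0 h1 (Crv77.unitTm F) _

/-- The last term as a direct image. -/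
theorem nonempty_restrict_iso {Z : Scheme.{u}} (ι : Z ⟶ X) [IsClosedImmersion ι] {F : X.Modules}
    (hF : PicF.IsInvertible F) :
    Nonempty (CohB1.tensorMod (ClSub.quotMod ι.ker) F ≅
      (Scheme.Modules.pushforward ι).obj ((Scheme.Modules.pullback ι).obj F)) := by
  obtain ⟨q⟩ := HypSq53.nonempty_quotMod_iso ι
  haveI := Crv77.isIso_unitTm (Amp73.isInvertible_pullback ι hF)
  exact ⟨EGA73.tensIso q.symm (Iso.refl F) ≪≫ ValVan29.projIso ι (Coh.structureModule Z) F hF ≪≫
    (Scheme.Modules.pushforward ι).mapIso (asIso (Crv77.unitTm ((Scheme.Modules.pullback ι).obj F))).symm⟩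

/-- Vanishing of `H^q` on the divisor and of the twisted sheaf gives vanishing of `H^q`. -/
theorem subsingleton_hh_of_restrict {Z : Scheme.{u}} (ι : Z ⟶ X) [IsClosedImmersion ι] {F : X.Modules}
    (hF : PicF.IsInvertible F) (q : ℕ)
    (h₁ : Subsingleton (Coh.HH X (CohB1.tensorMod (ClSub.idealMod ι.ker) F) q))
    (h₃ : Subsingleton (Coh.HH Z ((Scheme.Modules.pullback ι).obj F) q)) :
    Subsingleton (Coh.HH X F q) := by
  letI : X.Over (Spec (CommRingCat.of Γ(X, ⊤))) := ⟨X.toSpecΓ⟩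
  let A := Γ(X, ⊤)
  obtain ⟨h, hS⟩ := exists_restrictSeq ι.ker hF
  obtain ⟨r⟩ := nonempty_restrict_iso ι hF
  haveI : ((Scheme.Modules.pullback ι).obj F).IsQuasicoherent :=
    Mero90.isQCoh_of_isInvertible (Amp73.isInvertible_pullback ι hF)
  obtain ⟨p⟩ := Coh69.nonempty_hh_push ι ((Scheme.Modules.pullback ι).obj F) q
  have h3 : Subsingleton (Coh.HH X (CohB1.tensorMod (ClSub.quotMod ι.ker) F) q) :=
    ((Crv77.hEquiv A r q).toAddEquiv.trans p.symm).toEquiv.subsingleton
  have hex := Crv77.exact_f_g A hS q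
  refine ⟨fun x y => ?_⟩
  obtain ⟨x', hx⟩ := (hex x).1 (Subsingleton.elim _ _)
  obtain ⟨y', hy⟩ := (hex y).1 (Subsingleton.elim _ _)
  rw [← hx, ← hy, Subsingleton.elim x' y']

/-- Sections lift from the divisor when `H^1` of the twisted sheaf vanishes. -/
theorem surjective_valueAt (I : X.IdealSheafData) {F : X.Modules} (hF : PicF.IsInvertible F)
    (h₁ : Subsingleton (Coh.HH X (CohB1.tensorMod (ClSub.idealMod I) F) 1)) :
    Function.Surjective ((Crv77.valueAt I F).app ⊤) := by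
  letI : X.Over (Spec (CommRingCat.of Γ(X, ⊤))) := ⟨X.toSpecΓ⟩
  let A := Γ(X, ⊤)
  obtain ⟨h, hS⟩ := exists_restrictSeq I hF
  intro z
  obtain ⟨x, hx⟩ := (Crv77.exact_g_δ A hS 0 ((Crv77.sec (CohB1.tensorMod (ClSub.quotMod I) F)).symm z)).1
    (Subsingleton.elim (α := Coh.HH X (CohB1.tensorMod (ClSub.idealMod I) F) 1) _ _)
  refine ⟨Crv77.sec F x, ?_⟩
  rw [← Crv77.sec_hmap A (Crv77.valueAt I F) x,
    show Crv77.hmap A (Crv77.valueAt I F) 0 x = _ from hx, AddEquiv.apply_symm_apply]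

/-- The value at a closed point of the divisor factors through the restriction. -/
theorem exists_factor_valueAt (I : X.IdealSheafData) {x : X} (hx : IsClosed ({x} : Set X)) (hxI : x ∈ I.support)
    (F : X.Modules) :
    ∃ g : CohB1.tensorMod (ClSub.quotMod I) F ⟶
        CohB1.tensorMod (ClSub.quotMod (Scheme.IdealSheafData.vanishingIdeal ⟨{x}, hx⟩)) F,
      Crv77.valueAt (Scheme.IdealSheafData.vanishingIdeal ⟨{x}, hx⟩) F = Crv77.valueAt I F ≫ g := by
  have hle : I ≤ Scheme.IdealSheafData.vanishingIdeal (⟨{x}, hx⟩ : Closeds X) :=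
    Scheme.IdealSheafData.le_support_iff_le_vanishingIdeal.1 (Set.singleton_subset_iff.2 hxI)
  have h1 : ClSub.idealModι I ≫ ClSub.toSubscheme (Scheme.IdealSheafData.vanishingIdeal ⟨{x}, hx⟩) = 0 := by
    refine Scheme.Modules.hom_ext _ _ fun U => ?_
    ext s
    refine eq_of_locally _ _ _ fun y hy => ?_
    obtain ⟨V, hV, hyV, hVU⟩ := exists_isAffineOpen_mem_and_subset (x := y) (U := U) hy
    refine ⟨V, hVU, hyV, ?_⟩
    rw [← Mero90.app_res, ← Mero90.app_res]
    refine Eq.trans ?_ (by rfl : (0 : Γ(ClSub.quotMod _, V)) = _)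
    have hs : (show Γ(X, V) from OmegaSh.idealSect I V (res _ hVU s)) ∈
        (Scheme.IdealSheafData.vanishingIdeal (⟨{x}, hx⟩ : Closeds X)).ideal ⟨V, hV⟩ :=
      hle ⟨V, hV⟩ (Curves2.idealSect_mem_ideal I ⟨V, hV⟩ _)
    exact (Crv77.toSubscheme_eq_zero_iff _ hV _).2 hs
  obtain ⟨g₀, hg₀⟩ : ∃ g₀, ClSub.toSubscheme I ≫ g₀ =
      ClSub.toSubscheme (Scheme.IdealSheafData.vanishingIdeal (⟨{x}, hx⟩ : Closeds X)) :=
    haveI := Crv77.epi_toSubscheme I
    haveI : Epi (Crv77.idealSeq I).g := Crv77.epi_toSubscheme I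
    ⟨(Crv77.idealSeq_shortExact I).exact.desc _ h1, (Crv77.idealSeq_shortExact I).exact.g_desc _ h1⟩
  refine ⟨Crv77.twistMap g₀ F, ?_⟩
  rw [Crv77.valueAt, Crv77.valueAt, Category.assoc, ← hg₀]
  refine congrArg (_ ≫ ·) ?_
  exact (Crv77.twist F).map_comp _ _

/-- A sheaf trivial on a divisor is generated along it as soon as the trivializing section lifts. -/
theorem exists_gen_of_restrict_trivial [CompactSpace X] {Z : Scheme.{u}} (ι : Z ⟶ X) [IsClosedImmersion ι]
    {F : X.Modules} (hF : PicF.IsInvertible F)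
    (e : (Scheme.Modules.pullback ι).obj F ≅ Coh.structureModule Z)
    (h₁ : Subsingleton (Coh.HH X (CohB1.tensorMod (ClSub.idealMod ι.ker) F) 1))
    {x : X} (hx : IsClosed ({x} : Set X)) (hxZ : x ∈ Set.range ι.base) :
    ∃ t : Γ(F, ⊤), x ∈ CohB1.genLocus F (Var76.Frames.ofSection F t) := by
  obtain ⟨g, hg⟩ := exists_factor_valueAt ι.ker hx
    (show x ∈ (ι.ker.support : Set X) by rw [Scheme.Hom.support_ker]; exact subset_closure hxZ) F
  obtain ⟨r⟩ := nonempty_restrict_iso ι hF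
  obtain ⟨q⟩ := HypSq53.nonempty_quotMod_iso ι
  let a : ClSub.quotMod ι.ker ≅ CohB1.tensorMod (ClSub.quotMod ι.ker) F :=
    q.symm ≪≫ (Scheme.Modules.pushforward ι).mapIso e.symm ≪≫ r.symm
  obtain ⟨t, ht⟩ := surjective_valueAt ι.ker hF h₁
    ((ClSub.toSubscheme ι.ker ≫ a.hom).app ⊤ (1 : Γ(X, ⊤)))
  refine ⟨t, by_contra fun hn => ?_⟩
  have h0 := (Crv77.valueAt_eq_zero_iff hx hF t).2 hn
  rw [hg] at h0
  have h2 : (ClSub.toSubscheme ι.ker ≫ a.hom ≫ g) = 0 := by
    let φ := ClSub.toSubscheme ι.ker ≫ a.hom ≫ g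
    have hφ : val _ φ ⊤ = 0 := by
      show g.app ⊤ ((ClSub.toSubscheme ι.ker ≫ a.hom).app ⊤ (1 : Γ(X, ⊤))) = 0
      rw [← ht]
      exact h0
    refine (SheafOfModules.unitHomEquiv _).injective (Subtype.ext (funext fun U => ?_))
    show val _ φ U.unop = 0
    rw [← res_val _ φ (le_top : U.unop ≤ ⊤), hφ]
    exact map_zero _
  haveI := Crv77.epi_toSubscheme ι.ker
  have h3 : g = 0 := (cancel_epi a.hom).1 (((cancel_epi (ClSub.toSubscheme ι.ker)).1
    (h2.trans comp_zero.symm)).trans comp_zero.symm)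
  exact Crv77.valueAt_ne_zero hx hF (by rw [show Crv77.ptIdeal hx = _ from rfl]; exact hg.trans (by rw [h3, comp_zero]))

/-- The inclusion is an isomorphism off the divisor on the level of generation. -/
theorem mem_genLocus_twistIncl_iff (I : X.IdealSheafData) {F : X.Modules} (hF : PicF.IsInvertible F)
    (s : Coh.structureModule X ⟶ CohB1.tensorMod (ClSub.idealMod I) F) {x : X} (hx : x ∉ (I.support : Set X)) :
    x ∈ CohB1.genLocus F (s ≫ twistIncl I hF) ↔
      x ∈ CohB1.genLocus (CohB1.tensorMod (ClSub.idealMod I) F) s := by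
  haveI := Crv77.isIso_unitTm hF
  obtain ⟨U', hxU', e, he⟩ := Mero90.exists_frame' hF x
  let U : X.Opens := U' ⊓ I.support.compl
  have hUI : (U : Set X) ⊆ (I.support : Set X)ᶜ := fun a ha => ha.2
  obtain ⟨e₁, he₁⟩ := Omega57.exists_idealSect_eq I U 1 (by
    have hb : I.subschemeι ⁻¹ᵁ U = ⊥ :=
      eq_bot_iff.2 fun a ha => hUI ha (I.range_subschemeι.le ⟨a, rfl⟩)
    haveI : Subsingleton Γ(I.subscheme, I.subschemeι ⁻¹ᵁ U) := by rw [hb]; infer_instance
    exact Subsingleton.elim _ _)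
  have hfe₁ : IsFrame (ClSub.idealMod I) U e₁ := by
    intro V hV
    haveI := S5195.isIso_restrict_idealModι I V ((Set.Subset.trans (show (V : Set X) ⊆ U from hV)) hUI)
    refine ⟨fun a b h => ?_, fun m => ⟨OmegaSh.idealSect I V m, ?_⟩⟩
    · have h' := congrArg (OmegaSh.idealSect I V) h
      simp only [Omega57.idealSect_smul] at h'
      rwa [Curves2.idealSect_res, he₁, map_one, mul_one, mul_one] at h'
    · refine Omega57.idealSect_injective I V ?_
      rw [Omega57.idealSect_smul, Curves2.idealSect_res, he₁, map_one, mul_one]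
  refine mem_genLocus_comp_iff s (twistIncl I hF) (Amp73.isFrame_tm hfe₁ (he.res (inf_le_left : U ≤ U'))) ?_
    ⟨hxU', hx⟩
  have h1 : (twistIncl I hF).app U (tm (ClSub.idealMod I) F e₁ (res F inf_le_left e)) = res F inf_le_left e := by
    show (inv (Crv77.unitTm F)).app U ((Crv77.twistMap (ClSub.idealModι I) F).app U _) = _
    rw [Crv77.twist_map_tm, show (ClSub.idealModι I).app U e₁ = (1 : Γ(X, U)) from he₁,
      ← Crv77.unitTm_app]
    exact ConcreteCategory.congr_hom (congrArg (fun φ => φ.app U) (IsIso.hom_inv_id (Crv77.unitTm F))) _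
  rw [h1]
  exact he.res inf_le_left

end Groth.Agent.ArS10
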