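import Groth.Agent.ArS10.P1Curve
import Groth.Agent.ArS10.TwistRestrict
import Groth.Agent.ArS10.Comp

/-!
Twisting by multiples of a curve isomorphic to a projective line.
-/

set_option autoImplicit false
set_option linter.style.haveILetI false
set_option backward.isDefEq.respectTransparency.types false

universe u

open CategoryTheory CategoryTheory.Limits AlgebraicGeometry
open Groth.Agent.Var76.LineBundle Groth.Agent.Var76.ZeroScheme

noncomputable section

namespace Groth.Agent.ArS10

theorem ofSection_val_top {X : Scheme.{u}} (L : X.Modules) (s : Coh.structureModule X ⟶ L) :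
    Var76.Frames.ofSection L (val L s ⊤) = s := by
  apply L.unitHomEquiv.injective
  apply Subtype.ext
  funext U
  show val L (Var76.Frames.ofSection L (val L s ⊤)) U.unop = val L s U.unop
  rw [Var76.Frames.val_ofSection, res_val]

variable {R : Type u} [CommRing R] [IsDomain R] [IsDiscreteValuationRing R]
  {X : Over (Spec (CommRingCat.of R))}

/-- `L ⊗ O(iE)`. -/
abbrev twE (L LE : X.left.Modules) (i : ℕ) : X.left.Modules := CohB1.tensorMod L (CohB1.tensorPow LE i)

theorem isInvertible_twE {L LE : X.left.Modules} (hL : PicF.IsInvertible L) (hLE : PicF.IsInvertible LE) (i : ℕ) :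
    PicF.IsInvertible (twE L LE i) :=
  EGA73.isInvertible_tensorMod hL (EGA73.isInvertible_tensorPow hLE i)

variable (E : ArSurf.VertComp R X) {LE : X.left.Modules} (hLE : ClSub.IsInverseOf LE (ClSub.idealMod E.ι.ker))

include hLE in
theorem nonempty_ideal_twE_iso (L : X.left.Modules) (i : ℕ) :
    Nonempty (CohB1.tensorMod (ClSub.idealMod E.ι.ker) (twE L LE (i + 1)) ≅ twE L LE i) :=
  ⟨EGA73.tensComm _ _ ≪≫ EGA73.tensAssoc' _ _ _ ≪≫
    EGA73.tensIso (Iso.refl L) (EGA73.tensAssoc' _ _ _ ≪≫
      EGA73.tensIso (Iso.refl _) hLE.some ≪≫ EGA73.tensUnitRight _)⟩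

theorem deg_twE [IsProper X.hom] {L : X.left.Modules} (hL : PicF.IsInvertible L) (hLEi : PicF.IsInvertible LE)
    (i : ℕ) :
    ArSurf.inter R X (twE L LE i) E = ArSurf.inter R X L E + i * ArSurf.inter R X LE E := by
  have hpow : deg E ((Scheme.Modules.pullback E.ι).obj (CohB1.tensorPow LE i)) =
      i * ArSurf.inter R X LE E := by
    induction i with
    | zero =>
      rw [Nat.cast_zero, zero_mul]
      exact (deg_congr E (PicLoc.pullbackStructureIso E.ι)).trans (deg_structureModule E)
    | succ n ih =>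
      refine ((deg_congr E (Desc59.AmpleDesc.pullTensIso E.ι _ _)).trans (deg_tensor E
        (Amp73.isInvertible_pullback _ (EGA73.isInvertible_tensorPow hLEi n))
        (Amp73.isInvertible_pullback _ hLEi))).trans ?_
      rw [ih, Nat.cast_succ, add_mul, one_mul]
      rfl
  refine ((deg_congr E (Desc59.AmpleDesc.pullTensIso E.ι _ _)).trans (deg_tensor E
    (Amp73.isInvertible_pullback _ hL)
    (Amp73.isInvertible_pullback _ (EGA73.isInvertible_tensorPow hLEi i)))).trans ?_
  rw [hpow]
  rfl

include hLE in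
theorem isInvertible_LE : PicF.IsInvertible LE := Inv57.isInvertible_of_tensorMod_iso hLE.some

variable {k : Type u} [Field k] (e : CohB1.ProjSpace 1 k ≅ E.curve.left)

include hLE e in
/-- Vanishing propagates while the degree on the curve stays at least minus the degree of its field. -/
theorem subsingleton_h1_twE [IsProper X.hom] {L : X.left.Modules} (hL : PicF.IsInvertible L)
    (h1 : Subsingleton (Coh.HH X.left L 1)) (i : ℕ)
    (hdeg : ∀ j : ℕ, 1 ≤ j → j ≤ i →
      -(Models.wdeg R X E : ℤ) ≤ ArSurf.inter R X L E + j * ArSurf.inter R X LE E) :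
    Subsingleton (Coh.HH X.left (twE L LE i) 1) := by
  induction i with
  | zero => exact @subsingleton_hh_congr _ _ _ (EGA73.tensUnitRight L) 1 h1
  | succ n ih =>
    have hF := isInvertible_twE hL (isInvertible_LE E hLE) (n + 1)
    haveI := ih fun j h h' => hdeg j h (h'.trans n.le_succ)
    obtain ⟨φ⟩ := nonempty_ideal_twE_iso E hLE L n
    refine subsingleton_hh_of_restrict E.ι hF 1 (subsingleton_hh_congr φ 1) ?_
    exact subsingleton_h1_of_deg E e (Amp73.isInvertible_pullback _ hF) <|
      (hdeg (n + 1) n.succ_pos le_rfl).trans (deg_twE E hL (isInvertible_LE E hLE) (n + 1)).ge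

include hLE in
/-- Generation off the curve is preserved by adding the curve. -/
theorem exists_gen_off {L : X.left.Modules} (hL : PicF.IsInvertible L) (hgg : Curv2.IsGloballyGenerated L)
    (i : ℕ) {x : X.left} (hx : IsClosed ({x} : Set X.left)) (hxE : x ∉ Set.range E.ι.base) :
    ∃ s : Coh.structureModule X.left ⟶ twE L LE i, x ∈ CohB1.genLocus (twE L LE i) s := by
  induction i with
  | zero =>
    obtain ⟨t, ht⟩ := Crv77.exists_gen_of_isGloballyGenerated hL hgg hx
    refine ⟨Var76.Frames.ofSection L t ≫ (EGA73.tensUnitRight L).inv, ?_⟩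
    rw [Amp73.genLocus_comp_iso]
    exact ht
  | succ n ih =>
    obtain ⟨s, hs⟩ := ih
    obtain ⟨φ⟩ := nonempty_ideal_twE_iso E hLE L n
    have hF := isInvertible_twE hL (isInvertible_LE E hLE) (n + 1)
    refine ⟨(s ≫ φ.inv) ≫ twistIncl E.ι.ker hF, (mem_genLocus_twistIncl_iff E.ι.ker hF _ ?_).2 ?_⟩
    · rw [Scheme.Hom.support_ker]
      exact fun h => hxE (E.ι.isClosedEmbedding.isClosed_range.closure_subset h)
    · rw [Amp73.genLocus_comp_iso]
      exact hs

include hLE e in
/-- The twist of degree zero on the curve is generated. -/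
theorem isGloballyGenerated_twE [IsProper X.hom] {L : X.left.Modules} (hL : PicF.IsInvertible L)
    (h1 : Subsingleton (Coh.HH X.left L 1)) (hgg : Curv2.IsGloballyGenerated L) (hneg : ArSurf.inter R X LE E < 0)
    (r : ℕ) (hr : ArSurf.inter R X L E = r * -ArSurf.inter R X LE E) :
    Nonempty ((Scheme.Modules.pullback E.ι).obj (twE L LE r) ≅ Coh.structureModule E.curve.left) ∧
      Curv2.IsGloballyGenerated (twE L LE r) := by
  have hF := isInvertible_twE hL (isInvertible_LE E hLE) r
  have h0 : deg E ((Scheme.Modules.pullback E.ι).obj (twE L LE r)) = 0 :=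
    (deg_twE E hL (isInvertible_LE E hLE) r).trans (by rw [hr]; ring)
  obtain ⟨τ⟩ := trivial_of_deg_eq_zero E e (Amp73.isInvertible_pullback E.ι hF) h0
  refine ⟨⟨τ⟩, ?_⟩
  haveI : CompactSpace X.left := QuasiCompact.compactSpace_of_compactSpace X.hom
  refine Crv77.isGloballyGenerated_of_gen hF fun x hx => ?_
  cases r with
  | zero =>
    obtain ⟨t, ht⟩ := Crv77.exists_gen_of_isGloballyGenerated hL hgg hx
    let s : Coh.structureModule X.left ⟶ twE L LE 0 := Var76.Frames.ofSection L t ≫ (EGA73.tensUnitRight L).inv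
    refine ⟨val (twE L LE 0) s ⊤, ?_⟩
    rw [ofSection_val_top]
    show x ∈ CohB1.genLocus _ (Var76.Frames.ofSection L t ≫ (EGA73.tensUnitRight L).inv)
    rw [Amp73.genLocus_comp_iso]
    exact ht
  | succ n =>
    by_cases hxE : x ∈ Set.range E.ι.base
    · obtain ⟨φ⟩ := nonempty_ideal_twE_iso E hLE L n
      haveI := subsingleton_h1_twE E hLE e hL h1 n fun j _ hj => by
        have hj' : (j : ℤ) ≤ n + 1 := by omega
        have := mul_le_mul_of_nonneg_right hj' (neg_nonneg.2 hneg.le)
        rw [hr]
        push_cast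
        linarith [(Models.wdeg R X E).cast_nonneg (α := ℤ)]
      exact exists_gen_of_restrict_trivial E.ι hF τ (subsingleton_hh_congr φ 1) hx hxE
    · obtain ⟨s, hs⟩ := exists_gen_off E hLE hL hgg (n + 1) hx hxE
      exact ⟨val _ s ⊤, by rwa [ofSection_val_top]⟩

end Groth.Agent.ArS10
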