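import Groth.Agent.ArS10.Section
import Groth.Agent.Curves2.RatPoint

/-!
Functions on the closed fibre when the multiplicities are coprime.
-/

set_option autoImplicit false
set_option linter.style.haveILetI false
set_option backward.isDefEq.respectTransparency.types false

universe u

open CategoryTheory CategoryTheory.Limits AlgebraicGeometry TopologicalSpace Opposite
open scoped nonZeroDivisors Groth.Agent.FGA29

noncomputable section

namespace Groth.Agent.ArS10

variable {R : Type u} [CommRing R] [IsDomain R] [IsDiscreteValuationRing R]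
  {X : Over (Spec (CommRingCat.of R))}

/-- The function vanishes on `V(J)`. -/
def Vanish {F : X.left.IdealSheafData} (J : X.left.IdealSheafData) (f : Γ(F.subscheme, ⊤)) : Prop :=
  ∀ (U : X.left.affineOpens) (a : Γ(X.left, U.1)), F.subschemeι.app U.1 a = restr F U.1 f → a ∈ J.ideal U

theorem eq_zero_of_vanish {F : X.left.IdealSheafData} {f : Γ(F.subscheme, ⊤)} (h : Vanish F f) : f = 0 := by
  refine TopCat.Sheaf.eq_of_locally_eq' F.subscheme.sheaf
    (fun U : X.left.affineOpens => F.subschemeι ⁻¹ᵁ U.1) ⊤ (fun U => homOfLE le_top) (fun z _ => ?_) f 0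
    fun U => ?_
  · obtain ⟨_, ⟨U, hU, rfl⟩, hzU, -⟩ := X.left.isBasis_affineOpens.exists_subset_of_mem_open
      (Set.mem_univ (F.subschemeι z)) isOpen_univ
    exact Opens.mem_iSup.2 ⟨⟨U, hU⟩, hzU⟩
  · refine Eq.trans ?_ (map_zero _).symm
    obtain ⟨a, ha⟩ := exists_lift F U f
    show restr F U.1 f = 0
    rw [← ha, app_eq_zero_iff]
    exact h U a ha

theorem app_of_restr {F : X.left.IdealSheafData} {Y : Scheme.{u}} (g : Y ⟶ F.subscheme) (ι : Y ⟶ X.left)
    (e : g ≫ F.subschemeι = ι) (U : X.left.Opens) (f : Γ(F.subscheme, ⊤))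
    (a : Γ(X.left, U)) (ha : F.subschemeι.app U a = restr F U f) :
    ι.app U a = Y.presheaf.map (homOfLE (le_top : ι ⁻¹ᵁ U ≤ ⊤)).op (g.appTop f) := by
  subst e
  show g.app _ (F.subschemeι.app U a) = _
  rw [ha]
  exact ConcreteCategory.congr_hom (g.naturality (homOfLE (le_top : F.subschemeι ⁻¹ᵁ U ≤ ⊤)).op) f

theorem restr_inclusion {F J : X.left.IdealSheafData} (h : F ≤ J) (U : X.left.Opens) (f : Γ(F.subscheme, ⊤))
    (a : Γ(X.left, U)) (ha : F.subschemeι.app U a = restr F U f) :
    J.subschemeι.app U a = restr J U ((Scheme.IdealSheafData.inclusion h).appTop f) :=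
  app_of_restr _ _ (Scheme.IdealSheafData.inclusion_subschemeι h) U f a ha

/-- The closed immersion of a component into the closed fibre. -/
theorem fIdeal_le (Γ : ArSurf.VertComp R X) : ModPic.fIdeal X.hom ≤ Γ.ι.ker :=
  le_of_subset_support Γ (by
    rw [ModPic.support_specialFibreIdeal]
    exact range_subset_fibre Γ (Set.mem_range_self _))

/-- The map of a component to the closed fibre. -/
def toFibre (Γ : ArSurf.VertComp R X) : Γ.curve.left ⟶ (ModPic.fIdeal X.hom).subscheme :=
  IsClosedImmersion.lift (ModPic.fIdeal X.hom).subschemeι Γ.ι (by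
    rw [Scheme.IdealSheafData.ker_subschemeι]; exact fIdeal_le Γ)

theorem toFibre_comp (Γ : ArSurf.VertComp R X) : toFibre Γ ≫ (ModPic.fIdeal X.hom).subschemeι = Γ.ι :=
  IsClosedImmersion.lift_fac _ _ _

theorem vanish_of_restrict_eq_zero (Γ : ArSurf.VertComp R X) (f : Γ((ModPic.fIdeal X.hom).subscheme, ⊤))
    (h : (toFibre Γ).appTop f = 0) : Vanish Γ.ι.ker f := fun U a ha => by
  rw [Scheme.Hom.ker_apply, RingHom.mem_ker]
  refine (app_of_restr _ _ (toFibre_comp Γ) U.1 f a ha).trans ?_
  rw [h, map_zero]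

theorem inter_idealMod (hX : IsSurf R X) {Γ Δ : ArSurf.VertComp R X} {L : X.left.Modules}
    (hL : ClSub.IsInverseOf L (ClSub.idealMod Δ.ι.ker)) :
    IsVal Γ (PicF.cl (ClSub.idealMod Δ.ι.ker)) (-ArSurf.inter R X L Γ) := by
  haveI := hX.2.2.2.2
  have hI := (Curves2.isInvertible_idealMod_iff _).2 (isEffCartier hX Δ)
  refine ⟨_, hI, rfl, ?_⟩
  have h : IsVal Γ (PicF.cl L * PicF.cl (ClSub.idealMod Δ.ι.ker))
      (ArSurf.inter R X L Γ + ArSurf.inter R X (ClSub.idealMod Δ.ι.ker) Γ) :=
    IsVal.mul ⟨L, isInvertible_inverse hL, rfl, rfl⟩ ⟨_, hI, rfl, rfl⟩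
  rw [ModPic.cl_mul_eq_one_of_isInverseOf hL] at h
  have := h.unique IsVal.one
  omega

/-- A nonzero function on the closed fibre is nonzero on every component. -/
theorem restrict_ne_zero (hX : IsSurf R X) (hconn : _root_.IsConnected (Models.specialFibreSet R X))
    {r : ℕ} (Γ : Fin r → ArSurf.VertComp R X)
    (hdist : Function.Injective fun i => Set.range (Γ i).ι.base)
    (hcov : ∀ x ∈ Models.specialFibreSet R X, ∃ i, x ∈ Set.range (Γ i).ι.base)
    (hgcd : ∃ u : Fin r → ℤ, ∑ i, u i * (Models.mult R X (Γ i) : ℤ) = 1)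
    (f : Γ((ModPic.fIdeal X.hom).subscheme, ⊤)) (hf : f ≠ 0) (i₀ : Fin r) :
    (toFibre (Γ i₀)).appTop f ≠ 0 := by
  classical
  intro h0
  haveI := hX.2.2.2.2
  haveI := hX.2.2.2.1
  let d := fun i => Models.mult R X (Γ i)
  let I : (Fin r → ℕ) → X.left.IdealSheafData := fun z => ∏ i, (Γ i).ι.ker ^ z i
  have hIeff : ∀ z, BlowUp.IsEffCartierIdeal (I z) := fun z =>
    Div89.DivProd.isEffCartier_prod _ _ fun i _ => ModPic.isEffCartier_pow (isEffCartier hX (Γ i)) _
  have hIle : ∀ z z' : Fin r → ℕ, (∀ i, z i ≤ z' i) → I z' ≤ I z := fun z z' h => by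
    refine (Div89.le_iff_stalkIdeal _ _).2 fun x => ?_
    rw [Div89.stalkIdeal_prod, Div89.stalkIdeal_prod]
    refine Finset.prod_le_prod' fun i _ => ?_
    rw [Div89.stalkIdeal_pow, Div89.stalkIdeal_pow]
    exact Ideal.pow_le_pow_right (h i)
  obtain ⟨J, -, hFJ, hgen⟩ := exists_decomp hX Γ hdist
  have hF : ModPic.fIdeal X.hom ≤ I d := by
    rw [hFJ]
    refine (Div89.le_iff_stalkIdeal _ _).2 fun x => ?_
    rw [Div89.stalkIdeal_mul]
    exact (Ideal.mul_mono le_top le_rfl).trans (Ideal.top_mul _).le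
  choose L hLinv hL using fun i => An92.InvMod.exists_inverse
    ((Curves2.isInvertible_idealMod_iff _).2 (isEffCartier hX (Γ i)))
  have hFeq : ModPic.fIdeal X.hom = I d := by
    refine le_antisymm hF ((Div89.le_iff_stalkIdeal _ _).2 fun x => ?_)
    by_cases hx : x ∈ (ModPic.fIdeal X.hom).support
    · have hJ : x ∉ J.support := fun hxJ => by
        obtain ⟨J', LJ, hJ', hLJ, e, hgen', hrel⟩ := relation hX Γ hdist L fun j => ⟨(hL j).some⟩
        have hJJ : J' = J := MP99.eq_of_mul_eq_mul (hIeff d) (e.symm.trans hFJ)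
        obtain ⟨i, hi⟩ := hcov x ((ModPic.support_specialFibreIdeal X.hom).le hx)
        have h1 := hrel (Γ i)
        have h2 := sum_mult_mul_inter hX Γ hdist hcov L (fun j => ⟨(hL j).some⟩) i
        have h3 := (inter_eq_zero_iff (Γ i) hJ' (hgen' i) hLJ).1 (by omega)
        exact Set.disjoint_left.1 h3 hi (hJJ ▸ hxJ)
      rw [hFJ, Div89.stalkIdeal_mul, (Div89.notMem_support_iff_stalkIdeal _ _).1 hJ, Ideal.top_mul]
    · rw [(Div89.notMem_support_iff_stalkIdeal _ _).1 hx]
      exact le_top
  -- a maximal exponent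
  let S : Finset (Fin r → ℕ) := (Fintype.piFinset fun i => Finset.range (d i + 1)).filter fun z => Vanish (I z) f
  let e₀ : Fin r → ℕ := fun i => if i = i₀ then 1 else 0
  have he₀ : I e₀ = (Γ i₀).ι.ker := by
    simp only [I, e₀]
    rw [Finset.prod_eq_single i₀ (fun j _ hj => by rw [if_neg hj, pow_zero]) (by simp), if_pos rfl, pow_one]
  have hS : e₀ ∈ S := Finset.mem_filter.2 ⟨Fintype.mem_piFinset.2 fun i => Finset.mem_range.2 (by
      have := mult_pos hX (Γ i)
      simp only [e₀, d]; split_ifs <;> omega), he₀ ▸ vanish_of_restrict_eq_zero _ f h0⟩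
  obtain ⟨z, hz, hle, hmax⟩ : ∃ z ∈ S, (∀ i, e₀ i ≤ z i) ∧ ∀ z' ∈ S, (∀ i, z i ≤ z' i) → z' = z := by
    obtain ⟨z, hz, hzmax⟩ := (S.filter fun z => ∀ i, e₀ i ≤ z i).exists_max_image (fun z => ∑ i, z i)
      ⟨e₀, Finset.mem_filter.2 ⟨hS, fun i => le_rfl⟩⟩
    rw [Finset.mem_filter] at hz
    refine ⟨z, hz.1, hz.2, fun z' hz' hle' => ?_⟩
    have h1 := hzmax z' (Finset.mem_filter.2 ⟨hz', fun i => (hz.2 i).trans (hle' i)⟩)
    funext i
    by_contra hne
    have : ∑ i, z i < ∑ i, z' i := Finset.sum_lt_sum (fun j _ => hle' j)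
      ⟨i, Finset.mem_univ i, lt_of_le_of_ne (hle' i) (Ne.symm hne)⟩
    omega
  obtain ⟨hzd', hzv⟩ := Finset.mem_filter.1 hz
  have hzd : ∀ i, z i ≤ d i := fun i => Nat.lt_succ_iff.1 (Finset.mem_range.1 (Fintype.mem_piFinset.1 hzd' i))
  have hrow : ∀ i, ∑ j, (z j : ℤ) * ArSurf.inter R X (L j) (Γ i) ≤ 0 := by
    intro i
    rcases (hzd i).eq_or_lt with he | hlt
    · have h1 := sum_mult_mul_inter hX Γ hdist hcov L (fun j => ⟨(hL j).some⟩) i
      have h2 : 0 ≤ ∑ j, ((d j : ℤ) - z j) * ArSurf.inter R X (L j) (Γ i) := Finset.sum_nonneg fun j _ => by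
        by_cases hij : j = i
        · subst hij; simp [he]
        · exact mul_nonneg (by have := hzd j; omega)
            (offDiag_nonneg hX ⟨(hL j).some⟩ fun e => hij (hdist e).symm)
      simp only [sub_mul, Finset.sum_sub_distrib] at h2
      simp only [d] at h2
      omega
    · let z' : Fin r → ℕ := Function.update z i (z i + 1)
      have hz' : I z' = I z * (Γ i).ι.ker := by
        simp only [I]
        rw [Fintype.prod_eq_mul_prod_compl i, Fintype.prod_eq_mul_prod_compl i (fun j => (Γ j).ι.ker ^ z j)]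
        rw [show z' i = z i + 1 from Function.update_self .., pow_succ,
          Finset.prod_congr rfl fun j hj => by
            rw [show z' j = z j from Function.update_of_ne (by simpa using hj) ..]]
        ring
      have hFz : ModPic.fIdeal X.hom ≤ I z' := hFeq.le.trans (hIle _ _ fun j => by
        simp only [z']; rcases eq_or_ne j i with rfl | hj
        · rw [Function.update_self]; omega
        · rw [Function.update_of_ne hj]; exact hzd j)
      let f' := (Scheme.IdealSheafData.inclusion hFz).appTop f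
      have hnot : ¬ Vanish (I z') f := fun hv => by
        have := congrFun (hmax z' (Finset.mem_filter.2 ⟨Fintype.mem_piFinset.2 fun j => Finset.mem_range.2 (by
          simp only [z']; rcases eq_or_ne j i with rfl | hj
          · rw [Function.update_self]; omega
          · rw [Function.update_of_ne hj]; have := hzd j; omega), hv⟩) fun j => by
          simp only [z']; rcases eq_or_ne j i with rfl | hj
          · rw [Function.update_self]; omega
          · rw [Function.update_of_ne hj]) i
        simp [z'] at this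
      have hf' : f' ≠ 0 := fun h => hnot fun U a ha => by
        rw [← app_eq_zero_iff, restr_inclusion hFz _ f a ha, show (Scheme.IdealSheafData.inclusion hFz).appTop f = 0 from h,
          restr, map_zero]
      have hv' : ∀ (U : X.left.affineOpens) (a : Γ(X.left, U.1)),
          (I z').subschemeι.app U.1 a = restr (I z') U.1 f' → a ∈ (I z).ideal U := fun U a ha => by
        obtain ⟨b, hb⟩ := exists_lift _ U f
        have h1 := (hIle z z' fun j => by
          simp only [z']; rcases eq_or_ne j i with rfl | hj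
          · rw [Function.update_self]; omega
          · rw [Function.update_of_ne hj]) U ((app_eq_zero_iff (I z') U (a - b)).1 (by
            rw [map_sub, ha, restr_inclusion hFz _ f b hb, sub_self]))
        simpa using add_mem h1 (hzv U b hb)
      haveI := isProper_over (Γ i)
      have hinv := Amp73.isInvertible_pullback (Γ i).ι ((Curves2.isInvertible_idealMod_iff _).2 (hIeff z))
      have hnt := exists_section (Γ i).ι (hIeff z) hz' f' hv' hf'
      have hpos := Curves2.deg_nonneg_of_nontrivial (k := kk R) (dim_le_one (Γ i)) hinv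
        (Crv77.sec _).toEquiv.nontrivial
      rw [← deg_eq (Γ i) hinv] at hpos
      have hval : IsVal (Γ i) (PicF.cl (ClSub.idealMod (I z)))
          (∑ j, (z j : ℤ) * -ArSurf.inter R X (L j) (Γ i)) := by
        rw [ModPic.cl_idealMod_prod_pow _ (fun j => isEffCartier hX (Γ j))]
        exact IsVal.prod _ fun j _ => (inter_idealMod hX ⟨(hL j).some⟩).pow _
      have := hval.unique ⟨_, (Curves2.isInvertible_idealMod_iff _).2 (hIeff z), rfl, rfl⟩
      simp only [mul_neg, Finset.sum_neg_distrib] at this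
      rw [deg, ← ArSurf.inter] at hpos
      omega
  have hsum : ∑ i, (d i : ℤ) * ∑ j, (z j : ℤ) * ArSurf.inter R X (L j) (Γ i) = 0 := by
    simp only [Finset.mul_sum]
    rw [Finset.sum_comm]
    refine Finset.sum_eq_zero fun j _ => ?_
    calc ∑ i, (d i : ℤ) * ((z j : ℤ) * ArSurf.inter R X (L j) (Γ i))
        = (z j : ℤ) * ∑ i, (d i : ℤ) * ArSurf.inter R X (L i) (Γ j) := by
          rw [Finset.mul_sum]
          refine Finset.sum_congr rfl fun i _ => ?_
          by_cases hij : i = j
          · subst hij; ring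
          · rw [inter_symm hX (Γ i) (Γ j) (fun e => hij (hdist e)) ⟨(hL i).some⟩ ⟨(hL j).some⟩]; ring
      _ = 0 := by rw [sum_mult_mul_inter hX Γ hdist hcov L (fun j => ⟨(hL j).some⟩) j, mul_zero]
  have hzero : ∀ i, ∑ j, (z j : ℤ) * ArSurf.inter R X (L j) (Γ i) = 0 := fun i => by
    have h1 := (Finset.sum_eq_zero_iff_of_nonpos fun i _ =>
      mul_nonpos_of_nonneg_of_nonpos (Int.natCast_nonneg (d i)) (hrow i)).1 hsum i (Finset.mem_univ i)
    exact (mul_eq_zero.1 h1).resolve_left (by have := mult_pos hX (Γ i); simp only [d]; omega)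
  obtain ⟨c, hc⟩ := (kernel_iff hX hconn Γ hdist hcov L (fun j => ⟨(hL j).some⟩) fun j => (z j : ℤ)).1 hzero
  obtain ⟨u, hu⟩ := hgcd
  have hcint : c = ((∑ j, u j * (z j : ℤ) : ℤ) : ℚ) := by
    have h1 := congrArg (Int.cast (R := ℚ)) hu
    push_cast at h1 hc ⊢
    calc c = c * ∑ j, (u j : ℚ) * (Models.mult R X (Γ j) : ℚ) := by rw [h1, mul_one]
      _ = ∑ j, (u j : ℚ) * (z j : ℚ) := by
        rw [Finset.mul_sum]; exact Finset.sum_congr rfl fun j _ => by rw [hc j]; ring
  set m : ℤ := ∑ j, u j * (z j : ℤ)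
  have hzm : ∀ j, (z j : ℤ) = m * (d j : ℤ) := fun j => by
    have h1 := hc j
    rw [hcint] at h1
    exact_mod_cast h1
  have hm1 : m = 1 := by
    have h1 := hle i₀
    have h2 := hzd i₀
    have h3 := hzm i₀
    have h4 : (1 : ℤ) ≤ z i₀ := by
      simp only [e₀, if_true] at h1
      omega
    have h5 := mult_pos hX (Γ i₀)
    simp only [d] at h2 h3
    nlinarith
  have : z = d := funext fun j => by have := hzm j; rw [hm1, one_mul] at this; exact_mod_cast this
  refine hf (eq_zero_of_vanish ?_)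
  rw [this, ← hFeq] at hzv
  exact hzv

end Groth.Agent.ArS10
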