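import Groth.Agent.ArS10.Decomp
import Groth.Agent.ModPic.IdealMul

/-!
The closed fibre is numerically trivial; the intersection form on vertical divisors.
-/

set_option autoImplicit false
set_option linter.style.haveILetI false
set_option backward.isDefEq.respectTransparency.types false

universe u

open CategoryTheory CategoryTheory.Limits AlgebraicGeometry TopologicalSpace Opposite
open scoped nonZeroDivisors Groth.Agent.FGA29

noncomputable section

namespace Groth.Agent.ArS10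

variable {R : Type u} [CommRing R] [IsDomain R] [IsDiscreteValuationRing R]
  {X : Over (Spec (CommRingCat.of R))}

/-- An intersection number attached to a class of invertible modules. -/
def IsVal (Γ : ArSurf.VertComp R X) (c : PicF.Cl X.left) (v : ℤ) : Prop :=
  ∃ M : X.left.Modules, PicF.IsInvertible M ∧ PicF.cl M = c ∧ ArSurf.inter R X M Γ = v

namespace IsVal

variable {Γ : ArSurf.VertComp R X}

theorem unique {c : PicF.Cl X.left} {v w : ℤ} (h : IsVal Γ c v) (h' : IsVal Γ c w) : v = w := by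
  obtain ⟨M, -, rfl, rfl⟩ := h
  obtain ⟨N, -, e, rfl⟩ := h'
  obtain ⟨i⟩ := FGA29.nonempty_iso_of_cl e.symm
  exact deg_congr Γ ((Scheme.Modules.pullback Γ.ι).mapIso i)

theorem one : IsVal Γ 1 0 :=
  ⟨_, EGA73.isInvertible_structureModule, FGA29.cl_one,
    (deg_congr Γ (PicLoc.pullbackStructureIso Γ.ι)).trans (deg_structureModule Γ)⟩

theorem mul [IsProper X.hom] {c d : PicF.Cl X.left} {v w : ℤ} (h : IsVal Γ c v) (h' : IsVal Γ d w) :
    IsVal Γ (c * d) (v + w) := by
  obtain ⟨M, hM, rfl, rfl⟩ := h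
  obtain ⟨N, hN, rfl, rfl⟩ := h'
  refine ⟨CohB1.tensorMod M N, EGA73.isInvertible_tensorMod hM hN, FGA29.cl_tensor M N, ?_⟩
  haveI := Amp73.isIso_pullTensHom Γ.ι hM hN
  show deg Γ _ = _
  rw [deg_congr Γ (asIso (Amp73.pullTensHom Γ.ι M N))]
  exact deg_tensor Γ (Amp73.isInvertible_pullback Γ.ι hM) (Amp73.isInvertible_pullback Γ.ι hN)

theorem pow [IsProper X.hom] {c : PicF.Cl X.left} {v : ℤ} (h : IsVal Γ c v) :
    ∀ n : ℕ, IsVal Γ (c ^ n) (n * v)
  | 0 => by simpa using one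
  | n + 1 => by
    have := (pow h n).mul h
    rwa [← pow_succ, show (n : ℤ) * v + v = ((n + 1 : ℕ) : ℤ) * v by push_cast; ring] at this

theorem prod [IsProper X.hom] {ι : Type*} (S : Finset ι) {c : ι → PicF.Cl X.left} {v : ι → ℤ}
    (h : ∀ i ∈ S, IsVal Γ (c i) (v i)) : IsVal Γ (∏ i ∈ S, c i) (∑ i ∈ S, v i) := by
  classical
  induction S using Finset.induction_on with
  | empty => simpa using one
  | insert a s ha ih =>
    rw [Finset.prod_insert ha, Finset.sum_insert ha]
    exact (h a (Finset.mem_insert_self a s)).mul (ih fun i hi => h i (Finset.mem_insert_of_mem hi))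

end IsVal

theorem isInvertible_inverse {L I : X.left.Modules} (h : ClSub.IsInverseOf L I) : PicF.IsInvertible L :=
  Inv57.isInvertible_of_tensorMod_iso h.some

theorem cl_fIdeal [Flat X.hom] : PicF.cl (ClSub.idealMod (ModPic.fIdeal X.hom)) = 1 :=
  ModPic.cl_idealMod_of_global (ModPic.piG X.hom) (fun U => ModPic.res_piG_mem_nonZeroDivisors X.hom U)
    (fun U => ModPic.specialFibreIdeal_ideal X.hom U)

/-- The relation between the components and a residual divisor. -/
theorem relation (hX : IsSurf R X) {r : ℕ} (Γ : Fin r → ArSurf.VertComp R X)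
    (hdist : Function.Injective fun i => Set.range (Γ i).ι.base) (L : Fin r → X.left.Modules)
    (hL : ∀ j, ClSub.IsInverseOf (L j) (ClSub.idealMod (Γ j).ι.ker)) :
    ∃ (J : X.left.IdealSheafData) (LJ : X.left.Modules), BlowUp.IsEffCartierIdeal J ∧
      ClSub.IsInverseOf LJ (ClSub.idealMod J) ∧
      ModPic.fIdeal X.hom = J * ∏ i, (Γ i).ι.ker ^ Models.mult R X (Γ i) ∧
      (∀ i, Models.genPtOf R X (Γ i) ∉ J.support) ∧
      ∀ Δ : ArSurf.VertComp R X,
        ∑ j, (Models.mult R X (Γ j) : ℤ) * ArSurf.inter R X (L j) Δ + ArSurf.inter R X LJ Δ = 0 := by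
  haveI := hX.2.2.2.2
  haveI := hX.2.2.2.1
  obtain ⟨J, hJ, e, hgen⟩ := exists_decomp hX Γ hdist
  obtain ⟨LJ, -, ⟨φ⟩⟩ := An92.InvMod.exists_inverse ((Curves2.isInvertible_idealMod_iff J).2 hJ)
  refine ⟨J, LJ, hJ, ⟨φ⟩, e, hgen, fun Δ => ?_⟩
  have hpow := fun j : Fin r => ModPic.isEffCartier_pow (isEffCartier hX (Γ j)) (Models.mult R X (Γ j))
  have h1 : IsVal Δ (PicF.cl LJ * ∏ j, PicF.cl (L j) ^ Models.mult R X (Γ j))
      (ArSurf.inter R X LJ Δ + ∑ j, (Models.mult R X (Γ j) : ℤ) * ArSurf.inter R X (L j) Δ) :=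
    IsVal.mul ⟨LJ, isInvertible_inverse (I := ClSub.idealMod J) ⟨φ⟩, rfl, rfl⟩ (IsVal.prod _ fun j _ =>
      IsVal.pow ⟨L j, isInvertible_inverse (hL j), rfl, rfl⟩ _)
  have h3 : PicF.cl (ClSub.idealMod J) * ∏ j, PicF.cl (ClSub.idealMod (Γ j).ι.ker) ^ Models.mult R X (Γ j) = 1 := by
    rw [← ModPic.cl_idealMod_prod_pow _ (fun j => isEffCartier hX (Γ j)),
      ← ModPic.cl_idealMod_mul hJ (Div89.DivProd.isEffCartier_prod _ _ fun j _ => hpow j), ← e]
    exact cl_fIdeal
  have h4 : PicF.cl LJ * ∏ j, PicF.cl (L j) ^ Models.mult R X (Γ j) = 1 := by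
    calc PicF.cl LJ * ∏ j, PicF.cl (L j) ^ Models.mult R X (Γ j)
        = (PicF.cl LJ * ∏ j, PicF.cl (L j) ^ Models.mult R X (Γ j)) * (PicF.cl (ClSub.idealMod J) *
            ∏ j, PicF.cl (ClSub.idealMod (Γ j).ι.ker) ^ Models.mult R X (Γ j)) := by rw [h3, mul_one]
      _ = (PicF.cl LJ * PicF.cl (ClSub.idealMod J)) * ∏ j, (PicF.cl (L j) *
            PicF.cl (ClSub.idealMod (Γ j).ι.ker)) ^ Models.mult R X (Γ j) := by
          rw [mul_mul_mul_comm]
          simp only [mul_pow, Finset.prod_mul_distrib]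
      _ = 1 := by
          rw [ModPic.cl_mul_eq_one_of_isInverseOf ⟨φ⟩, one_mul]
          exact Finset.prod_eq_one fun j _ => by rw [ModPic.cl_mul_eq_one_of_isInverseOf (hL j), one_pow]
  have := (h4 ▸ h1).unique IsVal.one
  omega

theorem mult_pos (hX : IsSurf R X) (Γ : ArSurf.VertComp R X) : 0 < Models.mult R X Γ := by
  haveI := hX.2.2.2.1
  obtain ⟨J, -, e, hgen⟩ := exists_decomp hX (fun _ : Fin 1 => Γ) (Function.injective_of_subsingleton _)
  by_contra h
  rw [not_lt, Nat.le_zero] at h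
  rw [Fin.prod_univ_one, h, pow_zero, mul_one] at e
  refine hgen 0 ?_
  rw [← SetLike.mem_coe, ← e, ModPic.support_specialFibreIdeal]
  exact range_subset_fibre Γ (Set.mem_range_self _)

theorem ker_eq_of_range_eq (Γ Δ : ArSurf.VertComp R X) (h : Set.range Γ.ι.base = Set.range Δ.ι.base) :
    Γ.ι.ker = Δ.ι.ker := by
  have key : ∀ Γ : ArSurf.VertComp R X,
      Γ.ι.ker = Scheme.IdealSheafData.vanishingIdeal Γ.ι.ker.support := fun Γ => by
    rw [Scheme.IdealSheafData.vanishingIdeal_support]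
    exact (Scheme.IdealSheafData.ext (funext fun U => (ModPic.isRadical_cI (p := X.hom) Γ U).radical)).symm
  rw [key Γ, key Δ]
  congr 1
  exact SetLike.coe_injective ((ModPic.support_cI (p := X.hom) Γ).trans (h.trans (ModPic.support_cI (p := X.hom) Δ).symm))

theorem genPt_eq_of_range_eq {Γ Δ : ArSurf.VertComp R X} (h : Set.range Γ.ι.base = Set.range Δ.ι.base) :
    Models.genPtOf R X Γ = Models.genPtOf R X Δ :=
  (isGenericPoint Γ).eq (h ▸ isGenericPoint Δ)

theorem inter_congr_left (Γ : ArSurf.VertComp R X) {L L' I : X.left.Modules}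
    (h : ClSub.IsInverseOf L I) (h' : ClSub.IsInverseOf L' I) :
    ArSurf.inter R X L Γ = ArSurf.inter R X L' Γ := by
  have e : PicF.cl L = PicF.cl L' := by
    have h1 := ModPic.cl_mul_eq_one_of_isInverseOf h
    have h2 := ModPic.cl_mul_eq_one_of_isInverseOf h'
    calc PicF.cl L = PicF.cl L * (PicF.cl L' * PicF.cl I) := by rw [h2, mul_one]
      _ = PicF.cl L' * (PicF.cl L * PicF.cl I) := mul_left_comm _ _ _
      _ = PicF.cl L' := by rw [h1, mul_one]
  obtain ⟨i⟩ := FGA29.nonempty_iso_of_cl e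
  exact deg_congr Γ ((Scheme.Modules.pullback Γ.ι).mapIso i)

theorem mult_congr {Γ Δ : ArSurf.VertComp R X} (h : Set.range Γ.ι.base = Set.range Δ.ι.base) :
    Models.mult R X Γ = Models.mult R X Δ := by
  unfold Models.mult
  rw [genPt_eq_of_range_eq h]

/-- The intersection number only depends on the support of the curve. -/
theorem inter_congr_right (hX : IsSurf R X) {Γ Δ : ArSurf.VertComp R X}
    (h : Set.range Γ.ι.base = Set.range Δ.ι.base) {L : X.left.Modules} (C : ArSurf.VertComp R X)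
    (hL : ClSub.IsInverseOf L (ClSub.idealMod C.ι.ker)) :
    ArSurf.inter R X L Γ = ArSurf.inter R X L Δ := by
  haveI := hX.2.2.2.2
  by_cases hC : Set.range Γ.ι.base = Set.range C.ι.base
  · obtain ⟨J, LJ, hJ, hLJ, -, hgen, hrel⟩ := relation hX (fun _ : Fin 1 => C)
      (Function.injective_of_subsingleton _) (fun _ => L) fun _ => hL
    have h1 := hrel Γ
    have h2 := hrel Δ
    simp only [Fin.sum_univ_one] at h1 h2
    have hg : Models.genPtOf R X Γ ∉ J.support := genPt_eq_of_range_eq hC ▸ hgen 0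
    have hg' : Models.genPtOf R X Δ ∉ J.support := genPt_eq_of_range_eq h ▸ hg
    have e : ArSurf.inter R X LJ Γ = ArSurf.inter R X LJ Δ := by
      rw [inter_eq_length hX Γ hJ hg hLJ, inter_eq_length hX Δ hJ hg' hLJ, ker_eq_of_range_eq Γ Δ h]
    have hm : (Models.mult R X C : ℤ) ≠ 0 := by exact_mod_cast (mult_pos hX C).ne'
    exact mul_left_cancel₀ hm (by omega)
  · rw [inter_eq_length hX Γ (isEffCartier hX C) (notMem_support hX hC) hL,
      inter_eq_length hX Δ (isEffCartier hX C) (notMem_support hX (h ▸ hC)) hL, ker_eq_of_range_eq Γ Δ h]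

/-- The quadratic identity of a matrix with non-positive row sums. -/
theorem form_identity {r : ℕ} (M : Fin r → Fin r → ℚ) (hsymm : ∀ i j, M i j = M j i) (d y : Fin r → ℚ) :
    ∑ i, ∑ j, (y i * d i) * (y j * d j) * M i j =
      ∑ i, y i ^ 2 * d i * (∑ j, M i j * d j) -
        (1 / 2) * ∑ i, ∑ j, M i j * d i * d j * (y i - y j) ^ 2 := by
  have e1 : ∑ i, ∑ j, M i j * d i * d j * y j ^ 2 = ∑ i, y i ^ 2 * d i * (∑ j, M i j * d j) := by
    rw [Finset.sum_comm]
    refine Finset.sum_congr rfl fun i _ => ?_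
    rw [Finset.mul_sum]
    exact Finset.sum_congr rfl fun j _ => by rw [hsymm j i]; ring
  have e2 : ∑ i, ∑ j, M i j * d i * d j * y i ^ 2 = ∑ i, y i ^ 2 * d i * (∑ j, M i j * d j) :=
    Finset.sum_congr rfl fun i _ => by rw [Finset.mul_sum]; exact Finset.sum_congr rfl fun j _ => by ring
  have e3 : ∑ i, ∑ j, M i j * d i * d j * (y i - y j) ^ 2 =
      ∑ i, ∑ j, M i j * d i * d j * y i ^ 2 + ∑ i, ∑ j, M i j * d i * d j * y j ^ 2 -
        2 * ∑ i, ∑ j, (y i * d i) * (y j * d j) * M i j := by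
    simp only [Finset.mul_sum, ← Finset.sum_add_distrib, ← Finset.sum_sub_distrib]
    exact Finset.sum_congr rfl fun i _ => Finset.sum_congr rfl fun j _ => by ring
  rw [e3, e1, e2]
  ring

/-- The form of a family of distinct components, with the residual degrees. -/
theorem form_eq (hX : IsSurf R X) {r : ℕ} (Γ : Fin r → ArSurf.VertComp R X)
    (hdist : Function.Injective fun i => Set.range (Γ i).ι.base) (L : Fin r → X.left.Modules)
    (hL : ∀ j, ClSub.IsInverseOf (L j) (ClSub.idealMod (Γ j).ι.ker)) (x : Fin r → ℚ) :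
    let M : Fin r → Fin r → ℚ := fun i j => (ArSurf.inter R X (L j) (Γ i) : ℚ)
    let d : Fin r → ℚ := fun i => (Models.mult R X (Γ i) : ℚ)
    ∑ i, ∑ j, x i * x j * M i j = ∑ i, (x i / d i) ^ 2 * d i * (∑ j, M i j * d j) -
      (1 / 2) * ∑ i, ∑ j, M i j * d i * d j * (x i / d i - x j / d j) ^ 2 := by
  intro M d
  have hd : ∀ i, d i ≠ 0 := fun i => Nat.cast_ne_zero.2 (mult_pos hX (Γ i)).ne'
  refine Eq.trans ?_ (form_identity M (fun i j => ?_) d fun i => x i / d i)
  · exact Finset.sum_congr rfl fun i _ => Finset.sum_congr rfl fun j _ => by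
      rw [div_mul_cancel₀ _ (hd i), div_mul_cancel₀ _ (hd j)]
  · by_cases h : i = j
    · rw [h]
    · show ((ArSurf.inter R X (L j) (Γ i) : ℤ) : ℚ) = (ArSurf.inter R X (L i) (Γ j) : ℤ)
      rw [inter_symm hX (Γ i) (Γ j) (fun e => h (hdist e)) (hL i) (hL j)]

theorem rowSum_nonpos (hX : IsSurf R X) {r : ℕ} (Γ : Fin r → ArSurf.VertComp R X)
    (hdist : Function.Injective fun i => Set.range (Γ i).ι.base) (L : Fin r → X.left.Modules)
    (hL : ∀ j, ClSub.IsInverseOf (L j) (ClSub.idealMod (Γ j).ι.ker)) (i : Fin r) :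
    ∑ j, (ArSurf.inter R X (L j) (Γ i) : ℚ) * (Models.mult R X (Γ j) : ℚ) ≤ 0 := by
  haveI := hX.2.2.2.2
  obtain ⟨J, LJ, hJ, hLJ, -, hgen, hrel⟩ := relation hX Γ hdist L hL
  have h := hrel (Γ i)
  have h' := inter_nonneg (Γ i) hJ (hgen i) hLJ
  have h2 : ∑ j, (Models.mult R X (Γ j) : ℤ) * ArSurf.inter R X (L j) (Γ i) ≤ 0 := by omega
  calc ∑ j, (ArSurf.inter R X (L j) (Γ i) : ℚ) * (Models.mult R X (Γ j) : ℚ)
      = ((∑ j, (Models.mult R X (Γ j) : ℤ) * ArSurf.inter R X (L j) (Γ i) : ℤ) : ℚ) := by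
        push_cast
        exact Finset.sum_congr rfl fun j _ => mul_comm _ _
    _ ≤ 0 := by exact_mod_cast h2

theorem offDiag_nonneg (hX : IsSurf R X) {Γ Δ : ArSurf.VertComp R X} {L : X.left.Modules}
    (hL : ClSub.IsInverseOf L (ClSub.idealMod Δ.ι.ker)) (hne : Set.range Γ.ι.base ≠ Set.range Δ.ι.base) :
    0 ≤ ArSurf.inter R X L Γ :=
  haveI := hX.2.2.2.2
  inter_nonneg Γ (isEffCartier hX Δ) (notMem_support hX hne) hL

/-- The form of a family of distinct components is negative semi-definite. -/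
theorem form_nonpos (hX : IsSurf R X) {r : ℕ} (Γ : Fin r → ArSurf.VertComp R X)
    (hdist : Function.Injective fun i => Set.range (Γ i).ι.base) (L : Fin r → X.left.Modules)
    (hL : ∀ j, ClSub.IsInverseOf (L j) (ClSub.idealMod (Γ j).ι.ker)) (x : Fin r → ℚ) :
    ∑ i, ∑ j, x i * x j * (ArSurf.inter R X (L j) (Γ i) : ℚ) ≤ 0 := by
  refine (form_eq hX Γ hdist L hL x).le.trans ?_
  refine sub_nonpos.2 (le_trans (Finset.sum_nonpos fun i _ =>
    mul_nonpos_of_nonneg_of_nonpos (by positivity) (rowSum_nonpos hX Γ hdist L hL i)) ?_)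
  refine mul_nonneg (by norm_num) (Finset.sum_nonneg fun i _ => Finset.sum_nonneg fun j _ => ?_)
  by_cases h : i = j
  · subst h; simp
  · have : (0 : ℚ) ≤ (ArSurf.inter R X (L j) (Γ i) : ℚ) := by
      exact_mod_cast offDiag_nonneg hX (hL j) fun e => h (hdist e)
    positivity

end Groth.Agent.ArS10
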