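import Groth.Agent.ArS10.FibreField
import Groth.Agent.LimTop61.SteinFinite

/-!
Functions on the fundamental divisor of a connected configuration of vertical curves.
-/

set_option autoImplicit false
set_option linter.style.haveILetI false
set_option backward.isDefEq.respectTransparency.types false

universe u

open CategoryTheory CategoryTheory.Limits AlgebraicGeometry TopologicalSpace Opposite
open scoped nonZeroDivisors Groth.Agent.FGA29

noncomputable section

namespace Groth.Agent.ArS10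

variable {R : Type u} [CommRing R] [IsDomain R] [IsDiscreteValuationRing R]
  {X : Over (Spec (CommRingCat.of R))} {r : ℕ}

/-- The ideal of the divisor `Σ z_i Γ_i`. -/
abbrev divI (Γ : Fin r → ArSurf.VertComp R X) (z : Fin r → ℕ) : X.left.IdealSheafData :=
  ∏ i, (Γ i).ι.ker ^ z i

theorem isEffCartier_divI (hX : IsSurf R X) (Γ : Fin r → ArSurf.VertComp R X) (z : Fin r → ℕ) :
    BlowUp.IsEffCartierIdeal (divI Γ z) :=
  Div89.DivProd.isEffCartier_prod _ _ fun i _ => ModPic.isEffCartier_pow (isEffCartier hX (Γ i)) _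

theorem divI_antitone (Γ : Fin r → ArSurf.VertComp R X) {z z' : Fin r → ℕ} (h : ∀ i, z i ≤ z' i) :
    divI Γ z' ≤ divI Γ z := by
  refine (Div89.le_iff_stalkIdeal _ _).2 fun x => ?_
  rw [Div89.stalkIdeal_prod, Div89.stalkIdeal_prod]
  refine Finset.prod_le_prod' fun i _ => ?_
  rw [Div89.stalkIdeal_pow, Div89.stalkIdeal_pow]
  exact Ideal.pow_le_pow_right (h i)

theorem divI_single (Γ : Fin r → ArSurf.VertComp R X) (i₀ : Fin r) :
    divI Γ (fun i => if i = i₀ then 1 else 0) = (Γ i₀).ι.ker := by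
  simp only [divI]
  rw [Finset.prod_eq_single i₀ (fun j _ hj => by rw [if_neg hj, pow_zero]) (by simp), if_pos rfl, pow_one]

theorem divI_update (Γ : Fin r → ArSurf.VertComp R X) (z : Fin r → ℕ) (i : Fin r) :
    divI Γ (Function.update z i (z i + 1)) = divI Γ z * (Γ i).ι.ker := by
  simp only [divI]
  rw [Fintype.prod_eq_mul_prod_compl i, Fintype.prod_eq_mul_prod_compl i (fun j => (Γ j).ι.ker ^ z j)]
  rw [Function.update_self, pow_succ, Finset.prod_congr rfl fun j hj => by
      rw [Function.update_of_ne (by simpa using hj)]]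
  ring

theorem divI_le_ker (Γ : Fin r → ArSurf.VertComp R X) {z : Fin r → ℕ} {i : Fin r} (h : 1 ≤ z i) :
    divI Γ z ≤ (Γ i).ι.ker := by
  refine le_trans ?_ (divI_single Γ i).le
  exact divI_antitone Γ fun j => by
    split_ifs with hj
    · exact hj ▸ h
    · exact Nat.zero_le _

/-- Components of a connected union: a proper nonempty subfamily meets another member. -/
theorem exists_meet {T : Type*} [TopologicalSpace T] {C : Fin r → Set T} (hC : ∀ i, IsClosed (C i))
    (hne : ∀ i, (C i).Nonempty) (hconn : IsPreconnected (⋃ i, C i)) (S : Set (Fin r))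
    (hS : S.Nonempty) (hS' : Sᶜ.Nonempty) : ∃ i ∈ S, ∃ j ∈ Sᶜ, (C i ∩ C j).Nonempty := by
  have hcl : ∀ W : Set (Fin r), IsClosed (⋃ i ∈ W, C i) := fun W =>
    W.toFinite.isClosed_biUnion fun i _ => hC i
  obtain ⟨a, ha⟩ := hS
  obtain ⟨b, hb⟩ := hS'
  obtain ⟨x, -, hx1, hx2⟩ := isPreconnected_closed_iff.1 hconn _ _ (hcl S) (hcl Sᶜ) (fun x hx => by
      obtain ⟨i, hi⟩ := Set.mem_iUnion.1 hx
      by_cases h : i ∈ S
      · exact Or.inl (Set.mem_biUnion h hi)
      · exact Or.inr (Set.mem_biUnion (show i ∈ Sᶜ from h) hi))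
    (by
      obtain ⟨x, hx⟩ := hne a
      exact ⟨x, Set.mem_iUnion.2 ⟨a, hx⟩, Set.mem_biUnion ha hx⟩)
    (by
      obtain ⟨x, hx⟩ := hne b
      exact ⟨x, Set.mem_iUnion.2 ⟨b, hx⟩, Set.mem_biUnion hb hx⟩)
  obtain ⟨i, hi, hxi⟩ := Set.mem_iUnion₂.1 hx1
  obtain ⟨j, hj, hxj⟩ := Set.mem_iUnion₂.1 hx2
  exact ⟨i, hi, j, hj, x, hxi, hxj⟩

/-- A function on the fundamental divisor vanishing on one component vanishes. -/
theorem eq_zero_of_restrict_eq_zero (hX : IsSurf R X) (Γ : Fin r → ArSurf.VertComp R X)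
    (hdist : Function.Injective fun i => Set.range (Γ i).ι.base)
    (hconn : _root_.IsPreconnected (⋃ i, Set.range (Γ i).ι.base)) (L : Fin r → X.left.Modules)
    (hL : ∀ j, ClSub.IsInverseOf (L j) (ClSub.idealMod (Γ j).ι.ker))
    (z : Fin r → ℕ) (hz1 : ∀ i, 1 ≤ z i)
    (hz : ∀ i, ∑ j, (z j : ℤ) * ArSurf.inter R X (L j) (Γ i) ≤ 0)
    (hmin : ∀ z' : Fin r → ℕ, (∀ i, 1 ≤ z' i) → (∀ i, ∑ j, (z' j : ℤ) * ArSurf.inter R X (L j) (Γ i) ≤ 0) →
      ∀ i, z i ≤ z' i)
    (f : Γ((divI Γ z).subscheme, ⊤)) (i₀ : Fin r) (g : (Γ i₀).curve.left ⟶ (divI Γ z).subscheme)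
    (hg : g ≫ (divI Γ z).subschemeι = (Γ i₀).ι) (h0 : g.appTop f = 0) : f = 0 := by
  classical
  haveI := hX.2.2.2.2
  let e₀ : Fin r → ℕ := fun i => if i = i₀ then 1 else 0
  have he₀ : ∀ i, e₀ i ≤ z i := fun i => by
    simp only [e₀]
    split_ifs with h
    · exact hz1 i
    · exact Nat.zero_le _
  let S : Finset (Fin r → ℕ) :=
    (Fintype.piFinset fun i => Finset.range (z i + 1)).filter fun w => Vanish (divI Γ w) f
  have hS : e₀ ∈ S := Finset.mem_filter.2 ⟨Fintype.mem_piFinset.2 fun i => Finset.mem_range.2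
    (Nat.lt_succ_of_le (he₀ i)), fun U a ha => by
      rw [divI_single, Scheme.Hom.ker_apply, RingHom.mem_ker]
      refine (app_of_restr _ _ hg U.1 f a ha).trans ?_
      rw [h0, map_zero]⟩
  obtain ⟨w, hwS, hle, hmax⟩ : ∃ w ∈ S, (∀ i, e₀ i ≤ w i) ∧ ∀ w' ∈ S, (∀ i, w i ≤ w' i) → w' = w := by
    obtain ⟨w, hw, hwmax⟩ := (S.filter fun w => ∀ i, e₀ i ≤ w i).exists_max_image (fun w => ∑ i, w i)
      ⟨e₀, Finset.mem_filter.2 ⟨hS, fun i => le_rfl⟩⟩
    rw [Finset.mem_filter] at hw
    refine ⟨w, hw.1, hw.2, fun w' hw' hle' => ?_⟩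
    have h1 := hwmax w' (Finset.mem_filter.2 ⟨hw', fun i => (hw.2 i).trans (hle' i)⟩)
    funext i
    by_contra hne
    have : ∑ i, w i < ∑ i, w' i := Finset.sum_lt_sum (fun j _ => hle' j)
      ⟨i, Finset.mem_univ i, lt_of_le_of_ne (hle' i) (Ne.symm hne)⟩
    omega
  obtain ⟨hwz', hwv⟩ := Finset.mem_filter.1 hwS
  have hwz : ∀ i, w i ≤ z i := fun i =>
    Nat.lt_succ_iff.1 (Finset.mem_range.1 (Fintype.mem_piFinset.1 hwz' i))
  have hrow : ∀ i, ∑ j, (w j : ℤ) * ArSurf.inter R X (L j) (Γ i) ≤ 0 := by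
    intro i
    rcases (hwz i).eq_or_lt with he | hlt
    · have h2 : 0 ≤ ∑ j, ((z j : ℤ) - w j) * ArSurf.inter R X (L j) (Γ i) := Finset.sum_nonneg fun j _ => by
        by_cases hij : j = i
        · subst hij; simp [he]
        · exact mul_nonneg (by have := hwz j; omega)
            (offDiag_nonneg hX (hL j) fun e => hij (hdist e).symm)
      simp only [sub_mul, Finset.sum_sub_distrib] at h2
      have := hz i
      omega
    · let w' : Fin r → ℕ := Function.update w i (w i + 1)
      have hw'z : ∀ j, w' j ≤ z j := fun j => by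
        simp only [w']
        rcases eq_or_ne j i with rfl | hj
        · rw [Function.update_self]; omega
        · rw [Function.update_of_ne hj]; exact hwz j
      have hww' : ∀ j, w j ≤ w' j := fun j => by
        simp only [w']
        rcases eq_or_ne j i with rfl | hj
        · rw [Function.update_self]; omega
        · rw [Function.update_of_ne hj]
      have hFz : divI Γ z ≤ divI Γ w' := divI_antitone Γ hw'z
      let f' := (Scheme.IdealSheafData.inclusion hFz).appTop f
      have hnot : ¬ Vanish (divI Γ w') f := fun hv => by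
        have := congrFun (hmax w' (Finset.mem_filter.2 ⟨Fintype.mem_piFinset.2 fun j =>
          Finset.mem_range.2 (Nat.lt_succ_of_le (hw'z j)), hv⟩) hww') i
        simp [w'] at this
      have hf' : f' ≠ 0 := fun h => hnot fun U a ha => by
        rw [← app_eq_zero_iff, restr_inclusion hFz _ f a ha,
          show (Scheme.IdealSheafData.inclusion hFz).appTop f = 0 from h, restr, map_zero]
      have hv' : ∀ (U : X.left.affineOpens) (a : Γ(X.left, U.1)),
          (divI Γ w').subschemeι.app U.1 a = restr (divI Γ w') U.1 f' → a ∈ (divI Γ w).ideal U :=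
        fun U a ha => by
        obtain ⟨b, hb⟩ := exists_lift _ U f
        have h1 := (divI_antitone Γ hww') U ((app_eq_zero_iff (divI Γ w') U (a - b)).1 (by
            rw [map_sub, ha, restr_inclusion hFz _ f b hb, sub_self]))
        simpa using add_mem h1 (hwv U b hb)
      haveI := isProper_over (Γ i)
      have hinv := Amp73.isInvertible_pullback (Γ i).ι
        ((Curves2.isInvertible_idealMod_iff _).2 (isEffCartier_divI hX Γ w))
      have hnt := exists_section (Γ i).ι (isEffCartier_divI hX Γ w) (divI_update Γ w i) f' hv' hf'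
      have hpos := Curves2.deg_nonneg_of_nontrivial (k := kk R) (dim_le_one (Γ i)) hinv
        (Crv77.sec _).toEquiv.nontrivial
      rw [← deg_eq (Γ i) hinv] at hpos
      have hval : IsVal (Γ i) (PicF.cl (ClSub.idealMod (divI Γ w)))
          (∑ j, (w j : ℤ) * -ArSurf.inter R X (L j) (Γ i)) := by
        rw [ModPic.cl_idealMod_prod_pow _ (fun j => isEffCartier hX (Γ j))]
        exact IsVal.prod _ fun j _ => (inter_idealMod hX (hL j)).pow _
      have := hval.unique ⟨_, (Curves2.isInvertible_idealMod_iff _).2 (isEffCartier_divI hX Γ w), rfl, rfl⟩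
      simp only [mul_neg, Finset.sum_neg_distrib] at this
      rw [deg, ← ArSurf.inter] at hpos
      omega
  have hw1 : ∀ i, 1 ≤ w i := by
    by_contra hcon
    obtain ⟨b, hb⟩ := not_forall.1 hcon
    obtain ⟨j, hj, i, hi, hmeet⟩ := exists_meet (fun i => (Γ i).ι.isClosedEmbedding.isClosed_range)
      (fun i => ⟨_, Set.mem_range_self (genericPoint (Γ i).curve.left)⟩) hconn {i | 1 ≤ w i}
      ⟨i₀, le_trans (by simp [e₀]) (hle i₀)⟩ ⟨b, hb⟩
    have hne : Set.range (Γ i).ι.base ≠ Set.range (Γ j).ι.base := fun e => hi (hdist e ▸ hj)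
    have hnn : 0 ≤ ArSurf.inter R X (L j) (Γ i) := offDiag_nonneg hX (hL j) hne
    have hpos : 0 < ArSurf.inter R X (L j) (Γ i) := lt_of_le_of_ne hnn fun h => by
      have := (inter_eq_zero_iff (Γ i) (isEffCartier hX (Γ j)) (notMem_support hX hne) (hL j)).1 h.symm
      obtain ⟨x, hxj, hxi⟩ := hmeet
      exact Set.disjoint_left.1 this hxi ((ModPic.support_cI (p := X.hom) (Γ j)).ge hxj)
    have hterm : 0 < ∑ j', (w j' : ℤ) * ArSurf.inter R X (L j') (Γ i) := by
      refine lt_of_lt_of_le (mul_pos (show (0 : ℤ) < w j by exact_mod_cast hj) hpos)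
        (Finset.single_le_sum (f := fun j' => (w j' : ℤ) * ArSurf.inter R X (L j') (Γ i))
          (fun j' _ => ?_) (Finset.mem_univ j))
      rcases eq_or_ne j' i with rfl | hne'
      · have : w j' = 0 := Nat.lt_one_iff.1 (not_le.1 hi)
        simp [this]
      · exact mul_nonneg (Int.natCast_nonneg _) (offDiag_nonneg hX (hL j') fun e => hne' (hdist e).symm)
    have := hrow i
    omega
  have hwe : w = z := funext fun i => le_antisymm (hwz i) (hmin w hw1 hrow i)
  exact eq_zero_of_vanish (hwe ▸ hwv)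

/-- The functions on the fundamental divisor form a field. -/
theorem isField_fundamental (hX : IsSurf R X) (Γ : Fin r → ArSurf.VertComp R X)
    (hdist : Function.Injective fun i => Set.range (Γ i).ι.base)
    (hconn : _root_.IsConnected (⋃ i, Set.range (Γ i).ι.base)) (L : Fin r → X.left.Modules)
    (hL : ∀ j, ClSub.IsInverseOf (L j) (ClSub.idealMod (Γ j).ι.ker))
    (z : Fin r → ℕ) (hz1 : ∀ i, 1 ≤ z i)
    (hz : ∀ i, ∑ j, (z j : ℤ) * ArSurf.inter R X (L j) (Γ i) ≤ 0)
    (hmin : ∀ z' : Fin r → ℕ, (∀ i, 1 ≤ z' i) → (∀ i, ∑ j, (z' j : ℤ) * ArSurf.inter R X (L j) (Γ i) ≤ 0) →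
      ∀ i, z i ≤ z' i) :
    IsField Γ((divI Γ z).subscheme, ⊤) := by
  haveI := hX.2.2.2.2
  obtain ⟨x, hx⟩ := hconn.nonempty
  obtain ⟨i₀, -⟩ := Set.mem_iUnion.1 hx
  let g : (Γ i₀).curve.left ⟶ (divI Γ z).subscheme := IsClosedImmersion.lift (divI Γ z).subschemeι (Γ i₀).ι (by
    rw [Scheme.IdealSheafData.ker_subschemeι]; exact divI_le_ker Γ (hz1 i₀))
  have hg : g ≫ (divI Γ z).subschemeι = (Γ i₀).ι := IsClosedImmersion.lift_fac _ _ _
  have hinj : Function.Injective g.appTop.hom := (injective_iff_map_eq_zero _).2 fun f hf =>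
    eq_zero_of_restrict_eq_zero hX Γ hdist hconn.isPreconnected L hL z hz1 hz hmin f i₀ g hg hf
  haveI : Nontrivial Γ((Γ i₀).curve.left, ⊤) := by
    haveI : Nonempty (⊤ : (Γ i₀).curve.left.Opens) := ⟨⟨genericPoint _, trivial⟩⟩
    infer_instance
  haveI : IsDomain Γ((divI Γ z).subscheme, ⊤) := hinj.isDomain g.appTop.hom
  let φ : R →+* Γ((divI Γ z).subscheme, ⊤) :=
    ((Scheme.ΓSpecIso (CommRingCat.of R)).inv ≫ ((divI Γ z).subschemeι ≫ X.hom).appTop).hom
  have hfin : φ.Finite := LimTop61.finite_appTop_of_isProper (CommRingCat.of R) ((divI Γ z).subschemeι ≫ X.hom)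
  have hker : IsLocalRing.maximalIdeal R ≤ RingHom.ker φ := fun a ha => by
    refine RingHom.mem_ker.2 (hinj ?_)
    have e1 : CommRingCat.ofHom φ ≫ g.appTop = CommRingCat.ofHom (IsLocalRing.residue R) ≫
        (Scheme.ΓSpecIso (CommRingCat.of (IsLocalRing.ResidueField R))).inv ≫ (Γ i₀).curve.hom.appTop := by
      simp only [φ, CommRingCat.ofHom_hom]
      rw [Category.assoc, ← Scheme.Hom.comp_appTop, ← Category.assoc g, hg, (Γ i₀).w, Scheme.Hom.comp_appTop,
        Scheme.ΓSpecIso_inv_naturality_assoc]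
    have e2 := congr($(e1).hom a)
    simp only [CommRingCat.hom_comp, CommRingCat.hom_ofHom, RingHom.comp_apply] at e2
    rw [map_zero, e2, (IsLocalRing.residue_eq_zero_iff a).2 ha, map_zero, map_zero]
  let ρ : R ⧸ IsLocalRing.maximalIdeal R →+* Γ((divI Γ z).subscheme, ⊤) :=
    Ideal.Quotient.lift _ φ fun a ha => hker ha
  have hρ : ρ.Finite := RingHom.Finite.of_comp_finite (f := Ideal.Quotient.mk _) (g := ρ) (by exact hfin)
  letI := Ideal.Quotient.field (IsLocalRing.maximalIdeal R)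
  letI := ρ.toAlgebra
  haveI : Module.Finite (R ⧸ IsLocalRing.maximalIdeal R) Γ((divI Γ z).subscheme, ⊤) := hρ
  exact isField_of_isIntegral_of_isField' (Field.toIsField (R ⧸ IsLocalRing.maximalIdeal R))

end Groth.Agent.ArS10
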