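import Groth.Agent.SpFP87.FieldMono
import Groth.Agent.Stein58.GeomConnGamma
import Groth.Agent.VarH0x75.Global
import Mathlib.AlgebraicGeometry.Morphisms.UniversallyOpen
import Mathlib.RingTheory.LocalRing.Length
import Mathlib.AlgebraicGeometry.Stalk

/-!
Geometric multiplicities: the length of the local ring at a maximal point of a geometric fibre.
-/

set_option autoImplicit false
set_option linter.style.haveILetI false
set_option backward.isDefEq.respectTransparency.types false

universe u

open CategoryTheory CategoryTheory.Limits AlgebraicGeometry TopologicalSpace TensorProduct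

noncomputable section

namespace Groth.Agent.ArS10

theorem length_self_of_equiv {A B : Type u} [CommRing A] [CommRing B] (e : A ≃+* B) :
    Module.length A A = Module.length B B := by
  letI := e.toRingHom.toAlgebra
  let l : A ≃ₗ[A] B := { e with map_smul' := fun a x => map_mul e a x }
  exact l.length_eq.trans (Module.length_eq_of_surjective (M := B) (S := A) (R := B) e.surjective)

theorem stalk_length_eq_of_iso {P Q : Scheme.{u}} (e : P ≅ Q) (x : P) :
    Module.length (P.presheaf.stalk x) (P.presheaf.stalk x) =
      Module.length (Q.presheaf.stalk (e.hom x)) (Q.presheaf.stalk (e.hom x)) :=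
  (length_self_of_equiv (asIso (e.hom.stalkMap x)).commRingCatIsoToRingEquiv).symm

/-- Along a flat morphism the length of a local ring is divisible by the length of the image. -/
theorem length_dvd_of_flat {P Z : Scheme.{u}} (π : P ⟶ Z) [Flat π] (x : P) :
    (Module.length (Z.presheaf.stalk (π x)) (Z.presheaf.stalk (π x))).toNat ∣
      (Module.length (P.presheaf.stalk x) (P.presheaf.stalk x)).toNat := by
  let A := Z.presheaf.stalk (π x)
  let B := P.presheaf.stalk x
  letI : Algebra A B := (π.stalkMap x).hom.toAlgebra
  haveI : IsLocalHom (algebraMap A B) := π.toLRSHom.prop x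
  haveI : Module.Flat A B := Flat.stalkMap π x
  have h := IsLocalRing.length_baseChange A B A
  rw [(Algebra.TensorProduct.rid A B B).toLinearEquiv.length_eq] at h
  rw [h, ENat.toNat_mul]
  exact dvd_mul_right _ _

/-- Flat morphisms map maximal points to maximal points. -/
theorem maximal_image_of_flat {P Z : Scheme.{u}} (π : P ⟶ Z) [Flat π] (x : P)
    (hx : ∀ y : P, y ⤳ x → y = x) (z : Z) (hz : z ⤳ π x) : z = π x := by
  obtain ⟨y, hy, rfl⟩ := Flat.generalizingMap π hz
  rw [hx y hy]

variable {k : Type u} [Field k]

/-- If the functions of `Z` form a finite field extension, its degree divides every length of a local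
ring of the base change to an algebraically closed field. -/
theorem finrank_dvd_length (L : Type u) [Field L] [Algebra k L] [IsAlgClosed L] {Z : Scheme.{u}}
    (g : Z ⟶ Spec (CommRingCat.of k)) [QuasiCompact g] [QuasiSeparated g] (hK : IsField Γ(Z, ⊤))
    [ConnectedSpace ↥(pullback g (VarH0x75.fieldMap k L))]
    (hfin : ((Scheme.ΓSpecIso (CommRingCat.of k)).inv ≫ g.appTop).hom.Finite)
    (x : ↥(pullback g (VarH0x75.fieldMap k L))) :
    letI := ((Scheme.ΓSpecIso (CommRingCat.of k)).inv ≫ g.appTop).hom.toAlgebra
    Module.finrank k Γ(Z, ⊤) ∣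
      (Module.length ((pullback g (VarH0x75.fieldMap k L)).presheaf.stalk x)
        ((pullback g (VarH0x75.fieldMap k L)).presheaf.stalk x)).toNat := by
  let σ : k →+* Γ(Z, ⊤) := ((Scheme.ΓSpecIso (CommRingCat.of k)).inv ≫ g.appTop).hom
  letI : Algebra k Γ(Z, ⊤) := σ.toAlgebra
  haveI : Module.Finite k Γ(Z, ⊤) := hfin
  let T : Type u := L ⊗[k] Γ(Z, ⊤)
  -- the base change of the algebra of functions is local
  obtain ⟨eT⟩ := VarH0x75.nonempty_tensor_equiv k L g
  haveI : Nontrivial T := by
    haveI : Nontrivial Γ(pullback g (VarH0x75.fieldMap k L), ⊤) :=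
      ((pullback g (VarH0x75.fieldMap k L)).presheaf.germ ⊤ x trivial).hom.domain_nontrivial
    exact (eT : T ≃+* _).toRingHom.domain_nontrivial
  have hu : ∀ a : T, IsUnit a ∨ IsNilpotent a := Stein58.isUnit_or_isNilpotent (K := L) fun e he =>
    (VarH0x75.idempotent_trivial (eT e) ((map_mul eT e e).symm.trans (congrArg eT he))).imp
      (fun h => eT.injective (h.trans (map_zero eT).symm))
      fun h => eT.injective (h.trans (map_one eT).symm)
  haveI : IsLocalRing T := (Stein58.isLocalRing_and_dim hu).1
  have hlen : Module.length T T = Module.finrank k Γ(Z, ⊤) := by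
    haveI : IsLocalHom (algebraMap L T) := ⟨fun a ha => isUnit_iff_ne_zero.2 fun h => by
      rw [h, map_zero] at ha
      exact not_isUnit_zero ha⟩
    have h1 := IsLocalRing.length_restrictScalars L T T
    rw [Module.length_eq_finrank, Module.finrank_baseChange] at h1
    haveI : Algebra.IsIntegral L (IsLocalRing.ResidueField T) := Algebra.IsIntegral.of_finite _ _
    have h2 : Module.length (IsLocalRing.ResidueField L) (IsLocalRing.ResidueField T) = 1 := by
      rw [← Module.length_eq_of_surjective (M := IsLocalRing.ResidueField T)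
        (IsLocalRing.residue_surjective (R := L))]
      have e := LinearEquiv.ofBijective (Algebra.linearMap L (IsLocalRing.ResidueField T))
        (IsAlgClosed.algebraMap_bijective_of_isIntegral (k := L) (K := IsLocalRing.ResidueField T))
      rw [← e.length_eq]
      exact Module.length_eq_one L L
    rw [h2, mul_one] at h1
    exact h1.symm
  -- the base change as a flat scheme over `Spec T`
  let inR : CommRingCat.of Γ(Z, ⊤) ⟶ CommRingCat.of T :=
    CommRingCat.ofHom (Algebra.TensorProduct.includeRight.toRingHom)
  let inL : CommRingCat.of L ⟶ CommRingCat.of T :=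
    CommRingCat.ofHom Algebra.TensorProduct.includeLeftRingHom
  let τ : Z ⟶ Spec (CommRingCat.of Γ(Z, ⊤)) := Z.toSpecΓ
  have hg : τ ≫ Spec.map (CommRingCat.ofHom σ) = g := by
    show Z.toSpecΓ ≫ Spec.map ((Scheme.ΓSpecIso (CommRingCat.of k)).inv ≫ g.appTop) = g
    rw [Spec.map_comp, ← Category.assoc, ← Scheme.toSpecΓ_naturality, Category.assoc,
      ← SpecMap_ΓSpecIso_hom, ← Spec.map_comp, Iso.inv_hom_id, Spec.map_id, Category.comp_id]
  have hsq : IsPullback (Spec.map inR) (Spec.map inL) (Spec.map (CommRingCat.ofHom σ))
      (VarH0x75.fieldMap k L) :=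
    (isPullback_SpecMap_of_isPushout _ _ _ _ (CommRingCat.isPushout_tensorProduct k L Γ(Z, ⊤))).flip
  have hP : IsPullback (pullback.fst τ (Spec.map inR)) (pullback.snd τ (Spec.map inR) ≫ Spec.map inL)
      g (VarH0x75.fieldMap k L) := by
    rw [← hg]
    exact (IsPullback.of_hasPullback τ (Spec.map inR)).paste_vert hsq
  let e := hP.isoPullback
  let x' := e.inv x
  have hx : e.hom x' = x := by
    show (e.inv ≫ e.hom) x = x
    rw [e.inv_hom_id]
    rfl
  haveI : Flat τ := by
    letI := hK.toField
    exact SpFP87.flat_to_specField (K := Γ(Z, ⊤)) τ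
  have h := length_dvd_of_flat (pullback.snd τ (Spec.map inR)) x'
  have hpt : (pullback.snd τ (Spec.map inR)) x' = IsLocalRing.closedPoint T := by
    refine PrimeSpectrum.ext ?_
    refine le_antisymm (IsLocalRing.le_maximalIdeal (Ideal.IsPrime.ne_top')) fun a ha => ?_
    obtain ⟨n, hn⟩ := (hu a).resolve_left ha
    exact Ideal.IsPrime.mem_of_pow_mem inferInstance n (hn.symm ▸ Ideal.zero_mem _)
  rw [hpt, length_self_of_equiv (stalkClosedPointIso (CommRingCat.of T)).commRingCatIsoToRingEquiv,
    hlen, ENat.toNat_natCast] at h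
  rw [← hx, ← stalk_length_eq_of_iso e x']
  exact h

end Groth.Agent.ArS10
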