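import Groth.Agent.ArS10.Comp
import Groth.Agent.E4O.DvrLift
import Mathlib.RingTheory.ZariskisMainTheorem
import Mathlib.RingTheory.Ideal.KrullsHeightTheorem

/-!
Horizontal effective Cartier divisors over a henselian discrete valuation ring.
-/

set_option autoImplicit false
set_option linter.style.haveILetI false
set_option backward.isDefEq.respectTransparency.types false

universe u

open CategoryTheory CategoryTheory.Limits AlgebraicGeometry TopologicalSpace IsLocalRing

noncomputable section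

namespace Groth.Agent.ArS10

/-- Four primes in a strict chain contradict dimension at most two. -/
theorem false_of_chain {C : Type u} [CommRing C] (h : ringKrullDim C ≤ 2) {a b c d : Ideal C}
    (ha : a.IsPrime) (hb : b.IsPrime) (hc : c.IsPrime) (hd : d.IsPrime) (hab : a < b) (hbc : b < c)
    (hcd : c < d) : False := by
  let s : LTSeries (PrimeSpectrum C) :=
    (((RelSeries.singleton _ (⟨a, ha⟩ : PrimeSpectrum C)).snoc ⟨b, hb⟩ hab).snoc ⟨c, hc⟩
      (by rw [RelSeries.last_snoc]; exact hbc)).snoc ⟨d, hd⟩ (by rw [RelSeries.last_snoc]; exact hcd)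
  have h3 : ((3 : ℕ) : WithBot ℕ∞) ≤ ringKrullDim C := Order.LTSeries.length_le_krullDim s
  exact absurd (h3.trans h) (by decide)

/-- Over a henselian local ring a domain of finite type with a point isolated in the closed fibre is finite. -/
theorem finite_of_isolated {R C : Type u} [CommRing R] [IsLocalRing R] [IsNoetherianRing R]
    [HenselianRing R (maximalIdeal R)] [CommRing C] [IsDomain C] [Algebra R C] [Algebra.FiniteType R C]
    (q : Ideal C) [q.IsMaximal] (hq : q.under R = maximalIdeal R)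
    (hmin : ∀ Q : Ideal C, Q.IsPrime → Q ≤ q → (maximalIdeal R).map (algebraMap R C) ≤ Q → Q = q) :
    Module.Finite R C := by
  haveI : IsNoetherianRing C := Algebra.FiniteType.isNoetherianRing R C
  set J := (maximalIdeal R).map (algebraMap R C)
  have hfin := Ideal.finite_minimalPrimes_of_isNoetherianRing C J
  haveI : Algebra.QuasiFiniteAt R q := by
    refine Algebra.QuasiFiniteAt.of_isOpen_singleton_fiber (⟨q, inferInstance⟩ : PrimeSpectrum C) ?_
    rw [isOpen_induced_iff]
    refine ⟨(⋃ P ∈ J.minimalPrimes \ {q}, PrimeSpectrum.zeroLocus (P : Set C))ᶜ,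
      (((hfin.subset Set.diff_subset)).isClosed_biUnion fun P _ => PrimeSpectrum.isClosed_zeroLocus _).isOpen_compl, ?_⟩
    ext ⟨Q, hQ⟩
    simp only [Set.mem_preimage, Set.mem_compl_iff, Set.mem_iUnion, not_exists, Set.mem_singleton_iff,
      Subtype.mk.injEq]
    constructor
    · intro h
      have hJQ : J ≤ Q.asIdeal := Ideal.map_le_iff_le_comap.2 (by
        have := congrArg PrimeSpectrum.asIdeal hQ
        exact (this.trans hq).ge)
      obtain ⟨P, hP, hPQ⟩ := Ideal.exists_minimalPrimes_le hJQ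
      have hPq : P = q := by
        by_contra hne
        exact h P ⟨hP, hne⟩ hPQ
      exact PrimeSpectrum.ext ((Ideal.IsMaximal.eq_of_le inferInstance Q.isPrime.ne_top (hPq ▸ hPQ)).symm)
    · rintro rfl P ⟨hP, hne⟩ hPQ
      exact hne (hmin P hP.1.1 hPQ hP.1.2)
  exact E4O.finite_of_quasiFiniteAt_henselian q hq

/-- A closed immersion cut out in an affine open by a nonzerodivisor is an effective Cartier divisor. -/
theorem isEffCartier_of_affine_chart {X : Scheme.{u}} {V : X.Opens} (hV : IsAffineOpen V) (f : Γ(X, V))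
    (hf : f ∈ nonZeroDivisors Γ(X, V))
    (d : Spec (CommRingCat.of (Γ(X, V) ⧸ Ideal.span {f})) ⟶ X) [IsClosedImmersion d]
    (hd : Spec.map (CommRingCat.ofHom (Ideal.Quotient.mk (Ideal.span {f}))) ≫ hV.fromSpec = d) :
    BlowUp.IsEffCartierIdeal d.ker := by
  have hrange : Set.range d ⊆ V := by
    subst hd
    rintro _ ⟨z, rfl⟩
    rw [Scheme.Hom.comp_apply]
    exact hV.range_fromSpec.le ⟨_, rfl⟩
  intro x
  by_cases hx : x ∈ Set.range d
  · refine ⟨⟨V, hV⟩, hrange hx, f, hf, ?_⟩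
    subst hd
    set φ := CommRingCat.ofHom (Ideal.Quotient.mk (Ideal.span {f}))
    have htop : (Spec.map φ ≫ hV.fromSpec) ⁻¹ᵁ V = ⊤ := by
      rw [Scheme.Hom.comp_preimage, hV.fromSpec_preimage_self]
      rfl
    have e : (Spec.map φ ≫ hV.fromSpec).appLE V ⊤ htop.ge = φ ≫ (Scheme.ΓSpecIso _).inv := by
      rw [Scheme.ΓSpecIso_inv_naturality]
      have h1 : hV.fromSpec.appLE V ⊤ hV.fromSpec_preimage_self.ge = (Scheme.ΓSpecIso Γ(X, V)).inv := by
        rw [Scheme.Hom.appLE, hV.fromSpec_app_self, Category.assoc, ← Functor.map_comp]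
        exact (congrArg (_ ≫ ·) ((congrArg _ (Subsingleton.elim _ (𝟙 _))).trans
          ((Spec Γ(X, V)).presheaf.map_id _))).trans (Category.comp_id _)
      show _ = (Scheme.ΓSpecIso Γ(X, V)).inv ≫ _
      rw [← h1, ← Scheme.Hom.appLE_comp_appLE _ _ V ⊤ ⊤ hV.fromSpec_preimage_self.ge le_rfl]
      exact congrArg (_ ≫ ·) (Scheme.Hom.app_eq_appLE _).symm
    ext a
    rw [Scheme.Hom.ker_apply, RingHom.mem_ker]
    have h2 : (Spec.map φ ≫ hV.fromSpec).appLE V ⊤ htop.ge a = 0 ↔
        (Spec.map φ ≫ hV.fromSpec).app V a = 0 := by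
      rw [Scheme.Hom.appLE, ConcreteCategory.comp_apply]
      exact map_eq_zero_iff _ (ConcreteCategory.bijective_of_isIso
        ((Spec (CommRingCat.of (Γ(X, V) ⧸ Ideal.span {f}))).presheaf.map (eqToHom htop.symm).op)).1
    rw [← h2, e, ConcreteCategory.comp_apply]
    rw [map_eq_zero_iff _ (ConcreteCategory.bijective_of_isIso (Scheme.ΓSpecIso _).inv).1]
    exact Ideal.Quotient.eq_zero_iff_mem
  · obtain ⟨_, ⟨W, hW, rfl⟩, hxW, hWd⟩ := X.isBasis_affineOpens.exists_subset_of_mem_open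
      (show x ∈ (Set.range d)ᶜ from hx) d.isClosedEmbedding.isClosed_range.isOpen_compl
    refine ⟨⟨W, hW⟩, hxW, 1, one_mem _, ?_⟩
    rw [Ideal.span_singleton_one, eq_top_iff]
    intro a _
    rw [Scheme.Hom.ker_apply, RingHom.mem_ker]
    have hemp : d ⁻¹ᵁ W = ⊥ := Opens.ext (Set.eq_empty_of_forall_notMem fun z hz => hWd hz ⟨z, rfl⟩)
    haveI : Subsingleton Γ(Spec (CommRingCat.of (Γ(X, V) ⧸ Ideal.span {f})), d ⁻¹ᵁ W) := hemp ▸ inferInstance
    exact Subsingleton.elim _ _

variable {R : Type u} [CommRing R] [IsDomain R] [IsDiscreteValuationRing R]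

theorem exists_horizontal [HenselianLocalRing R] (X : Over (Spec (CommRingCat.of R))) [IsIntegral X.left]
    (hdim : topologicalKrullDim X.left = 2) [Flat X.hom] [IsProper X.hom]
    (x : X.left) (hx : IsClosed ({x} : Set X.left)) (hxs : x ∈ Models.specialFibreSet R X) :
    ∃ (D : Scheme.{u}) (d : D ⟶ X.left), IsClosedImmersion d ∧ BlowUp.IsEffCartierIdeal d.ker ∧
      (∀ p : D, ∃ q : D, q ⤳ p ∧ ((d ≫ X.hom).base q).asIdeal = ⊥) ∧
      Set.range d.base ∩ Models.specialFibreSet R X = {x} := by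
  classical
  obtain ⟨_, ⟨U, hU, rfl⟩, hxU, -⟩ := X.left.isBasis_affineOpens.exists_subset_of_mem_open
    (Set.mem_univ x) isOpen_univ
  haveI : Nonempty U := ⟨⟨x, hxU⟩⟩
  obtain ⟨φ, hφ⟩ := Spec.map_surjective (hU.fromSpec ≫ X.hom)
  have hft : φ.hom.FiniteType := by
    have h1 : LocallyOfFiniteType (Spec.map φ) := by rw [hφ]; infer_instance
    exact (HasRingHomProperty.Spec_iff (P := @LocallyOfFiniteType)).1 h1
  letI : Algebra R Γ(X.left, U) := φ.hom.toAlgebra
  haveI : Algebra.FiniteType R Γ(X.left, U) := hft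
  haveI : IsNoetherianRing Γ(X.left, U) := Algebra.FiniteType.isNoetherianRing R _
  have hpt : ∀ z : PrimeSpectrum Γ(X.left, U),
      (X.hom.base (hU.fromSpec z)).asIdeal = z.asIdeal.under R := fun z => by
    rw [← Scheme.Hom.comp_apply, ← hφ]
    rfl
  have hfib : ∀ z : PrimeSpectrum Γ(X.left, U),
      hU.fromSpec z ∈ Models.specialFibreSet R X ↔ z.asIdeal.under R = maximalIdeal R := fun z => by
    show X.hom.base (hU.fromSpec z) = closedPoint R ↔ _
    refine PrimeSpectrum.ext_iff.trans ?_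
    rw [hpt]
    rfl
  have hC : ringKrullDim Γ(X.left, U) ≤ 2 := by
    rw [← PrimeSpectrum.topologicalKrullDim_eq_ringKrullDim, ← hdim]
    exact hU.fromSpec.isOpenEmbedding.isInducing.topologicalKrullDim_le
  set qx := hU.primeIdealOf ⟨x, hxU⟩
  set q : Ideal Γ(X.left, U) := qx.asIdeal
  have hqx : hU.fromSpec qx = x := hU.fromSpec_primeIdealOf _
  haveI hqmax : q.IsMaximal := by
    rw [← PrimeSpectrum.isClosed_singleton_iff_isMaximal]
    have : ({qx} : Set (PrimeSpectrum Γ(X.left, U))) = hU.fromSpec ⁻¹' {x} := by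
      ext z
      simp only [Set.mem_singleton_iff, Set.mem_preimage]
      exact ⟨fun h => h ▸ hqx, fun h => hU.fromSpec.isOpenEmbedding.injective (h.trans hqx.symm)⟩
    rw [this]
    exact hx.preimage hU.fromSpec.continuous
  have hq : q.under R = maximalIdeal R := (hfib qx).1 (hqx.symm ▸ hxs)
  set J := (maximalIdeal R).map (algebraMap R Γ(X.left, U))
  have hbot : ¬ J ≤ ⊥ := fun h => genericPoint_notMem_fibre (X := X) (by
    have h1 : hU.fromSpec (⟨⊥, Ideal.isPrime_bot⟩ : PrimeSpectrum Γ(X.left, U)) = genericPoint X.left := by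
      refine (Specializes.antisymm (genericPoint_specializes _) ?_).eq.symm
      obtain ⟨g, hg⟩ := hU.range_fromSpec.ge
        (((genericPoint_spec X.left).mem_open_set_iff U.2).2 ⟨x, trivial, hxU⟩)
      rw [← hg]
      exact ((PrimeSpectrum.le_iff_specializes ⟨⊥, Ideal.isPrime_bot⟩ g).1 bot_le).map hU.fromSpec.continuous
    rw [← h1, hfib]
    exact ((maximalIdeal.isMaximal R).eq_of_le (Ideal.IsPrime.comap (hK := Ideal.isPrime_bot) _).ne_top
      (Ideal.map_le_iff_le_comap.1 h)).symm)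
  have hJq : J ≤ q := Ideal.map_le_iff_le_comap.2 hq.ge
  -- the point is not isolated in the closed fibre
  have hnot : ∀ P ∈ J.minimalPrimes, P ≠ q := by
    rintro P hP rfl
    haveI := finite_of_isolated (R := R) q hq fun Q hQ hle hJQ => le_antisymm hle (hP.2 ⟨hQ, hJQ⟩ hle)
    have hfromclosed : IsClosed (Set.range hU.fromSpec) := by
      haveI : IsFinite (Spec.map φ) := (IsFinite.SpecMap_iff _).2 (RingHom.finite_algebraMap.2 inferInstance)
      haveI : IsProper (hU.fromSpec ≫ X.hom) := by rw [← hφ]; infer_instance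
      haveI : IsProper hU.fromSpec := IsProper.of_comp hU.fromSpec X.hom
      exact hU.fromSpec.isClosedMap.isClosed_range
    have huniv : Set.range hU.fromSpec = Set.univ :=
      IsClopen.eq_univ ⟨hfromclosed, hU.fromSpec.isOpenEmbedding.isOpen_range⟩ ⟨x, qx, hqx⟩
    have hhom : IsHomeomorph hU.fromSpec :=
      (isHomeomorph_iff_isEmbedding_surjective).2
        ⟨hU.fromSpec.isOpenEmbedding.isEmbedding, Set.range_eq_univ.1 huniv⟩
    have h1 : ringKrullDim Γ(X.left, U) ≤ ringKrullDim R :=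
      Order.krullDim_le_of_strictMono (PrimeSpectrum.comap (algebraMap R Γ(X.left, U)))
        fun a b hab => Ideal.IsIntegral.comap_lt_comap hab
    have h2 : ringKrullDim R ≤ 1 := Ring.krullDimLE_iff.1 inferInstance
    rw [← PrimeSpectrum.topologicalKrullDim_eq_ringKrullDim] at h1
    have h3 := (hhom.topologicalKrullDim_eq _).symm.le.trans (h1.trans h2)
    rw [hdim] at h3
    exact absurd h3 (by decide)
  -- choose the equation
  obtain ⟨f, hfq, hfP⟩ : ∃ f ∈ q, ∀ P ∈ J.minimalPrimes, f ∉ P := by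
    have hfin := Ideal.finite_minimalPrimes_of_isNoetherianRing Γ(X.left, U) J
    have h := (Ideal.subset_union_prime (R := Γ(X.left, U)) (s := hfin.toFinset) (f := fun P => P) ⊥ ⊥
      (fun P hP _ _ => (hfin.mem_toFinset.1 hP).1.1) (I := q))
    by_contra hcon
    push Not at hcon
    obtain ⟨P, hP, hle⟩ := h.1 fun a ha => by
      obtain ⟨P, hP, haP⟩ := hcon a ha
      exact Set.mem_biUnion (hfin.mem_toFinset.2 hP) haP
    have hP' := hfin.mem_toFinset.1 hP
    exact hnot P hP' (hqmax.eq_of_le hP'.1.1.ne_top hle).symm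
  obtain ⟨P₀, hP₀, hP₀q⟩ := Ideal.exists_minimalPrimes_le hJq
  have hf0 : f ≠ 0 := fun h => hfP P₀ hP₀ (h ▸ P₀.zero_mem)
  have hchain : ∀ Q : Ideal Γ(X.left, U), Q.IsPrime → Q ≤ q → J ≤ Q → f ∈ Q → Q = q := by
    intro Q hQ hQq hJQ hfQ
    obtain ⟨P, hP, hPQ⟩ := Ideal.exists_minimalPrimes_le hJQ
    by_contra hne
    exact false_of_chain hC Ideal.isPrime_bot hP.1.1 hQ inferInstance
      (bot_lt_iff_ne_bot.2 fun h => hbot (h ▸ hP.1.2))
      (lt_of_le_of_ne hPQ fun h => hfP P hP (h ▸ hfQ)) (lt_of_le_of_ne hQq hne)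
  -- the components through the point
  set I := Ideal.span ({f} : Set Γ(X.left, U))
  have hIfin := Ideal.finite_minimalPrimes_of_isNoetherianRing Γ(X.left, U) I
  set S := hIfin.toFinset.filter fun P => P ≤ q
  set S' := hIfin.toFinset.filter fun P => ¬ P ≤ q
  have hS : ∀ P ∈ S, P.IsPrime ∧ f ∈ P ∧ P ≤ q ∧ ¬ J ≤ P := by
    intro P hP
    obtain ⟨hP1, hP2⟩ := Finset.mem_filter.1 hP
    have hmin := hIfin.mem_toFinset.1 hP1
    have hfP' : f ∈ P := hmin.1.2 (Ideal.mem_span_singleton_self f)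
    refine ⟨hmin.1.1, hfP', hP2, fun hJP => ?_⟩
    have hPq := hchain P hmin.1.1 hP2 hJP hfP'
    have h1 : P.height ≤ 1 := Ideal.height_le_one_of_isPrincipal_of_mem_minimalPrimes I P hmin
    haveI := hmin.1.1
    haveI := hP₀.1.1
    have h2 : (P₀ : Ideal Γ(X.left, U)) < P :=
      lt_of_le_of_ne (hPq ▸ hP₀q) fun h => hfP P₀ hP₀ (h ▸ hfP')
    have h3 : P₀.height < P.height := Ideal.height_strict_mono_of_isPrime h2
    have h4 : (⊥ : Ideal Γ(X.left, U)).height < P₀.height := by
      haveI := Ideal.isPrime_bot (α := Γ(X.left, U))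
      exact Ideal.height_strict_mono_of_isPrime (bot_lt_iff_ne_bot.2 fun h => hbot (h ▸ hP₀.1.2))
    have h5 : (1 : ℕ∞) ≤ P₀.height := Order.one_le_iff_pos.2 (lt_of_le_of_lt bot_le h4)
    exact absurd (lt_of_le_of_lt h5 h3) (not_lt.2 h1)
  have hloc : ∀ P ∈ S, Module.Finite R (Γ(X.left, U) ⧸ P) ∧
      ∀ Q : Ideal Γ(X.left, U), Q.IsPrime → P ≤ Q → Q.IsMaximal → Q = q := by
    intro P hP
    obtain ⟨hPp, hfP', hPq, -⟩ := hS P hP
    haveI := hPp
    haveI : Algebra.FiniteType R (Γ(X.left, U) ⧸ P) :=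
      Algebra.FiniteType.of_surjective (Ideal.Quotient.mkₐ R P) (Ideal.Quotient.mkₐ_surjective R P)
    haveI : (q.map (Ideal.Quotient.mk P)).IsMaximal :=
      Ideal.IsMaximal.map_of_surjective_of_ker_le Ideal.Quotient.mk_surjective (by rwa [Ideal.mk_ker])
    have hcm : (q.map (Ideal.Quotient.mk P)).comap (Ideal.Quotient.mk P) = q := by
      rw [Ideal.comap_map_of_surjective _ Ideal.Quotient.mk_surjective, ← RingHom.ker_eq_comap_bot,
        Ideal.mk_ker, sup_eq_left]
      exact hPq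
    have hfin : Module.Finite R (Γ(X.left, U) ⧸ P) := by
      refine finite_of_isolated (q.map (Ideal.Quotient.mk P)) ?_ fun Q hQ hle hJQ => ?_
      · rw [← hq]
        conv_rhs => rw [← hcm]
        rfl
      · haveI := hQ
        have h1 : Q.comap (Ideal.Quotient.mk P) = q := by
          refine hchain _ (Ideal.IsPrime.comap _) ((Ideal.comap_mono hle).trans hcm.le) ?_ ?_
          · rw [Ideal.map_le_iff_le_comap, Ideal.comap_comap]
            exact Ideal.map_le_iff_le_comap.1 hJQ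
          · rw [Ideal.mem_comap, Ideal.Quotient.eq_zero_iff_mem.2 hfP']
            exact Q.zero_mem
        rw [← h1, Ideal.map_comap_of_surjective _ Ideal.Quotient.mk_surjective]
    refine ⟨hfin, fun Q hQ hPQ hQm => ?_⟩
    haveI := hfin
    haveI : IsLocalRing (Γ(X.left, U) ⧸ P) := E4O.isLocalRing_of_finite_henselian (A := R)
    haveI : (Q.map (Ideal.Quotient.mk P)).IsMaximal :=
      Ideal.IsMaximal.map_of_surjective_of_ker_le Ideal.Quotient.mk_surjective (by rwa [Ideal.mk_ker])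
    have h := congrArg (Ideal.comap (Ideal.Quotient.mk P))
      ((IsLocalRing.eq_maximalIdeal (I := Q.map (Ideal.Quotient.mk P)) inferInstance).trans
      (IsLocalRing.eq_maximalIdeal (I := q.map (Ideal.Quotient.mk P)) inferInstance).symm)
    rwa [hcm, Ideal.comap_map_of_surjective _ Ideal.Quotient.mk_surjective, ← RingHom.ker_eq_comap_bot,
      Ideal.mk_ker, sup_eq_left.2 hPQ] at h
  -- separate the other components
  have hcop : S'.inf id ⊔ S.inf id = ⊤ := by
    by_contra hne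
    obtain ⟨M, hM, hle⟩ := Ideal.exists_le_maximal _ hne
    haveI := hM
    obtain ⟨P, hP, hPM⟩ := (Ideal.IsPrime.inf_le' hM.isPrime).1 (le_sup_right.trans hle)
    obtain ⟨P', hP', hPM'⟩ := (Ideal.IsPrime.inf_le' hM.isPrime).1 (le_sup_left.trans hle)
    rw [(hloc P hP).2 M hM.isPrime hPM hM] at hPM'
    exact (Finset.mem_filter.1 hP').2 hPM'
  obtain ⟨b, hb, c, hc, hbc⟩ := Submodule.mem_sup.1 ((Ideal.eq_top_iff_one _).1 hcop)
  have hbS : ∀ P ∈ S, ∀ Q : Ideal Γ(X.left, U), Q.IsPrime → P ≤ Q → b ∉ Q := fun P hP Q hQ hPQ hbQ =>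
    hQ.ne_top ((Ideal.eq_top_iff_one _).2 (hbc ▸ Q.add_mem hbQ (hPQ ((Finset.inf_le hP : S.inf id ≤ P) hc))))
  have hVf : ∀ Q : Ideal Γ(X.left, U), Q.IsPrime →
      ((f ∈ Q ∧ b ∉ Q) ↔ ∃ P ∈ S, P ≤ Q) := by
    intro Q hQ
    refine ⟨fun ⟨h1, h2⟩ => ?_, fun ⟨P, hP, hPQ⟩ => ⟨hPQ (hS P hP).2.1, hbS P hP Q hQ hPQ⟩⟩
    obtain ⟨P, hP, hPQ⟩ := Ideal.exists_minimalPrimes_le (show I ≤ Q from (Ideal.span_singleton_le_iff_mem _).2 h1)
    refine ⟨P, Finset.mem_filter.2 ⟨hIfin.mem_toFinset.2 hP, ?_⟩, hPQ⟩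
    by_contra hPq
    exact h2 (hPQ ((Finset.inf_le (Finset.mem_filter.2 ⟨hIfin.mem_toFinset.2 hP, hPq⟩) : S'.inf id ≤ P) hb))
  -- the divisor
  set V := X.left.basicOpen b
  have hV : IsAffineOpen V := hU.basicOpen b
  have hVU : V ≤ U := X.left.basicOpen_le b
  haveI : Nonempty V := ⟨⟨x, by
    obtain ⟨P, hP, hPq⟩ := Ideal.exists_minimalPrimes_le (show I ≤ q from (Ideal.span_singleton_le_iff_mem _).2 hfq)
    rw [← hqx]
    show qx ∈ hU.fromSpec ⁻¹ᵁ V
    rw [hU.fromSpec_preimage_basicOpen]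
    exact hbS P (Finset.mem_filter.2 ⟨hIfin.mem_toFinset.2 hP, hPq⟩) q inferInstance hPq⟩⟩
  set f' : Γ(X.left, V) := X.left.presheaf.map (homOfLE hVU).op f
  let d : Spec (CommRingCat.of (Γ(X.left, V) ⧸ Ideal.span {f'})) ⟶ X.left :=
    Spec.map (CommRingCat.ofHom (Ideal.Quotient.mk (Ideal.span {f'}))) ≫ hV.fromSpec
  have hrange : Set.range d.base = hU.fromSpec '' {z | ∃ P ∈ S, P ≤ z.asIdeal} := by
    have h1 : Set.range d.base = X.left.zeroLocus (U := V) {f'} ∩ V := by
      rw [← hV.fromSpec_image_zeroLocus]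
      show Set.range (Spec.map (CommRingCat.ofHom (Ideal.Quotient.mk (Ideal.span {f'}))) ≫ hV.fromSpec).base = _
      rw [Scheme.Hom.comp_base, TopCat.coe_comp, Set.range_comp]
      congr 1
      refine (range_comap_of_surjective _ _ Ideal.Quotient.mk_surjective).trans ?_
      rw [Ideal.mk_ker, PrimeSpectrum.zeroLocus_span]
    rw [h1]
    ext p
    simp only [Set.mem_inter_iff, Scheme.mem_zeroLocus_iff, Set.mem_singleton_iff, forall_eq, SetLike.mem_coe,
      Set.mem_image, Set.mem_setOf_eq, f', Scheme.basicOpen_res, Opens.mem_inf]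
    constructor
    · rintro ⟨h1, h2⟩
      obtain ⟨z, rfl⟩ := hU.range_fromSpec.ge (hVU h2)
      have hb' : z ∈ hU.fromSpec ⁻¹ᵁ V := h2
      rw [hU.fromSpec_preimage_basicOpen] at hb'
      refine ⟨z, (hVf _ z.isPrime).1 ⟨?_, hb'⟩, rfl⟩
      by_contra hfz
      exact h1 ⟨h2, show z ∈ hU.fromSpec ⁻¹ᵁ X.left.basicOpen f by rw [hU.fromSpec_preimage_basicOpen]; exact hfz⟩
    · rintro ⟨z, hz, rfl⟩
      obtain ⟨hfz, hbz⟩ := (hVf _ z.isPrime).2 hz
      refine ⟨fun h => ?_, show z ∈ hU.fromSpec ⁻¹ᵁ V by rw [hU.fromSpec_preimage_basicOpen]; exact hbz⟩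
      have h' : z ∈ hU.fromSpec ⁻¹ᵁ X.left.basicOpen f := h.2
      rw [hU.fromSpec_preimage_basicOpen] at h'
      exact h' hfz
  haveI hd : IsClosedImmersion d := by
    haveI : IsClosedImmersion (Spec.map (CommRingCat.ofHom (Ideal.Quotient.mk (Ideal.span {f'})))) :=
      IsClosedImmersion.spec_of_surjective _ Ideal.Quotient.mk_surjective
    refine IsClosedImmersion.of_isPreimmersion d ?_
    rw [show Set.range d = hU.fromSpec '' {z | ∃ P ∈ S, P ≤ z.asIdeal} from hrange]
    have : hU.fromSpec '' {z | ∃ P ∈ S, P ≤ z.asIdeal} =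
        ⋃ P ∈ S, hU.fromSpec '' PrimeSpectrum.zeroLocus (P : Set Γ(X.left, U)) := by
      ext p; simp [PrimeSpectrum.mem_zeroLocus]
      tauto
    rw [this]
    refine isClosed_biUnion_finset fun P hP => ?_
    haveI := (hloc P hP).1
    let j := Spec.map (CommRingCat.ofHom (Ideal.Quotient.mk P)) ≫ hU.fromSpec
    haveI : IsFinite (Spec.map (CommRingCat.ofHom (algebraMap R (Γ(X.left, U) ⧸ P)))) :=
      (IsFinite.SpecMap_iff _).2 (RingHom.finite_algebraMap.2 inferInstance)
    haveI : IsProper (j ≫ X.hom) := by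
      have e : j ≫ X.hom = Spec.map (CommRingCat.ofHom (algebraMap R (Γ(X.left, U) ⧸ P))) := by
        rw [Category.assoc, ← hφ, ← Spec.map_comp]
        rfl
      rw [e]; infer_instance
    haveI : IsProper j := IsProper.of_comp j X.hom
    have e2 : hU.fromSpec '' PrimeSpectrum.zeroLocus (P : Set Γ(X.left, U)) = Set.range j := by
      rw [Scheme.Hom.comp_base, TopCat.coe_comp, Set.range_comp]
      congr 1
      refine (Eq.trans ?_ (range_comap_of_surjective _ _ Ideal.Quotient.mk_surjective).symm)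
      rw [Ideal.mk_ker]
    rw [e2]
    exact j.isClosedMap.isClosed_range
  refine ⟨_, d, hd, isEffCartier_of_affine_chart hV f' ?_ d rfl, fun p => ?_, ?_⟩
  · refine mem_nonZeroDivisors_of_ne_zero fun h => hf0 ?_
    exact (map_eq_zero_iff _ (map_injective_of_isIntegral X.left (homOfLE hVU))).1 h
  · obtain ⟨z, ⟨P, hP, hPz⟩, hzp⟩ := hrange.le (Set.mem_range_self p)
    obtain ⟨hPp, -, hPq, hJP⟩ := hS P hP
    let η : PrimeSpectrum Γ(X.left, U) := ⟨P, hPp⟩
    obtain ⟨p', hp'⟩ := hrange.ge ⟨η, ⟨P, hP, le_rfl⟩, rfl⟩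
    refine ⟨p', d.isClosedEmbedding.isInducing.specializes_iff.1 ?_, ?_⟩
    · show d.base p' ⤳ d.base p
      rw [hp', ← hzp]
      exact ((PrimeSpectrum.le_iff_specializes η z).1 hPz).map hU.fromSpec.continuous
    · rw [Scheme.Hom.comp_apply, hp', hpt]
      by_contra hne
      haveI : (P.under R).IsPrime := Ideal.IsPrime.comap _
      refine hJP (Ideal.map_le_iff_le_comap.2 ?_)
      exact (IsLocalRing.eq_maximalIdeal (Ideal.IsPrime.isMaximal inferInstance hne)).ge
  · refine Set.Subset.antisymm ?_ (Set.singleton_subset_iff.2 ⟨?_, hxs⟩)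
    · rintro _ ⟨hp, hps⟩
      obtain ⟨z, ⟨P, hP, hPz⟩, rfl⟩ := hrange.le hp
      obtain ⟨hPp, -, -, -⟩ := hS P hP
      haveI := hPp
      haveI := (hloc P hP).1
      have hz : z.asIdeal.IsMaximal := by
        haveI : (z.asIdeal.map (Ideal.Quotient.mk P)).IsPrime :=
          Ideal.map_isPrime_of_surjective Ideal.Quotient.mk_surjective (by rwa [Ideal.mk_ker])
        have e : (z.asIdeal.map (Ideal.Quotient.mk P)).comap (Ideal.Quotient.mk P) = z.asIdeal := by
          rw [Ideal.comap_map_of_surjective _ Ideal.Quotient.mk_surjective, ← RingHom.ker_eq_comap_bot,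
            Ideal.mk_ker, sup_eq_left]
          exact hPz
        have hm : ((z.asIdeal.map (Ideal.Quotient.mk P)).under R).IsMaximal := by
          have : (z.asIdeal.map (Ideal.Quotient.mk P)).under R = maximalIdeal R := by
            rw [← (hfib z).1 hps]
            conv_rhs => rw [← e]
            rfl
          rw [this]; infer_instance
        haveI := Ideal.isMaximal_of_isIntegral_of_isMaximal_comap _ hm
        rw [← e]
        exact Ideal.comap_isMaximal_of_surjective _ Ideal.Quotient.mk_surjective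
      rw [Set.mem_singleton_iff, ← hqx]
      exact congrArg hU.fromSpec (PrimeSpectrum.ext ((hloc P hP).2 _ z.isPrime hPz hz))
    · obtain ⟨P, hP, hPq⟩ := Ideal.exists_minimalPrimes_le (show I ≤ q from (Ideal.span_singleton_le_iff_mem _).2 hfq)
      exact hrange.ge ⟨qx, ⟨P, Finset.mem_filter.2 ⟨hIfin.mem_toFinset.2 hP, hPq⟩, hPq⟩, hqx⟩

end Groth.Agent.ArS10
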