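import Groth.Agent.ArS10.Form

/-!
The kernel of the intersection form and the case of repeated components.
-/

set_option autoImplicit false
set_option linter.style.haveILetI false
set_option backward.isDefEq.respectTransparency.types false

universe u

open CategoryTheory CategoryTheory.Limits AlgebraicGeometry TopologicalSpace Opposite
open scoped nonZeroDivisors

noncomputable section

namespace Groth.Agent.ArS10

variable {R : Type u} [CommRing R] [IsDomain R] [IsDiscreteValuationRing R]
  {X : Over (Spec (CommRingCat.of R))}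

theorem sum_mult_mul_inter (hX : IsSurf R X) {r : ℕ} (Γ : Fin r → ArSurf.VertComp R X)
    (hdist : Function.Injective fun i => Set.range (Γ i).ι.base)
    (hcov : ∀ x ∈ Models.specialFibreSet R X, ∃ i, x ∈ Set.range (Γ i).ι.base)
    (L : Fin r → X.left.Modules) (hL : ∀ j, ClSub.IsInverseOf (L j) (ClSub.idealMod (Γ j).ι.ker))
    (i : Fin r) : ∑ j, (Models.mult R X (Γ j) : ℤ) * ArSurf.inter R X (L j) (Γ i) = 0 := by
  haveI := hX.2.2.2.2
  haveI := hX.2.2.2.1
  obtain ⟨J, LJ, hJ, hLJ, e, hgen, hrel⟩ := relation hX Γ hdist L hL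
  have h := hrel (Γ i)
  have hdis : ArSurf.inter R X LJ (Γ i) = 0 := by
    rw [inter_eq_zero_iff (Γ i) hJ (hgen i) hLJ, Set.disjoint_right]
    intro x hx _
    haveI := LocallyOfFiniteType.isLocallyNoetherian X.hom
    obtain ⟨y, hy⟩ := Div89.exists_preimage_of_mem_support (I := J) hx
    obtain ⟨z, hz, hzy⟩ := Curves2.Ample.exists_maximal y
    have hzJ : J.subschemeι z ∈ J.support := by
      rw [← SetLike.mem_coe, ← J.range_subschemeι]; exact Set.mem_range_self z
    have hzF : J.subschemeι z ∈ Models.specialFibreSet R X := by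
      have h1 : J.subschemeι z ∈ ((ModPic.fIdeal X.hom).support : Set X.left) := by
        rw [e]
        exact Or.inl hzJ
      rwa [ModPic.support_specialFibreIdeal] at h1
    have hdim := Div89.dim_stalk_eq_one_of_effCartier hJ hzJ fun w hw hwz =>
      (Div89.maximal_in_support_iff J z).1 hz w hw hwz
    obtain ⟨w, hw, hwz⟩ := ModPic.exists_fibreMax X.hom hzF
    obtain ⟨j, hj⟩ := hcov w hw.1
    have hwη : Models.genPtOf R X (Γ j) = w := hw.2 _ (isFibreMax hX (Γ j)).1 ((isGenericPoint (Γ j)).specializes hj)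
    by_cases hwe : w = J.subschemeι z
    · exact hgen j (by rw [hwη, hwe]; exact hzJ)
    · have hdw := ModPic.dim_stalk_fibreMax X.hom hw
      rw [ringKrullDim_stalk_eq_coheight] at hdw hdim
      have hlt : J.subschemeι z < w := lt_of_le_not_ge hwz fun h => hwe (hwz.antisymm h).eq
      have h2 := Order.coheight_add_one_le hlt
      have hdw' : Order.coheight w = 1 := by exact_mod_cast hdw
      have hdim' : Order.coheight (J.subschemeι z) = 1 := by exact_mod_cast hdim
      rw [hdw', hdim'] at h2
      exact absurd h2 (by decide)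
  omega

/-- The kernel of the form when the closed fibre is connected. -/
theorem kernel_iff (hX : IsSurf R X)
    (hconn : _root_.IsConnected (Models.specialFibreSet R X)) {r : ℕ} (Γ : Fin r → ArSurf.VertComp R X)
    (hdist : Function.Injective fun i => Set.range (Γ i).ι.base)
    (hcov : ∀ x ∈ Models.specialFibreSet R X, ∃ i, x ∈ Set.range (Γ i).ι.base)
    (L : Fin r → X.left.Modules) (hL : ∀ j, ClSub.IsInverseOf (L j) (ClSub.idealMod (Γ j).ι.ker))
    (a : Fin r → ℤ) :
    (∀ i, ∑ j, a j * ArSurf.inter R X (L j) (Γ i) = 0) ↔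
      ∃ c : ℚ, ∀ i, (a i : ℚ) = c * (Models.mult R X (Γ i) : ℚ) := by
  haveI := hX.2.2.2.2
  have hd : ∀ i, (Models.mult R X (Γ i) : ℚ) ≠ 0 := fun i => Nat.cast_ne_zero.2 (mult_pos hX (Γ i)).ne'
  constructor
  · intro h
    let M : Fin r → Fin r → ℚ := fun i j => (ArSurf.inter R X (L j) (Γ i) : ℚ)
    let d : Fin r → ℚ := fun i => (Models.mult R X (Γ i) : ℚ)
    let y : Fin r → ℚ := fun i => (a i : ℚ) / d i
    have h0 : ∀ i, ∑ j, M i j * (a j : ℚ) = 0 := fun i => by
      have := congrArg (Int.cast (R := ℚ)) (h i)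
      push_cast at this
      rw [← this]
      exact Finset.sum_congr rfl fun j _ => mul_comm _ _
    have hrow : ∀ i, ∑ j, M i j * d j = 0 := fun i => by
      have := congrArg (Int.cast (R := ℚ)) (sum_mult_mul_inter hX Γ hdist hcov L hL i)
      push_cast at this
      rw [← this]
      exact Finset.sum_congr rfl fun j _ => mul_comm _ _
    have hform := form_eq hX Γ hdist L hL fun i => (a i : ℚ)
    have hl : ∑ i, ∑ j, (a i : ℚ) * (a j : ℚ) * M i j = 0 := Finset.sum_eq_zero fun i _ => by
      rw [show ∑ j, (a i : ℚ) * (a j : ℚ) * M i j = (a i : ℚ) * ∑ j, M i j * (a j : ℚ) by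
        rw [Finset.mul_sum]; exact Finset.sum_congr rfl fun j _ => by ring, h0 i, mul_zero]
    have hnn : ∀ i j, 0 ≤ M i j * d i * d j * (y i - y j) ^ 2 := fun i j => by
      by_cases hij : i = j
      · subst hij; simp
      · have : (0 : ℚ) ≤ M i j := Int.cast_nonneg (offDiag_nonneg hX (hL j) fun e => hij (hdist e))
        positivity
    have hzero : ∑ i, ∑ j, M i j * d i * d j * (y i - y j) ^ 2 = 0 := by
      simp only [M, d, y] at hform hl hrow ⊢
      rw [hl] at hform
      simp only [hrow, mul_zero, Finset.sum_const_zero] at hform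
      linarith
    have hsep : ∀ i j, y i ≠ y j → Disjoint (Set.range (Γ i).ι.base) (Set.range (Γ j).ι.base) := fun i j hij => by
      have h1 := (Finset.sum_eq_zero_iff_of_nonneg fun i _ => Finset.sum_nonneg fun j _ => hnn i j).1 hzero i
        (Finset.mem_univ i)
      have h2 := (Finset.sum_eq_zero_iff_of_nonneg fun j _ => hnn i j).1 h1 j (Finset.mem_univ j)
      have hne : i ≠ j := fun e => hij (e ▸ rfl)
      have h3 : ArSurf.inter R X (L j) (Γ i) = 0 := by
        have : M i j = 0 := by
          simpa [d, hd, sub_eq_zero, hij] using h2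
        exact Int.cast_eq_zero.1 this
      have h4 := (inter_eq_zero_iff (Γ i) (isEffCartier hX (Γ j)) (notMem_support hX fun e => hne (hdist e)) (hL j)).1 h3
      rwa [show ((Γ j).ι.ker.support : Set X.left) = Set.range (Γ j).ι.base from ModPic.support_cI (p := X.hom) (Γ j)] at h4
    rcases Nat.eq_zero_or_pos r with rfl | hr
    · exact ⟨0, fun i => i.elim0⟩
    let i₀ : Fin r := ⟨0, hr⟩
    refine ⟨y i₀, fun i => ?_⟩
    suffices hy : y i = y i₀ by
      rw [← hy]
      exact (div_mul_cancel₀ _ (hd i)).symm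
    by_contra hne
    let A : Set X.left := ⋃ j ∈ {j | y j = y i₀}, Set.range (Γ j).ι.base
    let B : Set X.left := ⋃ j ∈ {j | y j ≠ y i₀}, Set.range (Γ j).ι.base
    have hA : IsClosed A := Set.Finite.isClosed_biUnion (Set.toFinite _) fun j _ =>
      (Γ j).ι.isClosedEmbedding.isClosed_range
    have hB : IsClosed B := Set.Finite.isClosed_biUnion (Set.toFinite _) fun j _ =>
      (Γ j).ι.isClosedEmbedding.isClosed_range
    have hsub : Models.specialFibreSet R X ⊆ A ∪ B := fun x hx => by
      obtain ⟨j, hj⟩ := hcov x hx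
      by_cases hy : y j = y i₀
      · exact Or.inl (Set.mem_biUnion hy hj)
      · exact Or.inr (Set.mem_biUnion hy hj)
    obtain ⟨x, -, hxA, hxB⟩ := isPreconnected_closed_iff.1 hconn.isPreconnected A B hA hB hsub
      ⟨_, range_subset_fibre (Γ i₀) (Set.mem_range_self (genericPoint _)),
        Set.mem_biUnion (show y i₀ = y i₀ from rfl) (Set.mem_range_self _)⟩
      ⟨_, range_subset_fibre (Γ i) (Set.mem_range_self (genericPoint _)),
        Set.mem_biUnion (show y i ≠ y i₀ from hne) (Set.mem_range_self _)⟩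
    simp only [A, B, Set.mem_iUnion, Set.mem_ofPred_eq] at hxA hxB
    obtain ⟨j, hj, hxj⟩ := hxA
    obtain ⟨k, hk, hxk⟩ := hxB
    exact Set.disjoint_left.1 (hsep j k fun e => hk (e ▸ hj)) hxj hxk
  · rintro ⟨c, hc⟩ i
    have h := congrArg (Int.cast (R := ℚ)) (sum_mult_mul_inter hX Γ hdist hcov L hL i)
    push_cast at h
    apply Int.cast_injective (α := ℚ)
    push_cast
    simp only [hc, mul_assoc, ← Finset.mul_sum, h, mul_zero]

/-- The form of an arbitrary family is negative semi-definite. -/
theorem form_nonpos' (hX : IsSurf R X) {r : ℕ} (Γ : Fin r → ArSurf.VertComp R X)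
    (L : Fin r → X.left.Modules) (hL : ∀ j, ClSub.IsInverseOf (L j) (ClSub.idealMod (Γ j).ι.ker))
    (a : Fin r → ℤ) :
    (Finset.univ : Finset (Fin r × Fin r)).sum
      (fun p => a p.1 * a p.2 * ArSurf.inter R X (L p.2) (Γ p.1)) ≤ 0 := by
  classical
  let S : Finset (Set X.left) := Finset.univ.image fun i => Set.range (Γ i).ι.base
  have hrep : ∀ q : S, ∃ i, Set.range (Γ i).ι.base = q.1 := fun q => by
    obtain ⟨i, -, hi⟩ := Finset.mem_image.1 q.2
    exact ⟨i, hi⟩
  choose rep hrep using hrep
  let e : Fin (Fintype.card S) ≃ S := (Fintype.equivFin S).symm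
  let Γ' := fun q => Γ (rep (e q))
  have hdist : Function.Injective fun q => Set.range (Γ' q).ι.base := fun q q' h =>
    e.injective (Subtype.ext ((hrep (e q)).symm.trans (h.trans (hrep (e q')))))
  let cls : Fin r → Fin (Fintype.card S) := fun i =>
    e.symm ⟨_, Finset.mem_image.2 ⟨i, Finset.mem_univ i, rfl⟩⟩
  have hcls : ∀ i, Set.range (Γ' (cls i)).ι.base = Set.range (Γ i).ι.base := fun i => by
    show Set.range (Γ (rep (e (e.symm _)))).ι.base = _
    rw [Equiv.apply_symm_apply, hrep]
  let x : Fin (Fintype.card S) → ℚ := fun q => ∑ i ∈ Finset.univ.filter (fun i => cls i = q), (a i : ℚ)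
  have h := form_nonpos hX Γ' hdist (fun q => L (rep (e q))) (fun q => hL _) x
  have hM : ∀ i j, ArSurf.inter R X (L (rep (e (cls j)))) (Γ' (cls i)) = ArSurf.inter R X (L j) (Γ i) := fun i j => by
    rw [inter_congr_right hX (hcls i) (Γ' (cls j)) (hL _)]
    have h' := hL j
    rw [← ker_eq_of_range_eq _ _ (hcls j)] at h'
    exact inter_congr_left (Γ i) (hL _) h'
  have he : (((Finset.univ : Finset (Fin r × Fin r)).sum
      (fun p => a p.1 * a p.2 * ArSurf.inter R X (L p.2) (Γ p.1)) : ℤ) : ℚ) =
      ∑ q, ∑ q', x q * x q' * (ArSurf.inter R X (L (rep (e q'))) (Γ' q) : ℚ) := by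
    push_cast
    rw [Fintype.sum_prod_type, ← Finset.sum_fiberwise Finset.univ cls]
    refine Finset.sum_congr rfl fun q _ => ?_
    trans ∑ i ∈ Finset.univ.filter (fun i => cls i = q), ∑ q', ∑ j ∈ Finset.univ.filter (fun j => cls j = q'),
      (a i : ℚ) * (a j : ℚ) * (ArSurf.inter R X (L (rep (e q'))) (Γ' q) : ℚ)
    swap
    · rw [Finset.sum_comm]
      exact Finset.sum_congr rfl fun q' _ => by
        simp only [x, Finset.sum_mul, Finset.mul_sum]
        exact Finset.sum_comm
    refine Finset.sum_congr rfl fun i hi => ?_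
    rw [← Finset.sum_fiberwise Finset.univ cls]
    refine Finset.sum_congr rfl fun q' _ => Finset.sum_congr rfl fun j hj => ?_
    rw [← hM i j, (Finset.mem_filter.1 hi).2, (Finset.mem_filter.1 hj).2]
  exact_mod_cast he.trans_le h

end Groth.Agent.ArS10
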