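import Groth.Agent.ArS10.RatIdeal
import Groth.Agent.REqLine99.Line
import Groth.Agent.Curves2.OpenIso
import Groth.Agent.Approx60.Segre
import Mathlib.AlgebraicGeometry.SpreadingOut

/-!
Extension of rational maps to projective schemes where the indeterminacy ideal is invertible.
-/

set_option autoImplicit false
set_option linter.style.haveILetI false
set_option backward.isDefEq.respectTransparency.types false

universe u

open CategoryTheory CategoryTheory.Limits AlgebraicGeometry TopologicalSpace IsLocalRing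
open scoped nonZeroDivisors

noncomputable section

namespace Groth.Agent.ArS10

open REqLine99 Approx60.ProjCharts

variable {R : Type u} [CommRing R]

theorem comp_evalAt {O L : Type u} [CommRing O] [CommRing L] {m : ℕ} (σ : O →+* L) (b : Fin (m + 1) → O) :
    σ.comp (evalAt b) = evalAt fun i => σ (b i) :=
  MvPolynomial.ringHom_ext
    (fun r => by
      rw [RingHom.comp_apply]
      simp only [evalAt, MvPolynomial.eval₂Hom_C]
      exact congr($(hom_eq (σ.comp (cst O))) r))
    (fun i => by simp [evalAt])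

/-- Where the indeterminacy ideal is principal, some ratio of coordinates generates. -/
theorem exists_ratio {A O K L : Type u} [CommRing A] [CommRing O] [IsDomain O] [IsLocalRing O] [Field K] [Field L]
    (ι : A →+* K) (g : A →+* O) (σ : O →+* L) (κ : K →+* L) (hσ : Function.Injective σ)
    (hcomm : ∀ x, κ (ι x) = σ (g x)) {m : ℕ} (a : Fin m → K)
    (hP : IsPrin ((fracIdeal ι a).map g)) :
    ∃ (c : L) (b : Fin m → O) (j : Fin m), c ≠ 0 ∧ b j = 1 ∧ ∀ i, κ (a i) = c * σ (b i) := by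
  classical
  obtain ⟨h, hh, hI⟩ := hP
  have hh0 : h ≠ 0 := nonZeroDivisors.ne_zero hh
  let G : Set O := g '' {z | ∃ d, IsDenom ι a d ∧ ∃ j, ι z = ι d * a j}
  have hG : Ideal.span G = Ideal.span {h} := by rw [← hI, fracIdeal, Ideal.map_span]
  obtain ⟨z0, hz0, hu⟩ : ∃ z ∈ G, ¬ z ∈ maximalIdeal O * Ideal.span {h} := by
    by_contra hc
    push Not at hc
    have h1 : Ideal.span {h} ≤ maximalIdeal O * Ideal.span {h} := hG.ge.trans (Ideal.span_le.2 hc)
    obtain ⟨q, hq, hqe⟩ := Ideal.mem_mul_span_singleton.1 (h1 (Ideal.mem_span_singleton_self h))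
    have : q = 1 := mul_right_cancel₀ hh0 (hqe.trans (one_mul h).symm)
    exact (maximalIdeal.isMaximal O).ne_top ((Ideal.eq_top_iff_one _).2 (this ▸ hq))
  obtain ⟨w, hw⟩ := Ideal.mem_span_singleton'.1 (hG.le (Ideal.subset_span hz0))
  have hwu : IsUnit w := by
    by_contra hwn
    exact hu (Ideal.mem_mul_span_singleton.2 ⟨w, (mem_maximalIdeal w).2 hwn, hw⟩)
  have hgen : Ideal.span {h} = Ideal.span {z0} := by
    rw [← hw, Ideal.span_singleton_mul_left_unit hwu]
  have hz00 : z0 ≠ 0 := by rw [← hw]; exact mul_ne_zero hwu.ne_zero hh0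
  obtain ⟨z, ⟨d, hd, j, hz⟩, rfl⟩ := hz0
  choose e he using hd
  have hq : ∀ i, ∃ q, q * g z = g (e i) := fun i =>
    Ideal.mem_span_singleton'.1 ((hG.trans hgen).le (Ideal.subset_span ⟨e i, ⟨d, fun k => ⟨e k, he k⟩, i, he i⟩, rfl⟩))
  choose q hq using hq
  have hzj : σ (g z) = σ (g d) * κ (a j) := by rw [← hcomm, ← hcomm, hz, map_mul]
  have hne : σ (g d) * κ (a j) ≠ 0 := hzj ▸ (map_ne_zero_iff σ hσ).2 hz00
  refine ⟨κ (a j), Function.update q j 1, j, right_ne_zero_of_mul hne, Function.update_self .., fun i => ?_⟩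
  rcases eq_or_ne i j with rfl | hij
  · rw [Function.update_self, map_one, mul_one]
  · rw [Function.update_of_ne hij]
    refine mul_left_cancel₀ (left_ne_zero_of_mul hne) ?_
    have h3 : σ (g (e i)) = σ (g d) * κ (a i) := by rw [← hcomm, ← hcomm, he, map_mul]
    rw [← h3, ← mul_assoc, ← hzj, ← map_mul, mul_comm (g z), hq]

/-- A point of a closed subscheme of projective space extends over a local domain. -/
theorem exists_lift_point {m : ℕ} {Z : Scheme.{u}} (i : Z ⟶ CohB1.ProjSpaceOver m (Spec (CommRingCat.of R)))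
    [IsClosedImmersion i] {O L : CommRingCat.{u}} [IsDomain O] [IsDomain L] (σ : O ⟶ L)
    (hσ : Function.Injective σ) (P : Spec L ⟶ Z) (s : Spec O ⟶ Spec (CommRingCat.of R))
    (hs : P ≫ i ≫ CohB1.ProjSpaceOver.toBase m _ = Spec.map σ ≫ s)
    (q : Spec O ⟶ CohB1.ProjSpace m (ULift.{u} ℤ)) (hq : P ≫ i ≫ pullback.fst _ _ = Spec.map σ ≫ q) :
    ∃ Q : Spec O ⟶ Z, Spec.map σ ≫ Q = P ∧ Q ≫ i ≫ CohB1.ProjSpaceOver.toBase m _ = s := by
  let Q₀ : Spec O ⟶ CohB1.ProjSpaceOver m (Spec (CommRingCat.of R)) :=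
    pullback.lift q s (specULiftZIsTerminal.hom_ext _ _)
  have hQ₀ : Spec.map σ ≫ Q₀ = P ≫ i := by
    apply pullback.hom_ext
    · exact (Category.assoc _ _ _).trans ((congrArg (Spec.map σ ≫ ·) (pullback.lift_fst _ _ _)).trans
        (hq.symm.trans (Category.assoc _ _ _).symm))
    · exact (Category.assoc _ _ _).trans ((congrArg (Spec.map σ ≫ ·) (pullback.lift_snd _ _ _)).trans
        (hs.symm.trans (Category.assoc _ _ _).symm))
  let l : Spec L ⟶ pullback Q₀ i := pullback.lift (Spec.map σ) P hQ₀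
  haveI : Surjective (pullback.fst Q₀ i) := by
    refine ⟨fun w => ?_⟩
    have hgen : (⟨⊥, Ideal.isPrime_bot⟩ : PrimeSpectrum O) ∈ Set.range (pullback.fst Q₀ i) := by
      let p : Spec L := (⟨⊥, Ideal.isPrime_bot⟩ : PrimeSpectrum L)
      refine ⟨l p, ?_⟩
      rw [← Scheme.Hom.comp_apply, pullback.lift_fst]
      refine PrimeSpectrum.ext ?_
      show (⊥ : Ideal L).comap σ.hom = ⊥
      rw [← RingHom.ker_eq_comap_bot]
      exact (RingHom.injective_iff_ker_eq_bot _).1 hσ
    exact ((PrimeSpectrum.le_iff_specializes ⟨⊥, Ideal.isPrime_bot⟩ w).1 bot_le).mem_closed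
      (pullback.fst Q₀ i).isClosedEmbedding.isClosed_range hgen
  haveI : IsIso (pullback.fst Q₀ i) := isIso_of_isClosedImmersion_of_surjective _
  refine ⟨inv (pullback.fst Q₀ i) ≫ pullback.snd Q₀ i, ?_, ?_⟩
  · rw [← cancel_mono i, Category.assoc, Category.assoc, ← pullback.condition, IsIso.inv_hom_id_assoc]
    exact hQ₀
  · rw [Category.assoc, ← Category.assoc (pullback.snd Q₀ i) i, ← pullback.condition, Category.assoc,
      IsIso.inv_hom_id_assoc]
    exact pullback.lift_snd _ _ _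

set_option maxHeartbeats 800000 in
theorem exists_extension (X : Over (Spec (CommRingCat.of R))) [IsIntegral X.left]
    (Z : Over (Spec (CommRingCat.of R))) {m : ℕ} (i : Z.left ⟶ CohB1.ProjSpaceOver m (Spec (CommRingCat.of R)))
    [IsClosedImmersion i] (hi : i ≫ CohB1.ProjSpaceOver.toBase m (Spec (CommRingCat.of R)) = Z.hom)
    (U : X.left.Opens) (hU : (U : Set X.left).Nonempty) (φ : (U : Scheme.{u}) ⟶ Z.left)
    (hφ : φ ≫ Z.hom = U.ι ≫ X.hom) :
    ∃ (a : Fin (m + 1) → X.left.functionField), (∃ j, a j ≠ 0) ∧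
      ∀ (X' : Scheme.{u}) [IsIntegral X'] (f : X' ⟶ X.left), f (genericPoint X') = genericPoint X.left →
        ∀ J : X.left.IdealSheafData,
          (∀ x, Div89.stalkIdeal J x = fracIdeal (algebraMap (X.left.presheaf.stalk x) X.left.functionField) a) →
          (∀ z, IsPrin (Div89.stalkIdeal (J.comap f) z)) →
          ∃ g : X' ⟶ Z.left, g ≫ Z.hom = f ≫ X.hom ∧ (f ⁻¹ᵁ U).ι ≫ g = (f ∣_ U) ≫ φ := by
  classical
  haveI := Approx60.Segre.isProper_toBase m (Spec (CommRingCat.of R))
  haveI : IsProper Z.hom := by rw [← hi]; infer_instance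
  let η := U.fromSpecStalkOfMem (genericPoint X.left) (genericPoint_mem U hU)
  obtain ⟨a, k, hak, huk, hP⟩ := exists_coords X.left.functionField (η ≫ φ ≫ i ≫ pullback.fst _ _)
  refine ⟨a, ⟨k, hak⟩, fun X' _ f hf J hJ hprin => ?_⟩
  have hsp : f (genericPoint X') ⤳ genericPoint X.left := (Inseparable.of_eq hf).specializes
  let κ : X.left.functionField ⟶ X'.functionField :=
    X.left.presheaf.stalkSpecializes hsp ≫ f.stalkMap (genericPoint X')
  have hκspec : Spec.map κ ≫ X.left.fromSpecStalk (genericPoint X.left) =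
      X'.fromSpecStalk (genericPoint X') ≫ f := by
    rw [Spec.map_comp, Category.assoc, Scheme.SpecMap_stalkSpecializes_fromSpecStalk,
      Scheme.SpecMap_stalkMap_fromSpecStalk]
  -- the point of `Z` over the new generic point
  let P : Spec X'.functionField ⟶ Z.left := Spec.map κ ≫ η ≫ φ
  have hPbase : P ≫ Z.hom = X'.fromSpecStalk (genericPoint X') ≫ f ≫ X.hom := by
    simp only [P, Category.assoc, hφ, η]
    rw [Scheme.Opens.fromSpecStalkOfMem_ι_assoc, ← Category.assoc, hκspec, Category.assoc]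
  have hpoint : ∀ z : X', ∃ Q : Spec (X'.presheaf.stalk z) ⟶ Z.left,
      Spec.map (X'.presheaf.stalkSpecializes (genericPoint_specializes z)) ≫ Q = P ∧
      Q ≫ Z.hom = X'.fromSpecStalk z ≫ f ≫ X.hom := by
    intro z
    set σ := X'.presheaf.stalkSpecializes (genericPoint_specializes z)
    have hσ : Function.Injective σ := stalkSpecializes_injective_of_isIntegral _
    have hcomm : ∀ x, κ.hom (algebraMap (X.left.presheaf.stalk (f z)) X.left.functionField x) =
        σ.hom ((f.stalkMap z).hom x) := by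
      intro x
      refine Eq.trans ?_ (Scheme.Hom.stalkSpecializes_stalkMap_apply f _ _ (genericPoint_specializes z) x)
      show (f.stalkMap (genericPoint X')) (X.left.presheaf.stalkSpecializes hsp
        (X.left.presheaf.stalkSpecializes (genericPoint_specializes (f z)) x)) = _
      rw [← CommRingCat.comp_apply (X.left.presheaf.stalkSpecializes _) (X.left.presheaf.stalkSpecializes hsp),
        TopCat.Presheaf.stalkSpecializes_comp]
    have hz := hprin z
    rw [Div89.stalkIdeal_comap, hJ] at hz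
    obtain ⟨c, b, j, hc, hbj, hab⟩ := exists_ratio _ (f.stalkMap z).hom σ.hom κ.hom hσ hcomm a hz
    have hub : IsUnit (evalAt b (MvPolynomial.X j)) := isUnit_eval_X _ _ _ (hbj ▸ isUnit_one)
    let q : Spec (X'.presheaf.stalk z) ⟶ CohB1.ProjSpace m Z₀ :=
      PnConst7.point (evalAt b) (MvPolynomial.X j) (X₁ Z₀ m j).2 one_pos hub
    have hq : P ≫ i ≫ pullback.fst _ _ = Spec.map σ ≫ q := by
      have h1 : P ≫ i ≫ pullback.fst _ _ = Spec.map κ ≫ (η ≫ φ ≫ i ≫ pullback.fst _ _) := by
        simp only [P, Category.assoc]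
      rw [h1, hP]
      rw [← CommRingCat.ofHom_hom κ, ← CommRingCat.ofHom_hom σ]
      erw [PnConst7.specMap_point, PnConst7.specMap_point]
      have e1 : κ.hom.comp (evalAt a) = evalAt fun l => c * σ.hom (b l) := by
        rw [comp_evalAt]
        exact congrArg evalAt (funext hab)
      rw [PnConst7.point_congr e1]
      have hu2 : IsUnit (evalAt (fun l => σ.hom (b l)) (MvPolynomial.X j)) :=
        isUnit_eval_X _ _ _ (by rw [hbj, map_one]; exact isUnit_one)
      have hu3 : IsUnit (evalAt (fun l => c * σ.hom (b l)) (MvPolynomial.X j)) :=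
        isUnit_eval_X _ _ _ (by rw [hbj, map_one, mul_one]; exact (Ne.isUnit hc))
      refine (PnConst7.point_indep _ _ (MvPolynomial.X j) _ _ _ (X₁ Z₀ m j).2 one_pos hu3).trans ?_
      refine (point_smul _ c (Ne.isUnit hc) _ _ _ hu2 hu3).trans ?_
      exact (PnConst7.point_congr (comp_evalAt σ.hom b) _ _ _ _).symm
    haveI : IsDomain (X'.presheaf.stalk z) := inferInstance
    obtain ⟨Q, hQ1, hQ2⟩ := exists_lift_point i σ hσ P (X'.fromSpecStalk z ≫ f ≫ X.hom) (by
      rw [hi, hPbase, Scheme.SpecMap_stalkSpecializes_fromSpecStalk_assoc]) q hq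
    exact ⟨Q, hQ1, by rw [← hi]; exact hQ2⟩
  -- spread out and glue
  choose Q hQP hQbase using hpoint
  choose W hzW g hgQ hgbase using fun z : X' =>
    spread_out_of_isGermInjective' (sX := f ≫ X.hom) (sY := Z.hom) (x := z) (Q z) (hQbase z)
  have hgen : ∀ z, ∀ l : Spec X'.functionField ⟶ W z, l ≫ (W z).ι = X'.fromSpecStalk _ → l ≫ g z = P := by
    intro z l hl
    rw [← hQP z, hgQ z, ← Category.assoc]
    congr 1
    rw [← cancel_mono (W z).ι, hl, Category.assoc, Scheme.Opens.fromSpecStalkOfMem_ι,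
      Scheme.SpecMap_stalkSpecializes_fromSpecStalk]
  let 𝒰 := X'.openCoverOfIsOpenCover W (TopologicalSpace.IsOpenCover.mk
    (top_le_iff.1 fun z _ => Opens.mem_iSup.2 ⟨z, hzW z⟩))
  let G : X' ⟶ Z.left := 𝒰.glueMorphisms g (by
    intro (z : X') (z' : X')
    refine (cancel_epi (isPullback_opens_inf (W z) (W z')).isoPullback.hom).1 ?_
    refine (Category.assoc _ _ _).symm.trans (Eq.trans ?_ (Category.assoc _ _ _))
    show ((isPullback_opens_inf (W z) (W z')).isoPullback.hom ≫ pullback.fst (W z).ι (W z').ι) ≫ g z =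
      ((isPullback_opens_inf (W z) (W z')).isoPullback.hom ≫ pullback.snd (W z).ι (W z').ι) ≫ g z'
    rw [IsPullback.isoPullback_hom_fst, IsPullback.isoPullback_hom_snd]
    haveI : Nonempty (W z ⊓ W z' : X'.Opens).toScheme := ⟨⟨genericPoint X',
      genericPoint_mem (W z) ⟨z, hzW z⟩, genericPoint_mem (W z') ⟨z', hzW z'⟩⟩⟩
    refine Curves2.hom_ext_generic Z.hom (W z ⊓ W z').ι _ _ ?_ fun l hl => ?_
    · rw [Category.assoc, Category.assoc, hgbase, hgbase, Scheme.homOfLE_ι_assoc, Scheme.homOfLE_ι_assoc]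
    · rw [← Category.assoc, hgen z _ (by rw [Category.assoc, Scheme.homOfLE_ι, hl]),
        ← Category.assoc, hgen z' _ (by rw [Category.assoc, Scheme.homOfLE_ι, hl])])
  have hG : ∀ z, (W z).ι ≫ G = g z := fun z => 𝒰.ι_glueMorphisms _ _ z
  have hGgen : X'.fromSpecStalk (genericPoint X') ≫ G = P := by
    rw [← Scheme.Opens.fromSpecStalkOfMem_ι (W (genericPoint X')) _ (hzW _), Category.assoc, hG]
    exact hgen _ _ (Scheme.Opens.fromSpecStalkOfMem_ι _ _ _)
  have hGbase : G ≫ Z.hom = f ≫ X.hom := by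
    refine 𝒰.hom_ext _ _ fun z => ?_
    show (W z).ι ≫ G ≫ Z.hom = (W z).ι ≫ f ≫ X.hom
    rw [← Category.assoc, hG, hgbase]
  refine ⟨G, hGbase, ?_⟩
  haveI : Nonempty (f ⁻¹ᵁ U).toScheme := ⟨⟨genericPoint X', show f (genericPoint X') ∈ U by
    rw [hf]; exact genericPoint_mem U hU⟩⟩
  refine Curves2.hom_ext_generic Z.hom (f ⁻¹ᵁ U).ι _ _ ?_ fun l hl => ?_
  · rw [Category.assoc, Category.assoc, hGbase, hφ, morphismRestrict_ι_assoc]
  · rw [← Category.assoc, hl, hGgen, ← Category.assoc]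
    show Spec.map κ ≫ η ≫ φ = _
    rw [← Category.assoc]
    congr 1
    rw [← cancel_mono U.ι, Category.assoc, Category.assoc, Scheme.Opens.fromSpecStalkOfMem_ι, hκspec,
      morphismRestrict_ι, ← Category.assoc, hl]

/-- Rational maps from regular surfaces to projective schemes become morphisms after point blow-ups. -/
theorem exists_blowUps_extending (hexc : ExcOfBlowUp.{u}) (X : Over (Spec (CommRingCat.of R))) (hX : IsRegSurf X.left)
    (Z : Over (Spec (CommRingCat.of R))) (hZ : Neron.IsProjectiveOver R Z)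
    (U : X.left.Opens) (hU : (U : Set X.left).Nonempty) (φ : (U : Scheme.{u}) ⟶ Z.left)
    (hφ : φ ≫ Z.hom = U.ι ≫ X.hom) :
    ∃ (X' : Scheme.{u}) (f : X' ⟶ X.left) (g : X' ⟶ Z.left),
      Models.IsContractionSeq f ∧ g ≫ Z.hom = f ≫ X.hom ∧ (f ⁻¹ᵁ U).ι ≫ g = (f ∣_ U) ≫ φ := by
  haveI := hX.1
  obtain ⟨m, i, hi, hic⟩ := hZ
  haveI := hi
  obtain ⟨a, ha, hext⟩ := exists_extension X Z i hic U hU φ hφ
  obtain ⟨J, n, hne, hdec, hJ⟩ := exists_ratIdeal hX a ha
  obtain ⟨X', f, hseq, -, hX', hgen, hprin⟩ := exists_principalization hexc n hX J hne hdec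
  haveI := hX'.1
  obtain ⟨g, hg, hgU⟩ := hext X' f hgen J hJ hprin
  refine ⟨X', f, g, ?_, hg, hgU⟩
  simpa using hseq (Iso.refl X.left).hom (Models.IsContractionSeq.iso (Iso.refl X.left))

end Groth.Agent.ArS10
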