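import Groth.Agent.ArS10.ExcDescend
import Groth.Agent.ArS10.RatExtend
import Groth.Agent.Curves2.OpenIso
import Groth.Prelude.Def_Neron

/-!
A desingularization without contracted exceptional curves is minimal.
-/

set_option autoImplicit false
set_option linter.style.haveILetI false
set_option backward.isDefEq.respectTransparency.types false

universe u

open CategoryTheory CategoryTheory.Limits AlgebraicGeometry TopologicalSpace IsLocalRing

noncomputable section

namespace Groth.Agent.ArS10

variable {R : Type u} [CommRing R] [IsDomain R]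

theorem isProper_of_projective {Z : Over (Spec (CommRingCat.of R))} (h : Neron.IsProjectiveOver R Z) :
    IsProper Z.hom := by
  obtain ⟨n, i, hi, he⟩ := h
  haveI := hi
  haveI := Approx60.Segre.isProper_toBase n (Spec (CommRingCat.of R))
  rw [← he]
  infer_instance

variable [IsDiscreteValuationRing R]

theorem isRegSurf_of_isArith {X : Over (Spec (CommRingCat.of R))} (hX : ArSurf.IsArithSurface R X) :
    IsRegSurf X.left := by
  obtain ⟨hreg, hint, hdim, -, -⟩ := id hX
  haveI := hint
  haveI := isProper_hom hX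
  haveI : IsLocallyNoetherian X.left := LocallyOfFiniteType.isLocallyNoetherian X.hom
  haveI : CompactSpace X.left := QuasiCompact.compactSpace_of_compactSpace X.hom
  haveI : IsNoetherian X.left := ⟨⟩
  exact isRegSurf_of hreg hdim.le

/-- Morphisms from an integral scheme agree when they agree on a nonempty open. -/
theorem hom_ext_open {A B C : Scheme.{u}} [IsIntegral A] (s : B ⟶ C) [IsSeparated s] {a b : A ⟶ B}
    (hab : a ≫ s = b ≫ s) (U : A.Opens) (hU : (U : Set A).Nonempty) (h : U.ι ≫ a = U.ι ≫ b) : a = b := by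
  haveI : IsDominant U.ι := by
    refine ⟨?_⟩
    show DenseRange U.ι
    unfold DenseRange
    rw [Scheme.Opens.range_ι]
    exact U.2.dense hU
  exact ext_of_isDominant_of_isSeparated s hab U.ι h

/-- A desingularization without contracted exceptional curves receives every desingularization. -/
theorem existsUnique_hom_of_noContractedExc (Y : Over (Spec (CommRingCat.of R))) [IsIntegral Y.left]
    [Flat Y.hom] [IsProper Y.hom] (hnor : ∀ q : Y.left, IsIntegrallyClosed (Y.left.presheaf.stalk q))
    (X : Over (Spec (CommRingCat.of R))) (hX : IsRegSurf X.left) (hXp : Neron.IsProjectiveOver R X) (g : X ⟶ Y)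
    (Ug : Y.left.Opens) (hUg : (Ug : Set Y.left).Nonempty) (hisog : IsIso (g.left ∣_ Ug))
    (hexc : NoContractedExc Y X.left g.left)
    (X' : Over (Spec (CommRingCat.of R))) (hX' : IsRegSurf X'.left) [IsProper X'.hom] (g' : X' ⟶ Y)
    (Ug' : Y.left.Opens) (hUg' : (Ug' : Set Y.left).Nonempty) (hisog' : IsIso (g'.left ∣_ Ug')) :
    ∃! h : X' ⟶ X, h ≫ g = g' := by
  haveI := hX'.1
  haveI := hX.1
  haveI := isProper_of_projective hXp
  haveI := hisog
  haveI := hisog'
  haveI : IsProper g.left := by
    haveI : IsProper (g.left ≫ Y.hom) := by rw [Over.w g]; infer_instance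
    exact IsProper.of_comp g.left Y.hom
  haveI : IsProper g'.left := by
    haveI : IsProper (g'.left ≫ Y.hom) := by rw [Over.w g']; infer_instance
    exact IsProper.of_comp g'.left Y.hom
  let U0 : Y.left.Opens := Ug ⊓ Ug'
  have hU0 : (U0 : Set Y.left).Nonempty :=
    ⟨genericPoint Y.left, genericPoint_mem Ug hUg, genericPoint_mem Ug' hUg'⟩
  haveI hi : IsIso (g.left ∣_ U0) := isIso_restrict_mono g.left (U := Ug) inf_le_left
  haveI hi' : IsIso (g'.left ∣_ U0) := isIso_restrict_mono g'.left (U := Ug') inf_le_right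
  let U' : X'.left.Opens := g'.left ⁻¹ᵁ U0
  have hU' : (U' : Set X'.left).Nonempty := by
    refine ⟨genericPoint X'.left, ?_⟩
    show g'.left.base (genericPoint X'.left) ∈ U0
    rw [show g'.left.base (genericPoint X'.left) = genericPoint Y.left from map_genericPoint g'.left Ug' hUg']
    exact genericPoint_mem U0 hU0
  let φ : (U' : Scheme.{u}) ⟶ X.left := (g'.left ∣_ U0) ≫ inv (g.left ∣_ U0) ≫ (g.left ⁻¹ᵁ U0).ι
  have hφg : φ ≫ g.left = U'.ι ≫ g'.left := by
    simp only [φ, U', Category.assoc]
    rw [← morphismRestrict_ι, IsIso.inv_hom_id_assoc, morphismRestrict_ι]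
  have hφ : φ ≫ X.hom = U'.ι ≫ X'.hom := by
    rw [← Over.w g, ← Category.assoc, hφg, Category.assoc, Over.w g']
  obtain ⟨S, f, k, hf, hk, hkU⟩ := exists_blowUps_extending excOfBlowUp X' hX' X hXp U' hU' φ hφ
  haveI := (isRegSurf_of_isContractionSeq hf hX').1
  have hkg : k ≫ g.left = f ≫ g'.left := by
    refine hom_ext_open Y.hom (by rw [Category.assoc, Category.assoc, Over.w g, Over.w g', hk]) (f ⁻¹ᵁ U')
      ?_ ?_
    · obtain ⟨V, hV, hfV⟩ := birat_of_isContractionSeq hf hX'
      haveI := hfV
      refine ⟨genericPoint S, ?_⟩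
      show f.base (genericPoint S) ∈ U'
      rw [show f.base (genericPoint S) = genericPoint X'.left from map_genericPoint f V hV]
      exact genericPoint_mem U' hU'
    · rw [← Category.assoc, hkU, Category.assoc, hφg, ← Category.assoc, morphismRestrict_ι, Category.assoc]
  obtain ⟨h, -, hh⟩ := exists_factor Y hnor X.left g.left hX ⟨Ug, hUg, hisog⟩ hexc hf g'.left hX'
    ⟨Ug', hUg', hisog'⟩ k hkg
  refine ⟨Over.homMk h (by rw [← Over.w g, ← Category.assoc, hh, Over.w g']),
    Over.OverMorphism.ext hh, fun h' hh' => Over.OverMorphism.ext ?_⟩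
  have hh'' : h'.left ≫ g.left = g'.left := congrArg CommaMorphism.left hh'
  refine hom_ext_open X.hom (by rw [Over.w h']; show _ = h ≫ X.hom; rw [← Over.w g, ← Category.assoc, hh, Over.w g']) U' hU' ?_
  refine eq_of_comp_eq_of_restrict g.left U0 (fun t => ?_) ?_
  · rw [← Scheme.Hom.comp_apply, Category.assoc, hh'', Scheme.Hom.comp_apply]
    exact t.2
  · rw [Category.assoc, Category.assoc, hh'']
    show _ = U'.ι ≫ h ≫ g.left
    rw [hh]

end Groth.Agent.ArS10
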