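import Groth.Agent.ArS10.ExcNum
import Groth.Agent.Crv77.H0Count
import Groth.Agent.ASB64.PicProj
import Groth.Agent.Amp73.Powers
import Groth.Agent.Desc59.AmpleDesc

/-!
Invertible modules on a vertical curve isomorphic to a projective line.
-/

set_option autoImplicit false
set_option linter.style.haveILetI false
set_option backward.isDefEq.respectTransparency.types false

universe u

open CategoryTheory CategoryTheory.Limits AlgebraicGeometry

noncomputable section

namespace Groth.Agent.ArS10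

variable {R : Type u} [CommRing R] [IsDomain R] [IsDiscreteValuationRing R]
  {X : Over (Spec (CommRingCat.of R))} (Γ : ArSurf.VertComp R X) {k : Type u} [Field k]
  (e : CohB1.ProjSpace 1 k ≅ Γ.curve.left)

/-- The field of constants has positive degree. -/
theorem wdeg_pos [IsProper X.hom] : 0 < Models.wdeg R X Γ := by
  letI := Crv77.topAlg (kk R) (cC Γ)
  haveI := isProper_over Γ
  haveI : Module.Finite (kk R) Γ(cC Γ, ⊤) := Crv77.finite_top (kk R) (cC Γ) (dim_le_one Γ)
  haveI : Nonempty (⊤ : (cC Γ).Opens) := ⟨⟨Classical.arbitrary _, trivial⟩⟩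
  rw [Models.wdeg, (Crv77.secAlg (kk R) (cC Γ)).finrank_eq]
  exact Module.finrank_pos

/-- The pushed forward twists. -/
abbrev oTwist (a : ℤ) : (cC Γ).Modules := (Scheme.Modules.pullback e.inv).obj (Twist.twistProjSpace 1 k a)

theorem isInvertible_oTwist (a : ℤ) : PicF.IsInvertible (oTwist Γ e a) :=
  Amp73.isInvertible_pullback _ (Var76.Reg.isInvertible_twist a)

theorem deg_oTwist_neg_one : deg Γ (oTwist Γ e (-1)) = -(Models.wdeg R X Γ : ℤ) := by
  have hs : ∀ i : ℕ, Subsingleton (Coh.HH (cC Γ) (oTwist Γ e (-1)) i) := fun i =>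
    (AbVanish7.subsingleton_HH_pullback_iff e.inv _ i).2 (S0844.result k 1 (-1) i (by omega) (by omega))
  haveI := hs 0
  haveI := hs 1
  haveI := subsingleton_hh1_of_P1 e
  simp [deg, ArSurf.curveDeg, FGA.eulerCharLE, Finset.sum_range_succ, Module.finrank_zero_of_subsingleton,
    Models.wdeg]

theorem deg_oTwist [IsProper X.hom] (a : ℤ) : deg Γ (oTwist Γ e a) = a * Models.wdeg R X Γ := by
  have hadd : ∀ a b : ℤ, deg Γ (oTwist Γ e (a + b)) = deg Γ (oTwist Γ e a) + deg Γ (oTwist Γ e b) := fun a b => by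
    obtain ⟨t⟩ := Var76.Reg.nonempty_twist_add (n := 1) (A := k) (a := a) (b := b) rfl
    rw [← deg_congr Γ ((Scheme.Modules.pullback e.inv).mapIso t),
      deg_congr Γ (Desc59.AmpleDesc.pullTensIso e.inv _ _),
      deg_tensor Γ (isInvertible_oTwist Γ e a) (isInvertible_oTwist Γ e b)]
  have h0 : deg Γ (oTwist Γ e 0) = 0 := by
    have := hadd 0 0
    rw [add_zero] at this
    omega
  have h1 := deg_oTwist_neg_one Γ e
  induction a using Int.induction_on with
  | zero => simp [h0]
  | succ n ih =>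
    have := hadd (n + 1) (-1)
    rw [show ((n : ℤ) + 1) + -1 = n by ring, ih, h1] at this
    linarith
  | pred n ih =>
    rw [sub_eq_add_neg, hadd, ih, h1]
    ring

/-- Invertible modules on the curve are classified by their degree. -/
theorem exists_iso_oTwist [IsProper X.hom] {M : (cC Γ).Modules} (hM : PicF.IsInvertible M) :
    ∃ a : ℤ, Nonempty (M ≅ oTwist Γ e a) ∧ deg Γ M = a * Models.wdeg R X Γ := by
  obtain ⟨a, ⟨φ⟩⟩ := ASB64.PicProj.exists_iso_twist ((Scheme.Modules.pullback e.hom).obj M)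
    (Amp73.isInvertible_pullback _ hM)
  have ψ : M ≅ oTwist Γ e a := ((Scheme.Modules.pullbackId _).app M).symm ≪≫
    (Scheme.Modules.pullbackCongr e.inv_hom_id.symm).app M ≪≫
    ((Scheme.Modules.pullbackComp e.inv e.hom).app M).symm ≪≫ (Scheme.Modules.pullback e.inv).mapIso φ
  exact ⟨a, ⟨ψ⟩, by rw [deg_congr Γ ψ, deg_oTwist]⟩

include e in
theorem subsingleton_h1_of_deg [IsProper X.hom] {M : (cC Γ).Modules} (hM : PicF.IsInvertible M)
    (h : -(Models.wdeg R X Γ : ℤ) ≤ deg Γ M) : Subsingleton (Coh.HH (cC Γ) M 1) := by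
  obtain ⟨a, ⟨ψ⟩, ha⟩ := exists_iso_oTwist Γ e hM
  have hw : (0 : ℤ) < Models.wdeg R X Γ := by exact_mod_cast wdeg_pos Γ
  have ha' : -1 ≤ a := by nlinarith
  haveI : Subsingleton (Coh.HH (cC Γ) (oTwist Γ e a) 1) :=
    (AbVanish7.subsingleton_HH_pullback_iff e.inv _ 1).2 (S0844.result k 1 a 1 (by omega) (by omega))
  exact subsingleton_hh_congr ψ 1

include e in
theorem trivial_of_deg_eq_zero [IsProper X.hom] {M : (cC Γ).Modules} (hM : PicF.IsInvertible M)
    (h : deg Γ M = 0) : Nonempty (M ≅ Coh.structureModule (cC Γ)) := by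
  obtain ⟨a, ⟨ψ⟩, ha⟩ := exists_iso_oTwist Γ e hM
  have hw : (0 : ℤ) < Models.wdeg R X Γ := by exact_mod_cast wdeg_pos Γ
  have ha0 : a = 0 := by
    rcases mul_eq_zero.1 (ha.symm.trans h) with h' | h'
    · exact h'
    · omega
  subst ha0
  obtain ⟨z⟩ := Var76.Reg.nonempty_twist_zero (n := 1) (A := k)
  exact ⟨ψ ≪≫ (Scheme.Modules.pullback e.inv).mapIso z ≪≫ PicLoc.pullbackStructureIso e.inv⟩

end Groth.Agent.ArS10
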