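import Groth.Agent.Div89.Ref1.Class
import Groth.Agent.Div89.NormalSheaf
import Groth.Agent.Curves2.IdealFrame
import Groth.Agent.ModPic.Kernel
import Groth.Agent.Crv77.DegreeInt

/-!
An invertible module trivial off an irreducible divisor, of degree zero for a degree not killing the
divisor, is trivial.
-/

set_option autoImplicit false
set_option linter.style.haveILetI false
set_option backward.isDefEq.respectTransparency false

universe u

open CategoryTheory CategoryTheory.Limits AlgebraicGeometry TopologicalSpace Opposite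

noncomputable section

namespace Groth.Agent.ArS10

open Div89.Ref1 Groth.Agent.QC70 Groth.Agent.Props58.LocFree

variable {X : Scheme.{u}} [IsIntegral X] [IsLocallyNoetherian X]

/-- A point of codimension one in the closure of a non-generic point is that point. -/
theorem eq_of_specializes_of_coheight_one {η x : X} (hη : η ≠ genericPoint X) (h : η ⤳ x)
    (hc : Order.coheight x = 1) : x = η := by
  by_contra hne
  have h1 : x < η := lt_iff_le_not_ge.2 ⟨h, fun h' => hne (Specializes.antisymm (h' : x ⤳ η) h).eq⟩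
  have h2 : η < genericPoint X :=
    lt_iff_le_not_ge.2 ⟨genericPoint_specializes η, fun h' => hη (Specializes.antisymm (h' : η ⤳ genericPoint X) (genericPoint_specializes η)).eq⟩
  have h3 := Order.coheight_add_one_le h1
  have h4 := Order.coheight_add_one_le h2
  rw [hc] at h3
  have h5 : (1 : ℕ∞) + 1 ≤ 1 := by
    refine le_trans ?_ h3
    refine add_le_add ?_ le_rfl
    exact le_trans le_add_self h4
  exact absurd h5 (by decide)

/-- An invertible module with a rational section whose divisor is `n` times the point `η`. -/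
def HasSord (η : X) (G : X.Modules) (n : ℤ) : Prop :=
  PicF.IsInvertible G ∧ ∃ s : G.presheaf.stalk (genericPoint X), s ≠ 0 ∧
    ∀ x : X, Order.coheight x = 1 → (x ≠ η → sord G x s = 0) ∧ (x = η → sord G x s = n)

variable {η : X}

theorem isRef1_of_invertible {G : X.Modules} (hG : PicF.IsInvertible G) : RefHull.IsRef1 G := by
  refine isRef1_of_framed ?_ (fun x => isReflexiveAt_of_framed (framed_of_isInvertible hG x))
    (framed_of_isInvertible hG _)
  exact Crv77.isCoh_of_isInvertible hG

/-- A frame off the closure of `η` gives a rational section concentrated at `η`. -/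
theorem exists_hasSord (hη : η ≠ genericPoint X) {G : X.Modules} (hG : PicF.IsInvertible G) {U : X.Opens}
    (hU : ∀ x, x ∉ U → η ⤳ x) {e : Γ(G, U)} (he : Var76.LineBundle.IsFrame G U e) :
    ∃ n : ℤ, HasSord η G n := by
  have hgU : genericPoint X ∈ U := by
    by_contra h
    exact hη ((hU _ h).antisymm (genericPoint_specializes η)).eq
  refine ⟨sord G η (germM G U (genericPoint X) hgU e), hG, germM G U (genericPoint X) hgU e,
    germM_ne_zero he _, fun x hc => ⟨fun hx => ?_, fun hx => by rw [hx]⟩⟩
  have hxU : x ∈ U := by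
    by_contra h
    exact hx (eq_of_specializes_of_coheight_one hη (hU x h) hc)
  have h := sord_frame he hgU hxU hc (1 : X.functionField) one_ne_zero
  rw [one_smul] at h
  rw [h]
  exact (Scheme.ord_eq_iff hc one_ne_zero).2 ((map_one _).trans rfl)

theorem HasSord.tensor {G H : X.Modules} {n m : ℤ} (hG : HasSord η G n) (hH : HasSord η H m) :
    HasSord η (CohB1.tensorMod G H) (n + m) := by
  obtain ⟨hGi, s, hs, hsx⟩ := hG
  obtain ⟨hHi, t, ht, htx⟩ := hH
  obtain ⟨w, hw, hwx⟩ := exists_tensor_sord G H (framed_of_isInvertible hGi _) (framed_of_isInvertible hHi _) hs ht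
  refine ⟨EGA73.isInvertible_tensorMod hGi hHi, w, hw, fun x hc => ?_⟩
  obtain ⟨-, hsum⟩ := hwx x hc (framed_of_isInvertible hGi x) (framed_of_isInvertible hHi x)
  exact ⟨fun hx => by rw [hsum, (hsx x hc).1 hx, (htx x hc).1 hx, add_zero],
    fun hx => by rw [hsum, (hsx x hc).2 hx, (htx x hc).2 hx]⟩

theorem HasSord.dual (hX : Pi1.IsNormalScheme X) {G : X.Modules} {n : ℤ} (hG : HasSord η G n) :
    HasSord η (RefHull.dual G) (-n) := by
  obtain ⟨hGi, s, hs, hsx⟩ := hG
  obtain ⟨-, θ, hθ, hθx⟩ := exists_dual_sord hX (isRef1_of_invertible hGi) hs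
  exact ⟨(Div89.exists_dual_tensor hGi).1, θ, hθ, fun x hc =>
    ⟨fun hx => by rw [hθx x hc, (hsx x hc).1 hx, neg_zero], fun hx => by rw [hθx x hc, (hsx x hc).2 hx]⟩⟩

theorem HasSord.iso_unit (hX : Pi1.IsNormalScheme X) {G : X.Modules} (hG : HasSord η G 0) :
    Nonempty (G ≅ Coh.structureModule X) := by
  obtain ⟨hGi, s, hs, hsx⟩ := hG
  obtain ⟨o, ho, hox⟩ := exists_unit_section (X := X)
  refine iso_of_sord hX (isRef1_of_invertible hGi) isRef1_structureModule hs ho fun x hc => ?_
  rw [hox x hc]
  by_cases hx : x = η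
  · exact (hsx x hc).2 hx
  · exact (hsx x hc).1 hx

theorem hasSord_unit : HasSord η (Coh.structureModule X) 0 := by
  obtain ⟨o, ho, hox⟩ := exists_unit_section (X := X)
  exact ⟨EGA73.isInvertible_structureModule, o, ho, fun x hc => ⟨fun _ => hox x hc, fun _ => hox x hc⟩⟩

/-- A module trivial off a divisor on which it has degree zero is trivial. -/
theorem nonempty_iso_unit_of_deg (hX : Pi1.IsNormalScheme X) {G J : X.Modules} {n c : ℤ}
    (hG : HasSord η G n) (hJ : HasSord η J c) (δ : X.Modules → ℤ)
    (hcongr : ∀ A B : X.Modules, Nonempty (A ≅ B) → δ A = δ B)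
    (hadd : ∀ A B : X.Modules, PicF.IsInvertible A → PicF.IsInvertible B →
      δ (CohB1.tensorMod A B) = δ A + δ B)
    (hunit : δ (Coh.structureModule X) = 0) (hGδ : δ G = 0) (hJδ : δ J ≠ 0) :
    Nonempty (G ≅ Coh.structureModule X) := by
  have hdual : ∀ {A : X.Modules}, PicF.IsInvertible A → δ (RefHull.dual A) = - δ A := fun {A} hA => by
    obtain ⟨hd, ⟨e⟩⟩ := Div89.exists_dual_tensor hA
    have := hadd _ _ hd hA
    rw [hcongr _ _ ⟨e⟩, hunit] at this
    omega
  have hnat : ∀ {A : X.Modules} {m : ℤ}, HasSord η A m → ∀ a : ℕ,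
      ∃ H : X.Modules, HasSord η H (a * m) ∧ δ H = a * δ A := by
    intro A m hA a
    induction a with
    | zero => exact ⟨_, by simpa using hasSord_unit, by simpa using hunit⟩
    | succ a ih =>
      obtain ⟨H, hH, hHδ⟩ := ih
      refine ⟨CohB1.tensorMod H A, ?_, ?_⟩
      · have e : ((a + 1 : ℕ) : ℤ) * m = (a : ℤ) * m + m := by push_cast; ring
        rw [e]
        exact hH.tensor hA
      · rw [hadd _ _ hH.1 hA.1, hHδ]
        push_cast
        ring
  have hint : ∀ {A : X.Modules} {m : ℤ}, HasSord η A m → ∀ a : ℤ,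
      ∃ H : X.Modules, HasSord η H (a * m) ∧ δ H = a * δ A := by
    intro A m hA a
    obtain ⟨b, rfl | rfl⟩ := Int.eq_nat_or_neg a
    · exact hnat hA b
    · obtain ⟨H, hH, hHδ⟩ := hnat hA b
      refine ⟨RefHull.dual H, ?_, ?_⟩
      · rw [neg_mul]
        exact hH.dual hX
      · rw [hdual hH.1, hHδ, neg_mul]
  obtain ⟨G', hG', hG'δ⟩ := hint hG c
  obtain ⟨J', hJ', hJ'δ⟩ := hint hJ (-n)
  have h0 : HasSord η (CohB1.tensorMod G' J') 0 := by
    have := hG'.tensor hJ'
    rwa [show c * n + -n * c = 0 by ring] at this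
  have hd := hcongr _ _ (h0.iso_unit hX)
  rw [hadd _ _ hG'.1 hJ'.1, hG'δ, hJ'δ, hunit, hGδ] at hd
  have hn : n = 0 := by
    rcases mul_eq_zero.1 (show n * δ J = 0 by linarith) with h | h
    · exact h
    · exact absurd h hJδ
  subst hn
  exact hG.iso_unit hX

end Groth.Agent.ArS10
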