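import Groth.Agent.ArS10.ExcVert
import Groth.Agent.ArS10.PicDivisor
import Groth.Agent.ArS10.Principalize
import Groth.Agent.Curves2.Ufd.Main
import Groth.Agent.Desc59.Pic.VectPush
import Groth.Agent.Desc59.AmpleDesc
import Groth.Agent.LC16.RelExtSerre
import Groth.Agent.S5195

/-!
The Picard sequence of the blow-up of a closed point of an arithmetic surface.
-/

set_option autoImplicit false
set_option linter.style.haveILetI false
set_option backward.isDefEq.respectTransparency false

universe u

open CategoryTheory CategoryTheory.Limits AlgebraicGeometry TopologicalSpace IsLocalRing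

noncomputable section

namespace Groth.Agent.ArS10

/-- The blow-up of an integral scheme at a point of dimension two is integral. -/
theorem isIntegral_blowUp_point {X X' : Scheme.{u}} [IsIntegral X] (π : X' ⟶ X) {x : X}
    (hy : IsClosed ({x} : Set X)) (hdim : ringKrullDim (X.presheaf.stalk x) = 2)
    (hπ : BlowUp.IsBlowUp π (Scheme.IdealSheafData.vanishingIdeal ⟨{x}, hy⟩)) : IsIntegral X' := by
  set I := Scheme.IdealSheafData.vanishingIdeal ⟨{x}, hy⟩
  haveI : IsReduced X' := Div89.isReduced_blowUp hπ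
  let U : X.Opens := ⟨{x}ᶜ, hy.isOpen_compl⟩
  haveI hπU : IsIso (π ∣_ U) := by
    have e : I.support.compl = U := by
      apply Opens.ext
      show (I.support : Set X)ᶜ = _
      rw [Scheme.IdealSheafData.coe_support_vanishingIdeal]
      rfl
    exact e ▸ Div89.isIso_off_center hπ
  have hsupp : ((I.comap π).support : Set X') = π.base ⁻¹' {x} := by
    rw [Scheme.IdealSheafData.support_comap, Closeds.coe_preimage, Scheme.IdealSheafData.coe_support_vanishingIdeal]
    rfl
  have hgx : genericPoint X ≠ x := fun e => by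
    haveI : Subsingleton X := ⟨fun a b => by
      have h1 : ∀ c : X, c = x := fun c =>
        Set.mem_singleton_iff.1 (hy.closure_eq.le (e ▸ genericPoint_specializes c : x ⤳ c).mem_closure)
      exact (h1 a).trans (h1 b).symm⟩
    have h2 : ringKrullDim (X.presheaf.stalk x) ≤ 0 := by
      rw [ringKrullDim_stalk_eq_coheight]
      exact WithBot.coe_le_coe.2 (le_of_eq (Order.coheight_eq_zero.2 fun b hb => (Subsingleton.elim b x).le))
    rw [hdim] at h2
    exact absurd h2 (by decide)
  have hU : (U : Set X).Nonempty := ⟨genericPoint X, hgx⟩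
  haveI : IrreducibleSpace X' := by
    haveI := (H98Strict.dominant_compl hπ.1).1
    haveI := (H98Strict.dominant_compl hπ.1).2
    have h1 : DenseRange (Scheme.Opens.ι (X := X') (I.comap π).support.compl) :=
      (Scheme.Opens.ι (X := X') (I.comap π).support.compl).denseRange
    unfold DenseRange at h1
    rw [Scheme.Opens.range_ι] at h1
    have hd : Dense (π.base ⁻¹' {x})ᶜ := by
      have h2 : Dense ((I.comap π).support : Set X')ᶜ := h1
      rwa [hsupp] at h2
    haveI : IrreducibleSpace U := Subtype.irreducibleSpace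
      ⟨hU, (irreducibleSpace_def X).1 inferInstance |>.2.open_subset U.2 (Set.subset_univ _)⟩
    haveI : IrreducibleSpace (π ⁻¹ᵁ U) := by
      refine (irreducibleSpace_def _).2 ?_
      show IsIrreducible (Set.univ : Set (π ⁻¹ᵁ U))
      rw [← Set.range_eq_univ.2 (inv (π ∣_ U)).surjective, ← Set.image_univ]
      exact IsIrreducible.image ((irreducibleSpace_def U).1 inferInstance) _ (inv (π ∣_ U)).continuous.continuousOn
    refine (irreducibleSpace_def X').2 ?_
    show IsIrreducible (Set.univ : Set X')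
    rw [← hd.closure_eq]
    have himg := IsIrreducible.image ((irreducibleSpace_def (π ⁻¹ᵁ U)).1 inferInstance)
      (Subtype.val : (π ⁻¹ᵁ U) → X') continuous_subtype_val.continuousOn
    rw [Set.top_eq_univ, Set.image_univ] at himg
    have e : Set.range (Subtype.val : (π ⁻¹ᵁ U) → X') = (π.base ⁻¹' {x})ᶜ := Subtype.range_coe
    exact (e ▸ himg : IsIrreducible (π.base ⁻¹' {x})ᶜ).closure
  haveI : IsIntegral X' := (isIntegral_iff_irreducibleSpace_and_isReduced X').2 ⟨inferInstance, inferInstance⟩
  infer_instance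

/-- An invertible module on a one-point scheme is trivial. -/
theorem nonempty_iso_unit_of_subsingleton {S : Scheme.{u}} [Subsingleton S] [Nonempty S] {M : S.Modules}
    (hM : PicF.IsInvertible M) : Nonempty (M ≅ Coh.structureModule S) := by
  obtain ⟨p⟩ := ‹Nonempty S›
  obtain ⟨W, hpW, ⟨t⟩⟩ := hM p
  obtain rfl : W = ⊤ := eq_top_iff.2 fun z _ => by rwa [Subsingleton.elim z p]
  haveI : IsIso (⊤ : S.Opens).ι := inferInstanceAs (IsIso S.topIso.hom)
  let w := (⊤ : S.Opens).ι
  exact ⟨((Scheme.Modules.pullbackId _).app _).symm ≪≫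
    (Scheme.Modules.pullbackCongr (IsIso.inv_hom_id w).symm).app _ ≪≫
    ((Scheme.Modules.pullbackComp (inv w) w).app _).symm ≪≫
    (Scheme.Modules.pullback (inv w)).mapIso
      (((Scheme.Modules.restrictFunctorIsoPullback w).app _).symm ≪≫ t) ≪≫ PicLoc.pullbackStructureIso _⟩

variable {R : Type u} [CommRing R] [IsDomain R] [IsDiscreteValuationRing R]

theorem pic_blowUp_point (Y : Over (Spec (CommRingCat.of R))) (hY : ArSurf.IsArithSurface R Y)
    (y : Y.left) (hy : IsClosed ({y} : Set Y.left)) (hys : Y.hom.base y = closedPoint R)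
    {X : Scheme.{u}} (f : X ⟶ Y.left)
    (hf : BlowUp.IsBlowUp f (Scheme.IdealSheafData.vanishingIdeal ⟨{y}, hy⟩))
    (E : ArSurf.VertComp R (Over.mk (f ≫ Y.hom)))
    (hE : Set.range (E.ι.base : E.curve.left → X) = f.base ⁻¹' {y}) :
    (∀ L : Y.left.Modules, PicF.IsInvertible L →
        Nonempty ((Scheme.Modules.pullback f).obj L ≅ Coh.structureModule X) →
          Nonempty (L ≅ Coh.structureModule Y.left)) ∧
      ∀ F : X.Modules, PicF.IsInvertible F →
        Nonempty ((Scheme.Modules.pullback E.ι).obj F ≅ Coh.structureModule E.curve.left) →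
          ∃ L : Y.left.Modules, PicF.IsInvertible L ∧ Nonempty ((Scheme.Modules.pullback f).obj L ≅ F) := by
  obtain ⟨hreg, hint, hdimY, hflat, -⟩ := id hY
  haveI := hint
  haveI := hflat
  haveI := isProper_hom hY
  haveI : IsLocallyNoetherian Y.left := LocallyOfFiniteType.isLocallyNoetherian Y.hom
  haveI : IsProper f := Res23.isProper_of_isBlowUp hf
  haveI : IsLocallyNoetherian X := LocallyOfFiniteType.isLocallyNoetherian f
  haveI : IsProper (Over.mk (f ≫ Y.hom)).hom := inferInstanceAs (IsProper (f ≫ Y.hom))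
  haveI : IsClosedImmersion E.ι := E.isClosedImmersion
  haveI := E.isIntegral
  have hgY : genericPoint Y.left ≠ y := fun h => genericPoint_notMem_fibre (X := Y) (h ▸ hys)
  have hmem : ∀ c : E.curve.left, f (E.ι c) = y := fun c => by
    have h1 : E.ι c ∈ f.base ⁻¹' {y} := hE ▸ ⟨c, rfl⟩
    exact h1
  obtain ⟨c, c', hcc⟩ := exists_two_points E
  have hdim := dim_eq_two_of_blowUp f hy (hreg y)
    ((FlatMor68.DedekindFlat.stalk_dim_le y).trans hdimY.le) hgY hf
    ⟨E.ι c, E.ι c', fun h => hcc (E.ι.isClosedEmbedding.injective h), hmem c, hmem c'⟩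
  haveI : IsIntegral X := isIntegral_blowUp_point f hy hdim hf
  have hXreg : ∀ z : X, IsRegularLocalRing (X.presheaf.stalk z) := isRegular_blowUp_point f hy hf hreg hdim
  have hnor : Pi1.IsNormalScheme X := fun z => by
    haveI := hXreg z
    haveI := Ega11.RegLocal.isDomain (X.presheaf.stalk z)
    haveI := RegUFD52.ufm_of_regular (X.presheaf.stalk z)
    exact ⟨inferInstance, inferInstance⟩
  have happ := Res23.BlowPointFibre.app_bijective hy (hreg y) hdim hf
  have hinj : ∀ L : Y.left.Modules, PicF.IsInvertible L →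
      Nonempty (L ≅ (Scheme.Modules.pushforward f).obj ((Scheme.Modules.pullback f).obj L)) := fun L hL => by
    haveI := Desc59.Pic.VectPush.isIso_unit (f := f) (M := L) happ (LC16.RelExtSerre.isFinLocFree_of_isInvertible hL)
    exact ⟨asIso ((Scheme.Modules.pullbackPushforwardAdjunction f).unit.app L)⟩
  refine ⟨fun L hL hiso => ?_, fun F hF hFE => ?_⟩
  · obtain ⟨a⟩ := hiso
    obtain ⟨b⟩ := hinj L hL
    obtain ⟨c⟩ := hinj (Coh.structureModule Y.left) EGA73.isInvertible_structureModule
    exact ⟨b ≪≫ (Scheme.Modules.pushforward f).mapIso (a ≪≫ (PicLoc.pullbackStructureIso f).symm) ≪≫ c.symm⟩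
  let V : Y.left.Opens := ⟨{y}ᶜ, hy.isOpen_compl⟩
  let U : X.Opens := f ⁻¹ᵁ V
  haveI hiso : IsIso (f ∣_ V) := by
    have e : (Scheme.IdealSheafData.vanishingIdeal (⟨{y}, hy⟩ : Closeds Y.left)).support.compl = V := by
      apply Opens.ext
      show ((Scheme.IdealSheafData.vanishingIdeal (⟨{y}, hy⟩ : Closeds Y.left)).support : Set Y.left)ᶜ = _
      rw [Scheme.IdealSheafData.coe_support_vanishingIdeal]
      rfl
    exact e ▸ Div89.isIso_off_center hf
  let FU := (Scheme.Modules.pullback U.ι).obj F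
  let L₀ := (Scheme.Modules.pullback (inv (f ∣_ V))).obj FU
  have hL₀ : PicF.IsInvertible L₀ := Amp73.isInvertible_pullback _ (Amp73.isInvertible_pullback _ hF)
  obtain ⟨L, hL, ⟨eL⟩⟩ := Curves2.Ufd.exists_extension V L₀ hL₀ fun x _ => by
    haveI := hreg x
    exact RegUFD52.ufm_of_regular _
  let P := (Scheme.Modules.pullback f).obj L
  have hP : PicF.IsInvertible P := Amp73.isInvertible_pullback f hL
  have ePF : (Scheme.Modules.pullback U.ι).obj P ≅ FU :=
    (Scheme.Modules.pullbackComp U.ι f).app L ≪≫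
      (Scheme.Modules.pullbackCongr (morphismRestrict_ι f V).symm).app L ≪≫
      ((Scheme.Modules.pullbackComp (f ∣_ V) V.ι).app L).symm ≪≫
      (Scheme.Modules.pullback (f ∣_ V)).mapIso
        (((Scheme.Modules.restrictFunctorIsoPullback V.ι).app L).symm ≪≫ eL) ≪≫
      (Scheme.Modules.pullbackComp (f ∣_ V) (inv (f ∣_ V))).app FU ≪≫
      (Scheme.Modules.pullbackCongr (IsIso.hom_inv_id (f ∣_ V))).app FU ≪≫ (Scheme.Modules.pullbackId _).app FU
  obtain ⟨hPd, ⟨eP⟩⟩ := Div89.exists_dual_tensor hP
  let G := CohB1.tensorMod (RefHull.dual P) F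
  have hG : PicF.IsInvertible G := EGA73.isInvertible_tensorMod hPd hF
  obtain ⟨eG, heG⟩ := ModPic.exists_frame_of_restrict_iso (L := G) U
    ((Scheme.Modules.restrictFunctorIsoPullback U.ι).app G ≪≫ Desc59.AmpleDesc.pullTensIso U.ι _ _ ≪≫
      EGA73.tensIso (Iso.refl _) ePF.symm ≪≫ (Desc59.AmpleDesc.pullTensIso U.ι _ _).symm ≪≫
      (Scheme.Modules.pullback U.ι).mapIso eP ≪≫ PicLoc.pullbackStructureIso U.ι)
  let η : X := E.ι (genericPoint E.curve.left)
  have hηgen : η ≠ genericPoint X := by
    intro h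
    obtain ⟨w, hw⟩ := (f ∣_ V).surjective ⟨genericPoint Y.left, hgY⟩
    have hwV : f w.1 ∈ V := w.2
    have h1 : f (genericPoint X) ⤳ f w.1 := (genericPoint_specializes w.1).map f.continuous
    rw [← h, hmem] at h1
    exact hwV (h1.mem_closed hy rfl)
  have hU : ∀ x, x ∉ U → η ⤳ x := fun x hx => by
    have h1 : x ∈ f.base ⁻¹' {y} := not_not.1 hx
    rw [← hE] at h1
    exact (isGenericPoint E).specializes h1
  obtain ⟨n, hGn⟩ := exists_hasSord hηgen hG hU heG
  let J := ClSub.idealMod E.ι.ker
  obtain ⟨hexc, ⟨e, he⟩, hlen⟩ := excVert Y hY y hy hys f hf E hE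
  have hJ : PicF.IsInvertible J := (Curves2.isInvertible_idealMod_iff _).2 hexc.1
  haveI : IsIso ((Scheme.Modules.restrictFunctor U.ι).map (ClSub.idealModι E.ι.ker)) := by
    refine S5195.isIso_restrict_idealModι E.ι.ker U fun x hx hs => ?_
    rw [Scheme.Hom.support_ker] at hs
    replace hs : x ∈ Set.range E.ι := E.ι.isClosedEmbedding.isClosed_range.closure_eq ▸ hs
    obtain ⟨z, hz⟩ := hs
    exact hx (by rw [← hz]; exact hmem z)
  obtain ⟨eJ, heJ⟩ := ModPic.exists_frame_of_restrict_iso (L := J) U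
    (asIso ((Scheme.Modules.restrictFunctor U.ι).map (ClSub.idealModι E.ι.ker)) ≪≫
      (Scheme.Modules.restrictFunctorIsoPullback U.ι).app _ ≪≫ PicLoc.pullbackStructureIso U.ι)
  obtain ⟨m, hJm⟩ := exists_hasSord hηgen hJ hU heJ
  let δ : X.Modules → ℤ := fun A => deg E ((Scheme.Modules.pullback E.ι).obj A)
  have hadd : ∀ A B : X.Modules, PicF.IsInvertible A → PicF.IsInvertible B →
      δ (CohB1.tensorMod A B) = δ A + δ B := fun A B hA hB =>
    (deg_congr E (Desc59.AmpleDesc.pullTensIso E.ι A B)).trans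
      (deg_tensor E (Amp73.isInvertible_pullback _ hA) (Amp73.isInvertible_pullback _ hB))
  have hunit : δ (Coh.structureModule X) = 0 :=
    (deg_congr E (PicLoc.pullbackStructureIso E.ι)).trans (deg_structureModule E)
  have hFδ : δ F = 0 := (deg_congr E hFE.some).trans (deg_structureModule E)
  have hPδ : δ P = 0 := by
    let s : Spec (Y.left.residueField y) ⟶ Y.left := Y.left.fromSpecResidueField y
    haveI : Subsingleton (Spec (Y.left.residueField y)) :=
      inferInstanceAs (Subsingleton (PrimeSpectrum (Y.left.residueField y)))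
    obtain ⟨t⟩ := nonempty_iso_unit_of_subsingleton (Amp73.isInvertible_pullback s hL)
    let g := e.inv ≫ CohB1.ProjSpace.toSpec 1 (Y.left.residueField y)
    have hg : E.ι ≫ f = g ≫ s := by
      show E.ι ≫ f = (e.inv ≫ _) ≫ _
      rw [Category.assoc, ← he, Iso.inv_hom_id_assoc]
    exact (deg_congr E ((Scheme.Modules.pullbackComp E.ι f).app L ≪≫
      (Scheme.Modules.pullbackCongr hg).app L ≪≫ ((Scheme.Modules.pullbackComp g s).app L).symm ≪≫
      (Scheme.Modules.pullback g).mapIso t ≪≫ PicLoc.pullbackStructureIso g)).trans (deg_structureModule E)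
  have hGδ : δ G = 0 := by
    have h1 : δ (RefHull.dual P) + δ P = 0 := (hadd _ _ hPd hP).symm.trans ((deg_congr E
      ((Scheme.Modules.pullback E.ι).mapIso eP)).trans hunit)
    show δ (CohB1.tensorMod (RefHull.dual P) F) = 0
    rw [hadd _ _ hPd hF, hFδ]
    omega
  have hJδ : δ J ≠ 0 := by
    obtain ⟨hJd, ⟨eJd⟩⟩ := Div89.exists_dual_tensor hJ
    have h1 := (h1_inter_of_isExcCurve R _ E hexc (RefHull.dual J) ⟨eJd⟩).2
    have h2 : δ (RefHull.dual J) + δ J = 0 := (hadd _ _ hJd hJ).symm.trans ((deg_congr E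
      ((Scheme.Modules.pullback E.ι).mapIso eJd)).trans hunit)
    have h3 : δ (RefHull.dual J) = -(Models.wdeg R (Over.mk (f ≫ Y.hom)) E : ℤ) := h1
    intro h
    have hw : Models.wdeg R (Over.mk (f ≫ Y.hom)) E = 0 := by omega
    letI : Algebra R (Y.left.residueField y) := ((Y.left.residue y).hom.comp (Models.stalkHom R Y y)).toAlgebra
    rw [hw, Nat.cast_zero, Module.length_eq_zero_iff] at hlen
    exact not_subsingleton (Y.left.residueField y) hlen
  obtain ⟨g⟩ := nonempty_iso_unit_of_deg hnor hGn hJm δ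
    (fun A B h => deg_congr E ((Scheme.Modules.pullback E.ι).mapIso h.some)) hadd hunit hGδ hJδ
  exact ⟨L, hL, Div89.inverse_unique (EGA73.tensComm _ _ ≪≫ eP) (EGA73.tensComm _ _ ≪≫ g)⟩

end Groth.Agent.ArS10
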