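import Groth.Agent.ArS10.QuadLength
import Mathlib.RingTheory.Artinian.Ring
import Mathlib.RingTheory.Filtration
import Mathlib.RingTheory.KrullDimension.Regular
import Mathlib.RingTheory.Ideal.KrullsHeightTheorem
import Mathlib.RingTheory.KrullDimension.Polynomial
import Mathlib.RingTheory.KrullDimension.Field

/-!
Colengths of ideals after removing principal factors.
-/

set_option autoImplicit false
set_option linter.style.haveILetI false

universe u

open IsLocalRing
open scoped nonZeroDivisors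

noncomputable section

namespace Groth.Agent.ArS10

variable {A C O : Type u} [CommRing A] [CommRing C] [CommRing O]

/-- The ideal is generated by a nonzerodivisor. -/
def IsPrin (J : Ideal O) : Prop := ∃ h ∈ O⁰, J = Ideal.span {h}

/-- The ideal is a principal one times an ideal of colength at most `n`. -/
def Dec (n : ℕ) (J : Ideal O) : Prop :=
  ∃ h ∈ O⁰, ∃ J' : Ideal O, J = Ideal.span {h} * J' ∧ Module.length O (O ⧸ J') ≤ n

theorem IsPrin.dec {J : Ideal O} (hJ : IsPrin J) (n : ℕ) : Dec n J := by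
  obtain ⟨h, hh, rfl⟩ := hJ
  refine ⟨h, hh, ⊤, (Ideal.mul_top _).symm, ?_⟩
  rw [Module.length_eq_zero_iff.2 (Ideal.Quotient.subsingleton_iff.2 rfl)]
  exact bot_le

theorem isPrin_of_dec_zero {J : Ideal O} (hJ : Dec 0 J) : IsPrin J := by
  obtain ⟨h, hh, J', rfl, hl⟩ := hJ
  have : J' = ⊤ := Ideal.Quotient.subsingleton_iff.1 (Module.length_eq_zero_iff.1 (le_bot_iff.1 (by exact_mod_cast hl)))
  exact ⟨h, hh, by rw [this, Ideal.mul_top]⟩

theorem length_map_le (f : C →+* O) (hf : ∀ x, ∃ c s, IsUnit (f s) ∧ x * f s = f c) (J : Ideal C) :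
    Module.length O (O ⧸ J.map f) ≤ Module.length C (C ⧸ J) := by
  rw [← WithBot.coe_le_coe, Module.coe_length, Module.coe_length]
  let g : Submodule O (O ⧸ J.map f) → Ideal C := fun N =>
    Ideal.comap f (Submodule.comap (Submodule.mkQ (J.map f)) N)
  have hJ : ∀ N, J ≤ g N := fun N c hc => by
    show Submodule.mkQ (J.map f) (f c) ∈ N
    rw [show Submodule.mkQ (J.map f) (f c) = 0 from
      (Submodule.Quotient.mk_eq_zero _).2 (Ideal.mem_map_of_mem f hc)]
    exact N.zero_mem
  have hinj : ∀ K₁ K₂ : Ideal O, K₁.comap f ≤ K₂.comap f → K₁ ≤ K₂ := fun K₁ K₂ h x hx => by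
    obtain ⟨c, s, hs, hc⟩ := hf x
    refine (Ideal.mul_unit_mem_iff_mem _ hs).1 ?_
    rw [hc]
    exact h (show f c ∈ K₁ from hc ▸ K₁.mul_mem_right _ hx)
  refine Order.krullDim_le_of_strictMono (fun N => Submodule.map (Submodule.mkQ J) (g N)) fun N₁ N₂ h => ?_
  have h1 : g N₁ ≤ g N₂ := Ideal.comap_mono (Submodule.comap_mono h.le)
  refine lt_of_le_of_ne (Submodule.map_mono h1) fun e => h.ne ?_
  have e' := congrArg (Submodule.comap (Submodule.mkQ J)) e
  simp only [Submodule.comap_map_mkQ] at e'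
  rw [sup_eq_right.2 (hJ N₁), sup_eq_right.2 (hJ N₂)] at e'
  exact Submodule.comap_injective_of_surjective (Submodule.mkQ_surjective (J.map f))
    (le_antisymm (hinj _ _ e'.le) (hinj _ _ e'.ge))

theorem map_mem_nonZeroDivisors [IsDomain O] {x : O} (h : x ≠ 0) : x ∈ O⁰ :=
  mem_nonZeroDivisors_of_ne_zero h

/-- Transport along a surjection between domains. -/
theorem Dec.map_surjective [IsDomain A] [IsDomain O] (f : A →+* O) (hf : Function.Surjective f)
    (hi : Function.Injective f) {n : ℕ} {J : Ideal A} (hJ : Dec n J) : Dec n (J.map f) := by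
  obtain ⟨h, hh, J', rfl, hl⟩ := hJ
  refine ⟨f h, mem_nonZeroDivisors_of_ne_zero fun e => nonZeroDivisors.ne_zero hh (hi (e.trans f.map_zero.symm)),
    J'.map f, ?_, (length_map_le f (fun x => ?_) J').trans hl⟩
  · rw [Ideal.map_mul, Ideal.map_span, Set.image_singleton]
  · obtain ⟨c, rfl⟩ := hf x
    exact ⟨c, 1, by simp, by simp⟩

theorem exists_pow_le [IsLocalRing A] {J : Ideal A} (hl : Module.length A (A ⧸ J) ≠ ⊤) :
    ∃ N : ℕ, maximalIdeal A ^ N ≤ J := by
  rcases eq_or_ne J ⊤ with rfl | hne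
  · exact ⟨0, le_top⟩
  obtain ⟨-, hart⟩ := isFiniteLength_iff_isNoetherian_isArtinian.1 (Module.length_ne_top_iff.1 hl)
  haveI : IsArtinianRing (A ⧸ J) := isArtinian_of_tower A hart
  obtain ⟨N, hN⟩ := IsArtinianRing.isNilpotent_jacobson_bot (R := A ⧸ J)
  refine ⟨N, fun x hx => Ideal.Quotient.eq_zero_iff_mem.1 ?_⟩
  have h1 : (maximalIdeal A).map (Ideal.Quotient.mk J) ≤ Ideal.jacobson ⊥ := by
    rw [Ideal.map_le_iff_le_comap, Ideal.comap_jacobson_of_surjective Ideal.Quotient.mk_surjective,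
      ← RingHom.ker_eq_comap_bot, Ideal.mk_ker, jacobson_eq_maximalIdeal J hne]
  have h2 := Ideal.mem_map_of_mem (Ideal.Quotient.mk J) hx
  rw [Ideal.map_pow] at h2
  exact (Submodule.mem_bot _).1 (hN.le (Ideal.pow_right_mono h1 N h2))

/-- At a proper generisation the ideal becomes principal. -/
theorem Dec.isPrin_of_generization [IsLocalRing A] [IsDomain A] [IsDomain O] (f : A →+* O)
    (hi : Function.Injective f) (hx : ∃ x ∈ maximalIdeal A, IsUnit (f x)) {n : ℕ} {J : Ideal A}
    (hJ : Dec n J) : IsPrin (J.map f) := by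
  obtain ⟨h, hh, J', rfl, hl⟩ := hJ
  obtain ⟨N, hN⟩ := exists_pow_le (ne_top_of_le_ne_top (ENat.natCast_ne_top n) hl)
  obtain ⟨x, hxm, hxu⟩ := hx
  have : J'.map f = ⊤ := Ideal.eq_top_of_isUnit_mem _ (Ideal.mem_map_of_mem f (hN (Ideal.pow_mem_pow hxm N)))
    (by rw [map_pow]; exact hxu.pow N)
  refine ⟨f h, mem_nonZeroDivisors_of_ne_zero fun e => nonZeroDivisors.ne_zero hh (hi (e.trans f.map_zero.symm)), ?_⟩
  rw [Ideal.map_mul, this, Ideal.mul_top, Ideal.map_span, Set.image_singleton]

/-- In dimension at most one every nonzero ideal of a regular local ring is principal. -/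
theorem isPrin_of_isPrincipal [IsDomain O] [IsPrincipalIdealRing O] {J : Ideal O} (hJ : J ≠ ⊥) : IsPrin J := by
  obtain ⟨g, rfl⟩ := IsPrincipalIdealRing.principal J
  exact ⟨g, mem_nonZeroDivisors_of_ne_zero fun h => hJ (by rw [h, ← Ideal.span, Ideal.span_singleton_eq_bot.2 rfl]), rfl⟩

/-- The colength drops in a quadratic transform. -/
theorem dec_step [IsDomain A] [IsLocalRing A] [IsNoetherianRing A] [IsDomain O] [Algebra A C] {a b : A}
    (hm : Ideal.span ({a, b} : Set A) = maximalIdeal A) {t : C} (hgen : Algebra.adjoin A {t} = ⊤)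
    (ht : algebraMap A C a * t = algebraMap A C b) (hnotart : ¬ IsArtinianRing A)
    (ψ : C →+* O) (hψ : ∀ x, ∃ c s, IsUnit (ψ s) ∧ x * ψ s = ψ c)
    (hinj : Function.Injective (ψ.comp (algebraMap A C))) {n : ℕ} {J : Ideal A} (hJ : Dec (n + 1) J)
    (hnp : ¬ IsPrin J) : Dec n (J.map (ψ.comp (algebraMap A C))) := by
  obtain ⟨h, hh, I, rfl, hl⟩ := hJ
  have hfin : Module.length A (A ⧸ I) ≠ ⊤ := ne_top_of_le_ne_top (ENat.natCast_ne_top (n + 1)) hl
  have hI : I ≤ maximalIdeal A := IsLocalRing.le_maximalIdeal fun e => hnp ⟨h, hh, by rw [e, Ideal.mul_top]⟩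
  have hI0 : I ≠ ⊥ := by
    rintro rfl
    obtain ⟨-, hart⟩ := isFiniteLength_iff_isNoetherian_isArtinian.1 (Module.length_ne_top_iff.1 hfin)
    haveI : IsArtinianRing (A ⧸ (⊥ : Ideal A)) := isArtinian_of_tower A hart
    exact hnotart (RingEquiv.quotientBot A).isArtinianRing
  obtain ⟨N, hN⟩ := exists_pow_le hfin
  have hex : ∃ k, ¬ I ≤ maximalIdeal A ^ k := by
    by_contra hc
    push Not at hc
    exact hI0 (le_bot_iff.1 ((Ideal.iInf_pow_eq_bot_of_isLocalRing (maximalIdeal A)
      (maximalIdeal.isMaximal A).ne_top).le.trans' (le_iInf hc)))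
  classical
  obtain ⟨r, hr⟩ : ∃ r, Nat.find hex = r + 1 := Nat.exists_eq_add_one.2 <| Nat.pos_of_ne_zero fun e => by
    have := Nat.find_spec hex
    rw [e, pow_zero, Ideal.one_eq_top] at this
    exact this le_top
  have hnot : ¬ I ≤ maximalIdeal A ^ (r + 1) := hr ▸ Nat.find_spec hex
  have hle : I ≤ maximalIdeal A ^ r := not_not.1 (Nat.find_min hex (by omega))
  have hr1 : 1 ≤ r := Nat.one_le_iff_ne_zero.2 fun e => hnot (by rw [e, pow_one]; exact hI)
  have hlt := length_transform_lt hm hgen ht I hr1 hle hnot hN hfin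
  set aC := algebraMap A C a ^ r
  set J'' := mulColon (I.map (algebraMap A C)) aC
  have hfac : I.map (algebraMap A C) = Ideal.span {aC} * J'' := by
    refine le_antisymm (fun x hx => ?_) (Ideal.span_singleton_mul_le_iff.2 fun z hz => hz)
    have hmC : (maximalIdeal A).map (algebraMap A C) ≤ Ideal.span {algebraMap A C a} := by
      rw [← hm, Ideal.map_span, Ideal.span_le]
      rintro _ ⟨z, rfl | rfl, rfl⟩
      · exact Ideal.mem_span_singleton_self _
      · rw [← ht]; exact Ideal.mem_span_singleton'.2 ⟨t, mul_comm _ _⟩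
    have h1 : x ∈ Ideal.span {aC} := by
      rw [show Ideal.span {aC} = Ideal.span {algebraMap A C a} ^ r from (Ideal.span_singleton_pow _ _).symm]
      refine Ideal.pow_right_mono hmC r ?_
      rw [← Ideal.map_pow]
      exact Ideal.map_mono hle hx
    obtain ⟨c, rfl⟩ := Ideal.mem_span_singleton'.1 h1
    exact Ideal.mem_span_singleton_mul.2 ⟨c, (show aC * c ∈ _ from mul_comm c aC ▸ hx), mul_comm _ _⟩
  have hane : a ≠ 0 := by
    rintro rfl
    refine hnot ((Ideal.map_le_iff_le_comap (f := RingHom.id A)).1 ?_ |>.trans (Ideal.comap_id _).le)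
    rw [Ideal.map_id]
    intro x hx
    have h1 : Ideal.map (ψ.comp (algebraMap A C)) I = ⊥ := by
      rw [← Ideal.map_map, hfac, show aC = (algebraMap A C 0) ^ r from rfl, map_zero, zero_pow (by omega),
        Ideal.span_singleton_eq_bot.2 rfl, Ideal.bot_mul, Ideal.map_bot]
    have h2 : ψ.comp (algebraMap A C) x = 0 := (Submodule.mem_bot _).1 (h1 ▸ Ideal.mem_map_of_mem _ hx)
    rw [hinj (h2.trans (map_zero _).symm)]
    exact zero_mem _
  refine ⟨ψ (algebraMap A C (h * a ^ r)), mem_nonZeroDivisors_of_ne_zero fun e => ?_, J''.map ψ, ?_, ?_⟩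
  · exact mul_ne_zero (nonZeroDivisors.ne_zero hh) (pow_ne_zero r hane)
      (hinj (e.trans (map_zero (ψ.comp (algebraMap A C))).symm))
  · rw [← Ideal.map_map, Ideal.map_mul, hfac, ← mul_assoc, Ideal.map_mul, Ideal.map_span, Set.image_singleton,
      Ideal.span_singleton_mul_span_singleton, Ideal.map_span, Set.image_singleton]
    simp only [aC, map_mul, map_pow]
  · refine (length_map_le ψ hψ J'').trans ?_
    refine le_trans ?_ (Order.le_of_lt_add_one (lt_of_lt_of_le hlt (by exact_mod_cast hl)))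
    rw [← WithBot.coe_le_coe, Module.coe_length, Module.coe_length]
    exact Order.krullDim_le_of_orderEmbedding (Submodule.restrictScalarsEmbedding A C (C ⧸ J''))

/-- A local domain modulo a nonzerodivisor drops dimension by at most one. -/
theorem dim_le_two_of_chart [IsNoetherianRing C] [IsLocalRing O] [IsNoetherianRing O] [Algebra C O] (P : Ideal C)
    [P.IsPrime] [IsLocalization.AtPrime O P] {K : Type u} [Field K] (θ : C →+* MvPolynomial (Fin 1) K)
    (hθ : Function.Surjective θ) {α : C} (hker : RingHom.ker θ = Ideal.span {α}) (hα : α ∈ P) :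
    ringKrullDim O ≤ 2 := by
  have h1 : ringKrullDim (C ⧸ Ideal.span {α}) ≤ 1 := by
    rw [← hker, ringKrullDim_eq_of_ringEquiv (RingHom.quotientKerEquivOfSurjective hθ),
      MvPolynomial.ringKrullDim_of_isNoetherianRing, ringKrullDim_eq_zero_of_field]
    simp
  have hαm : algebraMap C O α ∈ maximalIdeal O := (IsLocalization.AtPrime.to_map_mem_maximal_iff O P α).2 hα
  have h2 : ringKrullDim (O ⧸ Ideal.span {algebraMap C O α}) ≤ ringKrullDim (C ⧸ Ideal.span {α}) := by
    have hC : Ideal.span {α} ≤ (Ideal.span {algebraMap C O α}).comap (algebraMap C O) := by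
      rw [Ideal.span_le, Set.singleton_subset_iff]
      exact Ideal.mem_span_singleton_self _
    let g := Ideal.quotientMap _ (algebraMap C O) hC
    refine Order.krullDim_le_of_strictMono (PrimeSpectrum.comap g) fun Q₁ Q₂ h => ?_
    refine lt_of_le_of_ne (Ideal.comap_mono h.le) fun e => h.ne (PrimeSpectrum.ext ?_)
    refine Ideal.comap_injective_of_surjective _ Ideal.Quotient.mk_surjective ?_
    have h4 := congrArg (fun z : PrimeSpectrum (C ⧸ Ideal.span {α}) =>
      z.asIdeal.comap (Ideal.Quotient.mk (Ideal.span {α}))) e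
    simp only [PrimeSpectrum.comap_asIdeal, Ideal.comap_comap, g, Ideal.quotientMap_comp_mk] at h4
    simp only [← Ideal.comap_comap] at h4
    rw [← IsLocalization.map_comap P.primeCompl O (Q₁.asIdeal.comap (Ideal.Quotient.mk _)),
      ← IsLocalization.map_comap P.primeCompl O (Q₂.asIdeal.comap (Ideal.Quotient.mk _))]
    exact congrArg _ h4
  have h3 := ringKrullDim_le_ringKrullDim_quotient_add_spanFinrank (Ideal.span {algebraMap C O α})
    (by rw [Ideal.span_le, Set.singleton_subset_iff]; exact (ringJacobson_eq_maximalIdeal (R := O)) ▸ hαm)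
  refine h3.trans ?_
  have h5 : ((Ideal.span {algebraMap C O α}).spanFinrank : WithBot ℕ∞) ≤ 1 := by
    exact_mod_cast (Submodule.spanFinrank_span_le_ncard_of_finite (Set.finite_singleton _)).trans (Set.ncard_singleton _).le
  calc ringKrullDim (O ⧸ Ideal.span {algebraMap C O α}) + ((Ideal.span {algebraMap C O α}).spanFinrank : WithBot ℕ∞)
      ≤ 1 + 1 := add_le_add (h2.trans h1) h5
    _ = 2 := one_add_one_eq_two

end Groth.Agent.ArS10
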