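import Groth.Agent.EGA73.ImmersionPn
import Groth.Agent.EGA73.AmpleImmersion
import Groth.Agent.EGA73.VeryAmplePnAmple
import Groth.Agent.Amp73.QA
import Groth.Agent.Crv77.PointTwist
import Groth.Agent.Approx60.ProperDesc
import Groth.Prelude.Def_Neron

/-!
Morphisms to projective space from generated invertible modules; finite schemes over projective space are projective.
-/

set_option autoImplicit false
set_option linter.style.haveILetI false
set_option backward.isDefEq.respectTransparency.types false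

universe u

open CategoryTheory CategoryTheory.Limits AlgebraicGeometry Opposite TopologicalSpace
open Groth.Agent.Var76.LineBundle Groth.Agent.Var76.ZeroScheme

noncomputable section

namespace Groth.Agent.ArS10

variable {R : Type u} [CommRing R]

/-- A generated invertible module defines a morphism to projective space. -/
theorem exists_toProjSpace (X : Over (Spec (CommRingCat.of R))) [CompactSpace X.left] (L : X.left.Modules)
    (hL : PicF.IsInvertible L) (hgg : Curv2.IsGloballyGenerated L) :
    ∃ (n : ℕ) (φ : X.left ⟶ CohB1.ProjSpaceOver n (Spec (CommRingCat.of R))),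
      φ ≫ CohB1.ProjSpaceOver.toBase n (Spec (CommRingCat.of R)) = X.hom ∧
        Nonempty ((Scheme.Modules.pullback φ).obj (Twist.twistOver n (Spec (CommRingCat.of R)) 1) ≅ L) := by
  classical
  have hpt : ∀ x : X.left, ∃ t : Γ(L, ⊤), x ∈ CohB1.genLocus L (Var76.Frames.ofSection L t) := fun x => by
    obtain ⟨c, hc, hxc⟩ := Crv77.exists_isClosed_specializes x
    obtain ⟨t, ht⟩ := Crv77.exists_gen_of_isGloballyGenerated hL hgg hc
    exact ⟨t, hxc.mem_open (CohB1.genLocus L _).2 ht⟩
  choose t ht using hpt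
  obtain ⟨T, hT⟩ := CompactSpace.isCompact_univ.elim_finite_subcover
    (fun x : X.left => (CohB1.genLocus L (Var76.Frames.ofSection L (t x)) : Set X.left))
    (fun x => (CohB1.genLocus L _).2) fun x _ => Set.mem_iUnion.2 ⟨x, ht x⟩
  let n := T.card
  let u' : Fin (n + 1) → ProjUP.Γm L := Fin.cons 0 (fun k => t (T.equivFin.symm k))
  let Z := ULift.{u} ℤ
  let q : X.left ⟶ Spec (CommRingCat.of Z) := specULiftZIsTerminal.from X.left
  let v : (Fin (n + 1) → Z) →+ ProjUP.Γm L :=
    AddMonoidHom.mk' (fun c => ∑ k, ProjUP.toGlobal q (c k) • u' k)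
      fun a b => by simp [add_smul, Finset.sum_add_distrib]
  have hv1 : ∀ k, v (Pi.single k 1) = u' k := fun k => by
    show ∑ i, ProjUP.toGlobal q ((Pi.single k 1 : Fin (n + 1) → Z) i) • u' i = u' k
    rw [Finset.sum_eq_single k (fun i _ hi => by simp [Pi.single_eq_of_ne hi]) (by simp)]
    simp
  have hgen : ProjUP.GeneratedBy L v := EGA73.ImmersionPn.generatedBy_of_genLocus L v fun z => by
    obtain ⟨x, hx, hz⟩ := Set.mem_iUnion₂.1 (hT (Set.mem_univ z))
    refine ⟨Pi.single (Fin.succ (T.equivFin ⟨x, hx⟩)) 1, ?_⟩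
    rw [hv1]
    simp only [u', Fin.cons_succ, Equiv.symm_apply_apply]
    exact hz
  obtain ⟨r, -, τ, -⟩ := EGA73.ProjUniv.exists_to_proj (𝒮 := CohB1.polyGrading n Z) q (EGA73.PolySym.linForm_mem n Z)
    (EGA73.PolySym.isSymmetricAlgebra_linForm n Z) L hL v
    (fun a c => by
      show ∑ k, ProjUP.toGlobal q (a * c k) • u' k = ProjUP.toGlobal q a • ∑ k, ProjUP.toGlobal q (c k) • u' k
      simp only [Finset.smul_sum, smul_smul, map_mul]) hgen
  refine ⟨n, pullback.lift r X.hom (specULiftZIsTerminal.hom_ext _ _), pullback.lift_snd _ _ _, ⟨?_⟩⟩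
  exact (Scheme.Modules.pullbackComp _ _).app _ ≪≫
    (Scheme.Modules.pullbackCongr (pullback.lift_fst _ _ _)).app _ ≪≫ τ

theorem isAmple_twistOver (n : ℕ) :
    CohB1.IsAmple (Twist.twistOver n (Spec (CommRingCat.of R)) 1) :=
  haveI := Approx60.Segre.isProper_toBase n (Spec (CommRingCat.of R))
  (Amp73.isRelAmple_iff_isAmple _).1 (EGA73.VeryAmplePnAmple.isRelAmple_twistOver n (Spec (CommRingCat.of R)))

/-- A scheme finite over projective space is projective. -/
theorem isProjectiveOver_of_finite (Y : Over (Spec (CommRingCat.of R))) {n : ℕ}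
    (ψ : Y.left ⟶ CohB1.ProjSpaceOver n (Spec (CommRingCat.of R))) [IsFinite ψ]
    (hψ : ψ ≫ CohB1.ProjSpaceOver.toBase n (Spec (CommRingCat.of R)) = Y.hom) :
    Neron.IsProjectiveOver R Y := by
  haveI := Approx60.Segre.isProper_toBase n (Spec (CommRingCat.of R))
  haveI : IsProper Y.hom := by rw [← hψ]; infer_instance
  have hA := Amp73.isAmple_pullback ψ (Amp73.isQuasiAffine_of_isAffineHom ψ) (isAmple_twistOver (R := R) n)
  obtain ⟨n₀, -, hn⟩ := EGA73.AmpleImmersion.eventually_isRelVeryAmplePn Y.hom hA EGA73.isInvertible_structureModule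
  obtain ⟨m, i, hi, hif, -⟩ := hn n₀ le_rfl
  haveI := hi
  haveI := Approx60.Segre.isProper_toBase m (Spec (CommRingCat.of R))
  have hif' : i ≫ CohB1.ProjSpaceOver.toBase m (Spec (CommRingCat.of R)) = Y.hom := hif
  haveI : IsProper (i ≫ CohB1.ProjSpaceOver.toBase m (Spec (CommRingCat.of R))) := hif' ▸ inferInstance
  haveI : IsProper i := IsProper.of_comp i (CohB1.ProjSpaceOver.toBase m (Spec (CommRingCat.of R)))
  exact ⟨m, i, IsClosedImmersion.of_isPreimmersion i i.isClosedMap.isClosed_range, hif'⟩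

end Groth.Agent.ArS10
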