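import Mathlib.RingTheory.Length
import Mathlib.RingTheory.LocalRing.MaximalIdeal.Basic
import Mathlib.RingTheory.Adjoin.Polynomial.Basic
import Mathlib.Algebra.Polynomial.Degree.Lemmas

/-!
The colength of an ideal of a two-dimensional local ring drops in a quadratic transform.
-/

set_option autoImplicit false
set_option linter.style.haveILetI false

universe u

open Polynomial IsLocalRing

noncomputable section

namespace Groth.Agent.ArS10

variable {A C : Type u} [CommRing A] [CommRing C] [Algebra A C]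

/-- `{h | x * h ∈ J}`. -/
def mulColon (J : Ideal C) (x : C) : Ideal C := Submodule.comap (LinearMap.mulLeft C x) J

theorem mem_mulColon {J : Ideal C} {x h : C} : h ∈ mulColon J x ↔ x * h ∈ J := Iff.rfl

/-- An element of `(a, b) ^ r` is `a ^ r` times a polynomial of degree at most `r` in `b / a`. -/
theorem exists_poly_of_mem_pow (a b : A) (r : ℕ) {g : A} (hg : g ∈ Ideal.span ({a, b} : Set A) ^ r) :
    ∃ p : A[X], p.natDegree ≤ r ∧ g = ∑ i ∈ Finset.range (r + 1), p.coeff i * (a ^ (r - i) * b ^ i) := by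
  induction r generalizing g with
  | zero => exact ⟨Polynomial.C g, by simp, by simp⟩
  | succ r ih =>
    rw [pow_succ'] at hg
    refine Submodule.mul_induction_on hg (fun u hu v hv => ?_) fun u v => ?_
    · obtain ⟨α, β, rfl⟩ := Ideal.mem_span_pair.1 hu
      obtain ⟨p, hp, rfl⟩ := ih hv
      refine ⟨Polynomial.C α * p + Polynomial.C β * p * X, ?_, ?_⟩
      · refine natDegree_add_le_of_degree_le ?_ ?_
        · exact (natDegree_C_mul_le _ _).trans (hp.trans r.le_succ)
        · exact natDegree_mul_le.trans (Nat.add_le_add ((natDegree_C_mul_le _ _).trans hp) natDegree_X_le)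
      · have h0 : p.coeff (r + 1) = 0 := coeff_eq_zero_of_natDegree_lt (Nat.lt_succ_of_le hp)
        simp only [coeff_add, add_mul, Finset.sum_add_distrib, Finset.mul_sum]
        congr 1
        · rw [Finset.sum_range_succ _ (r + 1), coeff_C_mul, h0, mul_zero, zero_mul, add_zero]
          refine Finset.sum_congr rfl fun i hi => ?_
          rw [coeff_C_mul, Nat.succ_sub (Nat.lt_succ_iff.1 (Finset.mem_range.1 hi)), pow_succ]
          ring
        · rw [Finset.sum_range_succ' _ (r + 1), coeff_mul_X_zero, zero_mul, add_zero]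
          refine Finset.sum_congr rfl fun i _ => ?_
          rw [coeff_mul_X, coeff_C_mul, Nat.succ_sub_succ, pow_succ]
          ring
    · rintro ⟨p, hp, rfl⟩ ⟨q, hq, rfl⟩
      exact ⟨p + q, natDegree_add_le_of_degree_le hp hq, by simp [coeff_add, add_mul, Finset.sum_add_distrib]⟩

theorem algebraMap_sum_eq {a b : A} {t : C} (ht : algebraMap A C a * t = algebraMap A C b) (r : ℕ)
    (p : A[X]) : algebraMap A C (∑ i ∈ Finset.range (r + 1), p.coeff i * (a ^ (r - i) * b ^ i)) =
      algebraMap A C a ^ r * ∑ i ∈ Finset.range (r + 1), algebraMap A C (p.coeff i) * t ^ i := by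
  rw [map_sum, Finset.mul_sum]
  refine Finset.sum_congr rfl fun i hi => ?_
  have h : r = r - i + i := (Nat.sub_add_cancel (Nat.lt_succ_iff.1 (Finset.mem_range.1 hi))).symm
  simp only [map_mul, map_pow, ← ht, mul_pow]
  conv_rhs => rw [h, pow_add]
  ring

/-- If `I` has order `r ≥ 1` and contains a power of the maximal ideal `(a, b)`, the colength of its
transform in the chart `A[b / a]` is smaller than the colength of `I`. -/
theorem length_transform_lt [IsLocalRing A] [IsNoetherianRing A] {a b : A}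
    (hm : Ideal.span ({a, b} : Set A) = maximalIdeal A) {t : C} (hgen : Algebra.adjoin A {t} = ⊤)
    (ht : algebraMap A C a * t = algebraMap A C b) (I : Ideal A) {r N : ℕ} (hr : 1 ≤ r)
    (hle : I ≤ maximalIdeal A ^ r) (hnot : ¬ I ≤ maximalIdeal A ^ (r + 1)) (hN : maximalIdeal A ^ N ≤ I)
    (hfin : Module.length A (A ⧸ I) ≠ ⊤) :
    Module.length A (C ⧸ mulColon (I.map (algebraMap A C)) (algebraMap A C a ^ r)) <
      Module.length A (A ⧸ I) := by
  classical
  set J := mulColon (I.map (algebraMap A C)) (algebraMap A C a ^ r)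
  set π : C →ₐ[A] C ⧸ J := Ideal.Quotient.mkₐ A J
  have hπ : ∀ c, π c = 0 ↔ c ∈ J := fun c => Ideal.Quotient.eq_zero_iff_mem
  let S : Submodule A (C ⧸ J) := Submodule.span A (Set.range fun i : Fin (r + 1) => π t ^ (i : ℕ))
  have hS : ∀ i ≤ r, π t ^ i ∈ S := fun i hi => Submodule.subset_span ⟨⟨i, Nat.lt_succ_of_le hi⟩, rfl⟩
  let T : Submodule A (C ⧸ J) := S ⊔ LinearMap.range (a • (LinearMap.id : (C ⧸ J) →ₗ[A] C ⧸ J))
  have haT : ∀ q, a • q ∈ T := fun q => Submodule.mem_sup_right ⟨q, rfl⟩
  have hmT : ∀ x ∈ maximalIdeal A, ∀ q, x • q ∈ T := by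
    intro x hx q
    rw [← hm] at hx
    obtain ⟨α, β, rfl⟩ := Ideal.mem_span_pair.1 hx
    rw [add_smul, mul_comm α, mul_comm β, mul_smul, mul_smul]
    refine add_mem (haT _) ?_
    have : b • β • q = a • (π t * β • q) := by
      rw [Algebra.smul_def b, Algebra.smul_def a, ← π.commutes b, ← ht, map_mul, π.commutes, mul_assoc]
    rw [this]
    exact haT _
  -- the equation of degree at most `r`
  obtain ⟨f, hfI, hf⟩ := Set.not_subset.1 hnot
  obtain ⟨p, hp, hfp⟩ := exists_poly_of_mem_pow a b r (hm.symm ▸ hle hfI)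
  have hrel : ∑ i ∈ Finset.range (r + 1), p.coeff i • π t ^ i = 0 := by
    have h1 : ∑ i ∈ Finset.range (r + 1), algebraMap A C (p.coeff i) * t ^ i ∈ J := by
      rw [mem_mulColon, ← algebraMap_sum_eq ht, ← hfp]
      exact Ideal.mem_map_of_mem _ hfI
    rw [← (hπ _).2 h1, map_sum]
    exact Finset.sum_congr rfl fun i _ => by rw [map_mul, π.commutes, map_pow, Algebra.smul_def]
  obtain ⟨d, hd, hdmax⟩ : ∃ d, (d ≤ r ∧ IsUnit (p.coeff d)) ∧ ∀ i, i ≤ r → IsUnit (p.coeff i) → i ≤ d := by
    have hne : ((Finset.range (r + 1)).filter fun i => IsUnit (p.coeff i)).Nonempty := by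
      by_contra h
      refine hf ?_
      rw [Finset.not_nonempty_iff_eq_empty, Finset.filter_eq_empty_iff] at h
      rw [hfp, SetLike.mem_coe]
      refine sum_mem fun i hi => ?_
      have hir := Nat.lt_succ_iff.1 (Finset.mem_range.1 hi)
      rw [show r + 1 = 1 + ((r - i) + i) by omega,
        pow_add, pow_one, pow_add]
      refine Ideal.mul_mem_mul ((mem_maximalIdeal _).2 (h hi)) (Ideal.mul_mem_mul (Ideal.pow_mem_pow ?_ _)
        (Ideal.pow_mem_pow ?_ _)) <;> rw [← hm] <;> exact Ideal.subset_span (by simp)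
    refine ⟨_, ⟨Nat.lt_succ_iff.1 (Finset.mem_range.1 (Finset.mem_filter.1 (Finset.max'_mem _ hne)).1),
      (Finset.mem_filter.1 (Finset.max'_mem _ hne)).2⟩, fun i hi hu => Finset.le_max' _ _ ?_⟩
    exact Finset.mem_filter.2 ⟨Finset.mem_range.2 (Nat.lt_succ_of_le hi), hu⟩
  have htop : π t ^ (r + 1) ∈ T := by
    have h : ∑ i ∈ Finset.range (r + 1), p.coeff i • π t ^ (i + (r + 1 - d)) = 0 := by
      simp only [pow_add, ← smul_mul_assoc, ← Finset.sum_mul, hrel, zero_mul]
    have hmem : d ∈ Finset.range (r + 1) := Finset.mem_range.2 (Nat.lt_succ_of_le hd.1)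
    rw [← Finset.add_sum_erase _ _ hmem, Nat.add_sub_cancel' (hd.1.trans r.le_succ)] at h
    have hu : p.coeff d • π t ^ (r + 1) ∈ T := by
      rw [eq_neg_of_add_eq_zero_left h]
      refine neg_mem (sum_mem fun i hi => ?_)
      obtain ⟨hne, hi⟩ := Finset.mem_erase.1 hi
      have hir := Nat.lt_succ_iff.1 (Finset.mem_range.1 hi)
      rcases lt_or_gt_of_ne hne with hlt | hgt
      · exact T.smul_mem _ (Submodule.mem_sup_left (hS _ (by omega)))
      · exact hmT _ ((mem_maximalIdeal _).2 fun hu => absurd (hdmax i hir hu) (by omega)) _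
    obtain ⟨v, hv⟩ := hd.2
    rw [← hv] at hu
    simpa [smul_smul] using T.smul_mem (↑v⁻¹ : A) hu
  have hTtop : T = ⊤ := by
    have hmul : ∀ q ∈ T, π t * q ∈ T := by
      intro q hq
      obtain ⟨u, hu, _, ⟨w, rfl⟩, rfl⟩ := Submodule.mem_sup.1 hq
      rw [mul_add]
      refine add_mem ?_ ?_
      · clear hq
        induction hu using Submodule.span_induction with
        | mem x hx =>
          obtain ⟨i, rfl⟩ := hx
          rcases (Nat.lt_succ_iff.1 i.2).lt_or_eq with hlt | heq
          · rw [← pow_succ']; exact Submodule.mem_sup_left (hS _ hlt)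
          · rw [← pow_succ', heq]; exact htop
        | zero => simp
        | add x y _ _ hx hy => rw [mul_add]; exact add_mem hx hy
        | smul c x _ hx => rw [mul_smul_comm]; exact T.smul_mem c hx
      · rw [LinearMap.smul_apply, LinearMap.id_apply, mul_smul_comm]
        exact haT _
    have hpow : ∀ n : ℕ, π t ^ n ∈ T := by
      intro n
      induction n with
      | zero => exact Submodule.mem_sup_left (hS 0 r.zero_le)
      | succ n ih => rw [pow_succ']; exact hmul _ ih
    refine eq_top_iff.2 fun q _ => ?_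
    obtain ⟨c, rfl⟩ := Ideal.Quotient.mkₐ_surjective A J q
    obtain ⟨g, rfl⟩ : c ∈ (aeval (R := A) t).range := by
      rw [← Algebra.adjoin_singleton_eq_range_aeval, hgen]; trivial
    show π (aeval t g) ∈ T
    rw [← aeval_algHom_apply, aeval_eq_sum_range]
    exact sum_mem fun i _ => T.smul_mem _ (hpow i)
  have hnil : ∀ q : C ⧸ J, a ^ N • q = 0 := by
    intro q
    obtain ⟨c, rfl⟩ := Ideal.Quotient.mkₐ_surjective A J q
    rw [← map_smul, hπ, mem_mulColon, Algebra.smul_def]
    refine Ideal.mul_mem_left _ _ (Ideal.mul_mem_right _ _ (Ideal.mem_map_of_mem _ (hN ?_)))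
    exact Ideal.pow_mem_pow (hm ▸ Ideal.subset_span (by simp)) N
  have hStop : S = ⊤ := by
    have key : ∀ n : ℕ, ∀ q : C ⧸ J, ∃ s ∈ S, ∃ w, q = s + a ^ n • w := by
      intro n
      induction n with
      | zero => exact fun q => ⟨0, zero_mem _, q, by simp⟩
      | succ n ih =>
        intro q
        obtain ⟨s, hs, w, rfl⟩ := ih q
        obtain ⟨s', hs', _, ⟨w', rfl⟩, rfl⟩ := Submodule.mem_sup.1 (hTtop ▸ Submodule.mem_top : w ∈ T)
        refine ⟨s + a ^ n • s', add_mem hs (S.smul_mem _ hs'), w', ?_⟩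
        rw [smul_add, add_assoc, LinearMap.smul_apply, LinearMap.id_apply, smul_smul, ← pow_succ]
    refine eq_top_iff.2 fun q _ => ?_
    obtain ⟨s, hs, w, rfl⟩ := key N q
    rwa [hnil, add_zero]
  -- embed into the image of the order filtration
  let ψ : (C ⧸ J) →ₗ[A] C ⧸ I.map (algebraMap A C) :=
    ((Submodule.mapQ J (I.map (algebraMap A C)) (LinearMap.mulLeft C (algebraMap A C a ^ r))
      fun _ h => h).restrictScalars A)
  have hψ : Function.Injective ψ := (injective_iff_map_eq_zero ψ).2 fun q hq => by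
    obtain ⟨c, rfl⟩ := Ideal.Quotient.mk_surjective q
    exact Ideal.Quotient.eq_zero_iff_mem.2 (Ideal.Quotient.eq_zero_iff_mem.1 hq :)
  let L : Submodule A (A ⧸ I) := Submodule.map (Ideal.Quotient.mkₐ A I).toLinearMap (maximalIdeal A ^ r : Ideal A)
  let φ : (A ⧸ I) →ₗ[A] C ⧸ I.map (algebraMap A C) :=
    (Ideal.quotientMapₐ (I.map (algebraMap A C)) (Algebra.ofId A C) Ideal.le_comap_map).toLinearMap
  have hrange : LinearMap.range ψ ≤ L.map φ := by
    rw [LinearMap.range_eq_map, ← hStop, Submodule.map_span, Submodule.span_le]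
    rintro _ ⟨_, ⟨i, rfl⟩, rfl⟩
    refine ⟨Ideal.Quotient.mk I (a ^ (r - i) * b ^ (i : ℕ)), ⟨_, ?_, rfl⟩, ?_⟩
    · rw [SetLike.mem_coe, show maximalIdeal A ^ r = maximalIdeal A ^ (r - i) * maximalIdeal A ^ (i : ℕ) by
        rw [← pow_add, Nat.sub_add_cancel (Nat.lt_succ_iff.1 i.2)]]
      exact Ideal.mul_mem_mul (Ideal.pow_mem_pow (hm ▸ Ideal.subset_span (by simp)) _)
        (Ideal.pow_mem_pow (hm ▸ Ideal.subset_span (by simp)) _)
    · show _ = ψ (π t ^ (i : ℕ))
      rw [← map_pow]
      show Ideal.Quotient.mk _ (algebraMap A C (a ^ (r - i) * b ^ (i : ℕ))) =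
        Ideal.Quotient.mk _ (algebraMap A C a ^ r * t ^ (i : ℕ))
      refine congrArg _ ?_
      simp only [map_mul, map_pow, ← ht, mul_pow]
      rw [show algebraMap A C a ^ r = algebraMap A C a ^ (r - i) * algebraMap A C a ^ (i : ℕ) by
        rw [← pow_add, Nat.sub_add_cancel (Nat.lt_succ_iff.1 i.2)]]
      ring
  refine (Module.length_le_of_injective ψ.rangeRestrict (ψ.injective_rangeRestrict_iff.2 hψ)).trans_lt ?_
  refine (Module.length_le_of_injective (Submodule.inclusion hrange) (Submodule.inclusion_injective hrange)).trans_lt ?_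
  refine (Module.length_le_of_surjective (φ.submoduleMap L) (φ.submoduleMap_surjective L)).trans_lt ?_
  obtain ⟨h1, h2⟩ := isFiniteLength_iff_isNoetherian_isArtinian.1 (Module.length_ne_top_iff.1 hfin)
  refine Submodule.length_lt fun hL => ?_
  obtain ⟨x, hx, hx1⟩ := (hL ▸ Submodule.mem_top : (1 : A ⧸ I) ∈ L)
  have h3 : x - 1 ∈ I := Ideal.Quotient.eq_zero_iff_mem.1 (by rw [map_sub, map_one, sub_eq_zero]; exact hx1)
  have hr' : maximalIdeal A ^ r ≤ maximalIdeal A := Ideal.pow_le_self (by omega)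
  exact (maximalIdeal.isMaximal A).ne_top ((Ideal.eq_top_iff_one _).2
    (by simpa using sub_mem (hr' hx) (hr' (hle h3))))

end Groth.Agent.ArS10
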