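import Groth.Agent.ArS10.Principalize
import Groth.Agent.ArS10.HorizDiv
import Groth.Agent.Hilb85.Glue

/-!
The indeterminacy ideal of a tuple of rational functions.
-/

set_option autoImplicit false
set_option linter.style.haveILetI false
set_option backward.isDefEq.respectTransparency.types false

universe u

open CategoryTheory CategoryTheory.Limits AlgebraicGeometry TopologicalSpace IsLocalRing
open scoped nonZeroDivisors

noncomputable section

namespace Groth.Agent.ArS10

/-- An ideal sheaf from locally finitely generated stalk ideals. -/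
theorem exists_idealSheaf_of_stalks {X : Scheme.{u}} (S : ∀ x : X, Ideal (X.presheaf.stalk x))
    (h : ∀ x : X, ∃ W : X.affineOpens, x ∈ W.1 ∧ ∃ I : Ideal Γ(X, W.1),
      ∀ y (hy : y ∈ W.1), I.map (X.presheaf.germ W.1 y hy).hom = S y) :
    ∃ J : X.IdealSheafData, ∀ x, Div89.stalkIdeal J x = S x := by
  let K : ∀ W : X.affineOpens, Ideal Γ(X, W.1) := fun W =>
    ⨅ (y : X) (hy : y ∈ W.1), (S y).comap (X.presheaf.germ W.1 y hy).hom
  have hK : ∀ (W : X.affineOpens) y (hy : y ∈ W.1), (K W).map (X.presheaf.germ W.1 y hy).hom ≤ S y :=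
    fun W y hy => Ideal.map_le_iff_le_comap.2 (iInf₂_le y hy)
  let small : X.affineOpens → Prop := fun W =>
    ∀ y (hy : y ∈ W.1), (K W).map (X.presheaf.germ W.1 y hy).hom = S y
  have hle : ∀ {V W : X.affineOpens} (hWV : W.1 ≤ V.1),
      (K V).map (Hilb85.resHom hWV) ≤ K W := fun {V W} hWV => by
    refine le_iInf₂ fun y hy => ?_
    rw [← Ideal.map_le_iff_le_comap, Ideal.map_map]
    refine le_trans (le_of_eq ?_) (hK V y (hWV hy))
    congr 1
    rw [Hilb85.resHom, ← CommRingCat.hom_comp, TopCat.Presheaf.germ_res]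
  have hdown : ∀ {V W : X.affineOpens}, W.1 ≤ V.1 → small V → small W := fun {V W} hWV hV y hy => by
    refine le_antisymm (hK W y hy) ((hV y (hWV hy)).ge.trans ?_)
    refine le_trans (le_of_eq ?_) (Ideal.map_mono (hle hWV))
    rw [Ideal.map_map, Hilb85.resHom, ← CommRingCat.hom_comp, TopCat.Presheaf.germ_res]
  have compat : ∀ {V W : X.affineOpens} (hWV : W.1 ≤ V.1) (_ : small V),
      (K V).map (Hilb85.resHom hWV) = K W := fun {V W} hWV hV => by
    rw [IsAffineOpen.ideal_ext_iff W.2]
    intro y hy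
    rw [Ideal.map_map, hdown hWV hV y hy, Hilb85.resHom, ← CommRingCat.hom_comp, TopCat.Presheaf.germ_res,
      hV y (hWV hy)]
  have hcov : ∀ p : X, ∃ W, small W ∧ p ∈ W.1 := fun p => by
    obtain ⟨W, hpW, I, hI⟩ := h p
    refine ⟨W, fun y hy => le_antisymm (hK W y hy) ((hI y hy).ge.trans (Ideal.map_mono ?_)), hpW⟩
    exact le_iInf₂ fun z hz => Ideal.map_le_iff_le_comap.1 (hI z hz).le
  obtain ⟨J, hJ⟩ := Hilb85.exists_idealSheaf (small := small) hdown (K := fun W _ => K W) compat hcov
  refine ⟨J, fun x => ?_⟩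
  obtain ⟨W, hW, hxW⟩ := hcov x
  rw [Div89.stalkIdeal_eq J W x hxW, hJ W hW]
  exact hW x hxW

section Denominators

variable {O K : Type u} [CommRing O] [Field K] (ι : O →+* K) {n : ℕ} (a : Fin n → K)

/-- Denominators of the tuple. -/
def IsDenom (d : O) : Prop := ∀ i, ∃ z, ι z = ι d * a i

/-- The ideal generated by denominators times entries. -/
def fracIdeal : Ideal O := Ideal.span {z | ∃ d, IsDenom ι a d ∧ ∃ j, ι z = ι d * a j}



theorem map_fracIdeal {C : Type u} [CommRing C] (g : C →+* O)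
    (hloc : ∀ x : O, ∃ c s, IsUnit (g s) ∧ x * g s = g c)
    (hinj : Function.Injective (ι.comp g)) :
    (fracIdeal (ι.comp g) a).map g = fracIdeal ι a := by
  refine le_antisymm ?_ (Ideal.span_le.2 ?_)
  · rw [fracIdeal, Ideal.map_span, Ideal.span_le]
    rintro _ ⟨z, ⟨d, hd, j, hz⟩, rfl⟩
    exact Ideal.subset_span ⟨g d, fun i => (hd i).elim fun w hw => ⟨g w, hw⟩, j, hz⟩
  · rintro z ⟨d, hd, j, hz⟩
    obtain ⟨c, s, hs, hc⟩ := hloc d
    choose w hw using hd
    choose cw sw hsw hcw using fun i => hloc (w i)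
    classical
    let P := s * ∏ i, sw i
    have hP : IsUnit (g P) := by
      simp only [P, map_mul, map_prod]
      exact hs.mul (Finset.prod_induction _ IsUnit (fun _ _ => IsUnit.mul) isUnit_one fun i _ => hsw i)
    have key : ∀ i, ι (g (cw i * (s * ∏ k ∈ Finset.univ.erase i, sw k))) = ι (g (c * ∏ k, sw k)) * a i := by
      intro i
      rw [map_mul g c, ← hc, map_mul g (cw i), ← hcw i, map_mul g s,
        ← Finset.mul_prod_erase Finset.univ sw (Finset.mem_univ i), map_mul g (sw i)]
      simp only [map_mul]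
      linear_combination (ι (g (sw i)) * ι (g s) * ι (g (∏ k ∈ Finset.univ.erase i, sw k))) * hw i
    refine (Ideal.mul_unit_mem_iff_mem _ hP).1 ?_
    have e : z * g P = g (cw j * (s * ∏ k ∈ Finset.univ.erase j, sw k)) := by
      have hzw : ι z = ι (w j) := hz.trans (hw j).symm
      have e0 : ι (g P) = ι (g s) * (ι (g (sw j)) * ι (g (∏ k ∈ Finset.univ.erase j, sw k))) := by
        simp only [P]
        rw [← Finset.mul_prod_erase Finset.univ sw (Finset.mem_univ j)]
        simp only [map_mul]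
      have hw' : w j * g P = g (cw j * (s * ∏ k ∈ Finset.univ.erase j, sw k)) := by
        simp only [P]
        rw [← Finset.mul_prod_erase Finset.univ sw (Finset.mem_univ j)]
        simp only [map_mul, ← hcw j]
        ring
      rw [← hw']
      have hιinj : z * g P = w j * g P := by
        obtain ⟨cz, sz, hsz, hcz⟩ := hloc z
        refine hP.mul_left_inj.2 ?_
        obtain ⟨cw', sw', hsw', hcw'⟩ := hloc (w j)
        refine (hsz.mul hsw').mul_left_inj.1 ?_
        have : cz * sw' = cw' * sz := hinj (by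
          simp only [RingHom.comp_apply, map_mul, ← hcz, ← hcw', hzw]
          ring)
        have h2 := congrArg g this
        simp only [map_mul, ← hcz, ← hcw'] at h2
        linear_combination h2
      exact hιinj
    rw [e]
    exact Ideal.mem_map_of_mem g (Ideal.subset_span ⟨c * ∏ k, sw k, fun i => ⟨_, key i⟩, j, key j⟩)

end Denominators

/-- A nonzero ideal of a regular local ring of dimension at most two is principal times finite colength. -/
theorem exists_dec {O : Type u} [CommRing O] [IsRegularLocalRing O] (hdim : ringKrullDim O ≤ 2)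
    {J : Ideal O} (hJ : J ≠ ⊥) : ∃ n, Dec n J := by
  haveI := Ega11.RegLocal.isDomain O
  haveI := RegUFD52.ufm_of_regular O
  let T : Set (Ideal O) := {J' | ∃ h : O, h ≠ 0 ∧ J = Ideal.span {h} * J'}
  obtain ⟨J', ⟨h, hh, hJ'⟩, hmax⟩ := set_has_maximal_iff_noetherian.2 (inferInstance : IsNoetherian O O) T
    ⟨J, 1, one_ne_zero, by rw [Ideal.span_singleton_one, Ideal.top_mul]⟩
  have hJ'0 : J' ≠ ⊥ := fun e => hJ (by rw [hJ', e, Ideal.mul_bot])
  have hkey : ∀ p : O, Prime p → ¬ J' ≤ Ideal.span {p} := by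
    intro p hp hle
    let J'' : Ideal O := mulColon J' p
    have e : J' = Ideal.span {p} * J'' := by
      refine le_antisymm (fun x hx => ?_) (Ideal.span_singleton_mul_le_iff.2 fun z hz => hz)
      obtain ⟨c, rfl⟩ := Ideal.mem_span_singleton'.1 (hle hx)
      exact Ideal.mem_span_singleton_mul.2 ⟨c, (show p * c ∈ J' from mul_comm c p ▸ hx), mul_comm _ _⟩
    have hle' : J' ≤ J'' := fun x hx => Ideal.mul_mem_left J' _ hx
    refine hmax J'' ⟨h * p, mul_ne_zero hh hp.ne_zero, ?_⟩ (lt_of_le_of_ne hle' fun he => hJ'0 ?_)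
    · rw [hJ', e, ← mul_assoc, Ideal.span_singleton_mul_span_singleton]
    · refine Submodule.eq_bot_of_le_smul_of_le_jacobson_bot (Ideal.span {p}) J' (IsNoetherian.noetherian J') ?_ ?_
      · rw [smul_eq_mul]
        conv_lhs => rw [e]
        rw [← he]
      · rw [Ideal.span_singleton_le_iff_mem, IsLocalRing.jacobson_eq_maximalIdeal ⊥ bot_ne_top]
        exact (mem_maximalIdeal p).2 hp.not_isUnit
  have hprime : ∀ P : Ideal O, P.IsPrime → J' ≤ P → P.IsMaximal := by
    intro P hP hle
    have hP0 : P ≠ ⊥ := fun e => hJ'0 (le_bot_iff.1 (e ▸ hle))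
    obtain ⟨p, hpP, hp⟩ := hP.exists_mem_prime_of_ne_bot hP0
    haveI : (Ideal.span {p}).IsPrime := (Ideal.span_singleton_prime hp.ne_zero).2 hp
    have hlt : Ideal.span {p} < P :=
      lt_of_le_of_ne ((Ideal.span_singleton_le_iff_mem _).2 hpP) fun e => hkey p hp (e ▸ hle)
    by_contra hPm
    exact false_of_chain hdim Ideal.isPrime_bot (inferInstanceAs (Ideal.span {p}).IsPrime) hP
      (maximalIdeal.isMaximal O).isPrime
      (bot_lt_iff_ne_bot.2 fun e => hp.ne_zero (Ideal.span_singleton_eq_bot.1 e)) hlt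
      (lt_of_le_of_ne (IsLocalRing.le_maximalIdeal hP.ne_top) fun e => hPm (e ▸ maximalIdeal.isMaximal O))
  haveI : Ring.KrullDimLE 0 (O ⧸ J') := Ring.KrullDimLE.mk₀ fun Q hQ => by
    have := hprime (Q.comap (Ideal.Quotient.mk J')) (Ideal.IsPrime.comap _)
      fun x hx => by rw [Ideal.mem_comap, Ideal.Quotient.eq_zero_iff_mem.2 hx]; exact Q.zero_mem
    rw [← Ideal.map_comap_of_surjective _ Ideal.Quotient.mk_surjective Q]
    exact Ideal.IsMaximal.map_of_surjective_of_ker_le Ideal.Quotient.mk_surjective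
      (fun x hx => by rw [Ideal.mem_comap, hx]; exact Q.zero_mem)
  haveI : IsArtinianRing (O ⧸ J') := isArtinianRing_iff_isNoetherianRing_krullDimLE_zero.2 ⟨inferInstance, inferInstance⟩
  have hlen : Module.length O (O ⧸ J') ≠ ⊤ := Module.length_ne_top_iff.2
    (isFiniteLength_iff_isNoetherian_isArtinian.2 ⟨inferInstance,
      isArtinian_of_surjective_algebraMap (R := O ⧸ J') (Ideal.Quotient.mk_surjective (I := J'))⟩)
  obtain ⟨m, hm⟩ := ENat.ne_top_iff_exists.1 hlen
  exact ⟨m, h, mem_nonZeroDivisors_of_ne_zero hh, J', hJ', hm.ge⟩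

theorem Dec.mono {O : Type u} [CommRing O] {m n : ℕ} (hmn : m ≤ n) {J : Ideal O} (hJ : Dec m J) : Dec n J := by
  obtain ⟨g, hg, J', he, hl⟩ := hJ
  exact ⟨g, hg, J', he, hl.trans (by exact_mod_cast hmn)⟩

/-- The indeterminacy ideal sheaf of a tuple of rational functions on a regular surface. -/
theorem exists_ratIdeal {X : Scheme.{u}} (hX : IsRegSurf X) [IsIntegral X] {m : ℕ} (a : Fin m → X.functionField)
    (ha : ∃ j, a j ≠ 0) :
    ∃ (J : X.IdealSheafData) (n : ℕ), (∀ x, Div89.stalkIdeal J x ≠ ⊥) ∧ (∀ x, Dec n (Div89.stalkIdeal J x)) ∧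
      ∀ x, Div89.stalkIdeal J x = fracIdeal (algebraMap (X.presheaf.stalk x) X.functionField) a := by
  classical
  haveI := hX.2.1
  obtain ⟨J, hJ⟩ := exists_idealSheaf_of_stalks
    (fun x => fracIdeal (algebraMap (X.presheaf.stalk x) X.functionField) a) fun x => by
    obtain ⟨W, hxW⟩ := Div89.exists_affine_mem x
    haveI : Nonempty W.1 := ⟨⟨x, hxW⟩⟩
    refine ⟨W, hxW, fracIdeal (X.germToFunctionField W.1).hom a, fun y hy => ?_⟩
    letI := Div89.stalkAlg W.1 y hy
    haveI := Div89.isLocalization_stalk W y hy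
    have e : (algebraMap (X.presheaf.stalk y) X.functionField).comp (X.presheaf.germ W.1 y hy).hom =
        (X.germToFunctionField W.1).hom := by
      refine RingHom.ext fun g => ?_
      exact X.presheaf.germ_stalkSpecializes_apply hy _ g
    rw [← e]
    refine map_fracIdeal _ a _ (fun z => ?_) (e ▸ Scheme.germToFunctionField_injective X W.1)
    obtain ⟨⟨c, s⟩, hs⟩ := IsLocalization.surj (Div89.primeAt W y hy).primeCompl z
    exact ⟨c, s, IsLocalization.map_units (X.presheaf.stalk y) s, hs⟩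
  have hne : ∀ x, Div89.stalkIdeal J x ≠ ⊥ := fun x h => by
    rw [hJ] at h
    obtain ⟨j, hj⟩ := ha
    obtain ⟨d, hd⟩ := IsLocalization.exist_integer_multiples (nonZeroDivisors (X.presheaf.stalk x)) Finset.univ a
    choose z hz using fun i => (hd i (Finset.mem_univ i) : ∃ z, algebraMap (X.presheaf.stalk x) X.functionField z = _)
    have hz0 : z j ∈ fracIdeal (algebraMap (X.presheaf.stalk x) X.functionField) a :=
      Ideal.subset_span ⟨d, fun i => ⟨z i, (hz i).trans (Algebra.smul_def _ _)⟩, j, (hz j).trans (Algebra.smul_def _ _)⟩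
    rw [h, Submodule.mem_bot] at hz0
    have h2 := hz j
    rw [hz0, map_zero, Algebra.smul_def] at h2
    exact hj ((mul_eq_zero.1 h2.symm).resolve_left
      ((map_ne_zero_iff _ (IsFractionRing.injective _ _)).2 (nonZeroDivisors.ne_zero d.2)))
  have hd : ∀ x, ∃ n, Dec n (Div89.stalkIdeal J x) := fun x => by
    haveI := hX.2.2.1 x
    exact exists_dec (hX.2.2.2 x) (hne x)
  choose N hN using hd
  have hfin := finite_not_isPrin J fun x => ⟨_, hN x⟩
  refine ⟨J, hfin.toFinset.sup N, hne, fun x => ?_, hJ⟩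
  by_cases hx : IsPrin (Div89.stalkIdeal J x)
  · exact hx.dec _
  · exact (hN x).mono (Finset.le_sup (hfin.mem_toFinset.2 hx))

end Groth.Agent.ArS10
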