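import Groth.Agent.ArS10.Kernel
import Groth.Agent.MP99.Ops

/-!
A function on a subscheme vanishing on a smaller one gives a section of the inverse image of the ideal.
-/

set_option autoImplicit false
set_option linter.style.haveILetI false
set_option backward.isDefEq.respectTransparency.types false

universe u

open CategoryTheory CategoryTheory.Limits AlgebraicGeometry TopologicalSpace Opposite
open scoped nonZeroDivisors
open Groth.Agent.Var76 (LineBundle.res LineBundle.res_res LineBundle.res_smul)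

noncomputable section

namespace Groth.Agent.ArS10

/-- A function on `V(J')` read on an open of the ambient scheme. -/
def restr {X : Scheme.{u}} (J : X.IdealSheafData) (U : X.Opens) (f : Γ(J.subscheme, ⊤)) :
    Γ(J.subscheme, J.subschemeι ⁻¹ᵁ U) :=
  J.subscheme.presheaf.map (homOfLE le_top).op f

theorem restr_res {X : Scheme.{u}} (J : X.IdealSheafData) {U W : X.Opens} (h : W ≤ U)
    (f : Γ(J.subscheme, ⊤)) (a : Γ(X, U)) (ha : J.subschemeι.app U a = restr J U f) :
    J.subschemeι.app W (X.presheaf.map (homOfLE h).op a) = restr J W f := by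
  rw [← ConcreteCategory.comp_apply, J.subschemeι.naturality, ConcreteCategory.comp_apply, ha, restr, restr,
    ← ConcreteCategory.comp_apply, ← Functor.map_comp]
  rfl

theorem exists_lift {X : Scheme.{u}} (J : X.IdealSheafData) (U : X.affineOpens) (f : Γ(J.subscheme, ⊤)) :
    ∃ a : Γ(X, U.1), J.subschemeι.app U.1 a = restr J U.1 f :=
  J.subschemeι_app_surjective U _

theorem app_eq_zero_iff {X : Scheme.{u}} (J : X.IdealSheafData) (U : X.affineOpens) (a : Γ(X, U.1)) :
    J.subschemeι.app U.1 a = 0 ↔ a ∈ J.ideal U := by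
  rw [← RingHom.mem_ker, J.ker_subschemeι_app U]

variable {X C : Scheme.{u}} (ι : C ⟶ X) [IsClosedImmersion ι] {J J' : X.IdealSheafData}

theorem pullS_eq_zero (M : X.Modules) (U : X.affineOpens) (i : Γ(X, U.1)) (hi : i ∈ ι.ker.ideal U)
    (m : Γ(M, U.1)) : Amp73.pullS ι M U.1 (i • m) = 0 := by
  have h0 : ι.app U.1 i = 0 := by rwa [Scheme.Hom.ker_apply] at hi
  rw [Amp73.pullS_smul, h0, zero_smul]

/-- The section of `ι^* J` given by a function on `V(J')` vanishing on `V(J)`. -/
theorem exists_section (hJ : BlowUp.IsEffCartierIdeal J) (hJ' : J' = J * ι.ker) (f : Γ(J'.subscheme, ⊤))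
    (hf : ∀ (U : X.affineOpens) (a : Γ(X, U.1)), J'.subschemeι.app U.1 a = restr J' U.1 f → a ∈ J.ideal U)
    (hne : f ≠ 0) : Nontrivial Γ((Scheme.Modules.pullback ι).obj (ClSub.idealMod J), ⊤) := by
  let M := (Scheme.Modules.pullback ι).obj (ClSub.idealMod J)
  choose U hxU g hg hspan using hJ
  choose e he using fun x => Curves2.exists_idealSect_of_mem J (U x) (hspan x ▸ Ideal.mem_span_singleton_self (g x))
  have hfr := fun x => Curves2.isFrame_of_span J (U x) (hg x) (hspan x) (e x) (he x)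
  choose a ha using fun x => exists_lift J' (U x) f
  choose c hc using fun x => Ideal.mem_span_singleton'.1 (hspan x ▸ hf (U x) (a x) (ha x))
  let s : ∀ x : X, Γ(M, ι ⁻¹ᵁ (U x).1) := fun x => Amp73.pullS ι (ClSub.idealMod J) (U x).1 (c x • e x)
  have hsect : ∀ (x : X) (W : X.Opens) (h : W ≤ (U x).1),
      OmegaSh.idealSect J W (LineBundle.res (ClSub.idealMod J) h (c x • e x)) =
        X.presheaf.map (homOfLE h).op (a x) := fun x W h => by
    rw [Curves2.idealSect_res, Omega57.idealSect_smul, he, hc]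
  have hloc : ∀ (x y : X) (W : X.affineOpens) (hx : W.1 ≤ (U x).1) (hy : W.1 ≤ (U y).1),
      Amp73.pullS ι (ClSub.idealMod J) W.1 (LineBundle.res (ClSub.idealMod J) hx (c x • e x)) =
        Amp73.pullS ι (ClSub.idealMod J) W.1 (LineBundle.res (ClSub.idealMod J) hy (c y • e y)) := by
    intro x y W hx hy
    let d := X.presheaf.map (homOfLE hx).op (a x) - X.presheaf.map (homOfLE hy).op (a y)
    have hd : d ∈ J'.ideal W := (app_eq_zero_iff J' W d).1 (by
      rw [map_sub, restr_res J' hx f _ (ha x), restr_res J' hy f _ (ha y), sub_self])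
    have hW : J.ideal W = Ideal.span {X.presheaf.map (homOfLE hx).op (g x)} := by
      rw [← Scheme.IdealSheafData.map_ideal J (U := W) (V := U x) hx, hspan x, Ideal.map_span, Set.image_singleton]
      rfl
    rw [hJ', Scheme.IdealSheafData.ideal_mul, Pi.mul_apply, hW, Ideal.mem_span_singleton_mul] at hd
    obtain ⟨i, hi, hdi⟩ := hd
    have key : LineBundle.res (ClSub.idealMod J) hx (c x • e x) =
        LineBundle.res (ClSub.idealMod J) hy (c y • e y) + i • LineBundle.res (ClSub.idealMod J) hx (e x) := by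
      refine Omega57.idealSect_injective J W.1 ?_
      rw [map_add, Omega57.idealSect_smul, hsect, hsect, Curves2.idealSect_res, he]
      show _ = _ + i * X.presheaf.map (homOfLE hx).op (g x)
      rw [mul_comm, hdi]
      exact (add_sub_cancel _ _).symm
    rw [key]
    exact (map_add _ _ _).trans ((congrArg (_ + ·) (pullS_eq_zero ι (ClSub.idealMod J) W i hi _)).trans (add_zero _))
  obtain ⟨t, ht, -⟩ := TopCat.Sheaf.existsUnique_gluing' ⟨M.presheaf, M.isSheaf⟩ (fun x => ι ⁻¹ᵁ (U x).1) ⊤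
    (fun x => homOfLE le_top) (fun z _ => Opens.mem_iSup.2 ⟨ι z, hxU (ι z)⟩) s (fun x y => by
      refine QC70.section_ext M _ _ fun z hz => ?_
      obtain ⟨W, hW, hzW, hle⟩ := exists_isAffineOpen_mem_and_subset
        (show ι z ∈ (U x).1 ⊓ (U y).1 from ⟨hz.1, hz.2⟩)
      refine ⟨(ι ⁻¹ᵁ (U x).1 ⊓ ι ⁻¹ᵁ (U y).1) ⊓ ι ⁻¹ᵁ W, inf_le_left, ⟨hz, hzW⟩, ?_⟩
      have h := congrArg (LineBundle.res M (inf_le_right : (ι ⁻¹ᵁ (U x).1 ⊓ ι ⁻¹ᵁ (U y).1) ⊓ ι ⁻¹ᵁ W ≤ ι ⁻¹ᵁ W))
        (hloc x y ⟨W, hW⟩ (hle.trans Set.inter_subset_left) (hle.trans Set.inter_subset_right))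
      rw [← Amp73.res_pullS, ← Amp73.res_pullS, LineBundle.res_res, LineBundle.res_res] at h
      exact (QC70.res_res _ _ _).trans (h.trans (QC70.res_res _ _ _).symm))
  refine ⟨t, 0, fun h0 => hne ?_⟩
  refine TopCat.Sheaf.eq_of_locally_eq' J'.subscheme.sheaf (fun x : X => J'.subschemeι ⁻¹ᵁ (U x).1) ⊤
    (fun x => homOfLE le_top) (fun z _ => Opens.mem_iSup.2 ⟨J'.subschemeι z, hxU _⟩) f 0 fun x => ?_
  refine Eq.trans ?_ (map_zero _).symm
  have hs0 : Amp73.pullS ι (ClSub.idealMod J) (U x).1 (c x • e x) = 0 :=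
    (ht x).symm.trans ((congrArg _ h0).trans (map_zero _))
  rw [Amp73.pullS_smul] at hs0
  have hfr' := Amp73.isFrame_pullS ι ((Curves2.isInvertible_idealMod_iff J).2 fun z => ⟨U z, hxU z, g z, hg z, hspan z⟩)
    (hfr x)
  have hzero : ι.app (U x).1 (c x) = 0 := (hfr' _ le_rfl).1 (by simpa [LineBundle.res] using hs0)
  have hmem : c x ∈ ι.ker.ideal (U x) := by
    rw [Scheme.Hom.ker_apply]; exact hzero
  show restr J' (U x).1 f = 0
  rw [← ha x, app_eq_zero_iff, hJ', Scheme.IdealSheafData.ideal_mul, Pi.mul_apply, ← hc x, mul_comm (c x) (g x)]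
  exact Ideal.mul_mem_mul (hspan x ▸ Ideal.mem_span_singleton_self (g x)) hmem

end Groth.Agent.ArS10
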